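import Mathlib

/-!
A simple group of order 168 acting on elementary abelian groups of order at most 16: the natural
module of dimension three, and the two kinds of modules of dimension four.
-/

set_option autoImplicit false

namespace Cfsg.Agent.Block.RankFourL32

/-- The elementary abelian group of order eight. -/
abbrev V3 : Type := Multiplicative (Fin 3 → ZMod 2)

/-- Coordinates. -/
def mk3 (a b c : ZMod 2) : V3 := Multiplicative.ofAdd ![a, b, c]

theorem sq_one_v3 : ∀ x : V3, x * x = 1 := by decide

/-- The standard basis. -/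
def e1 : V3 := mk3 1 0 0
/-- The standard basis. -/
def e2 : V3 := mk3 0 1 0
/-- The standard basis. -/
def e3 : V3 := mk3 0 0 1

/-- The linear map with the given matrix rows. -/
def linFun (f : (Fin 3 → ZMod 2) → (Fin 3 → ZMod 2)) (x : V3) : V3 :=
  Multiplicative.ofAdd (f (Multiplicative.toAdd x))

/-- The regular unipotent element. -/
def autJ : MulAut V3 where
  toFun := linFun fun v => ![v 0 + v 1, v 1 + v 2, v 2]
  invFun := linFun fun v => ![v 0 + v 1 + v 2, v 1 + v 2, v 2]
  left_inv := by decide
  right_inv := by decide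
  map_mul' := by decide

/-- A transvection inverting the regular unipotent element. -/
def autK : MulAut V3 where
  toFun := linFun fun v => ![v 0 + v 1, v 1, v 2]
  invFun := linFun fun v => ![v 0 + v 1, v 1, v 2]
  left_inv := by decide
  right_inv := by decide
  map_mul' := by decide

/-- A transvection fixing the first basis vector. -/
def autA : MulAut V3 where
  toFun := linFun fun v => ![v 0 + v 2, v 1, v 2]
  invFun := linFun fun v => ![v 0 + v 2, v 1, v 2]
  left_inv := by decide
  right_inv := by decide
  map_mul' := by decide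

/-- The exchange of the last two coordinates. -/
def autS : MulAut V3 where
  toFun := linFun fun v => ![v 0, v 2, v 1]
  invFun := linFun fun v => ![v 0, v 2, v 1]
  left_inv := by decide
  right_inv := by decide
  map_mul' := by decide

/-- A transvection fixing the first basis vector. -/
def autB : MulAut V3 where
  toFun := linFun fun v => ![v 0, v 1, v 1 + v 2]
  invFun := linFun fun v => ![v 0, v 1, v 1 + v 2]
  left_inv := by decide
  right_inv := by decide
  map_mul' := by decide

/-- A transvection fixing the first basis vector. -/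
def autC : MulAut V3 where
  toFun := linFun fun v => ![v 0, v 1 + v 2, v 2]
  invFun := linFun fun v => ![v 0, v 1 + v 2, v 2]
  left_inv := by decide
  right_inv := by decide
  map_mul' := by decide

theorem autJ_sq : autJ * autJ = autA := by
  refine MulEquiv.ext ?_; decide

theorem autJ_four : autJ ^ 4 = 1 := by
  refine MulEquiv.ext ?_; decide

theorem autK_sq : autK * autK = 1 := by
  refine MulEquiv.ext ?_; decide

theorem autK_invert : autK * autJ * autK⁻¹ = autJ⁻¹ := by
  refine MulEquiv.ext ?_; decide

/-- A triple spanning `V3`, as a predicate. -/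
def IsBasis3 (p : V3 × V3 × V3) : Prop :=
  p.1 ≠ 1 ∧ p.2.1 ≠ 1 ∧ p.2.1 ≠ p.1 ∧ p.2.2 ≠ 1 ∧ p.2.2 ≠ p.1 ∧ p.2.2 ≠ p.2.1 ∧ p.2.2 ≠ p.1 * p.2.1

instance (p : V3 × V3 × V3) : Decidable (IsBasis3 p) := by unfold IsBasis3; infer_instance

theorem card_basis3 : Nat.card {p : V3 × V3 × V3 // IsBasis3 p} ≤ 168 := by
  rw [Nat.card_eq_fintype_card]; decide +kernel

theorem aut_ext {f f' : MulAut V3} (h1 : f e1 = f' e1) (h2 : f e2 = f' e2) (h3 : f e3 = f' e3) :
    f = f' := by
  refine MulEquiv.ext fun x => ?_
  have hx : ∀ x : V3, ∃ a b c : Fin 2, x = e1 ^ (a : ℕ) * e2 ^ (b : ℕ) * e3 ^ (c : ℕ) := by decide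
  obtain ⟨a, b, c, rfl⟩ := hx x
  simp [h1, h2, h3]

theorem aut_isBasis3 (f : MulAut V3) : IsBasis3 (f e1, f e2, f e3) := by
  have h1 : ∀ x, x ≠ 1 → f x ≠ 1 := fun x hx h => hx ((map_eq_one_iff f f.injective).1 h)
  refine ⟨h1 _ (by decide), h1 _ (by decide), fun h => absurd (f.injective h) (by decide),
    h1 _ (by decide), fun h => absurd (f.injective h) (by decide),
    fun h => absurd (f.injective h) (by decide), fun h => ?_⟩
  have h' : f e3 = f (e1 * e2) := by rw [map_mul]; exact h
  exact absurd (f.injective h') (by decide)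

theorem card_aut_le : Nat.card (MulAut V3) ≤ 168 := by
  let F : MulAut V3 → {p : V3 × V3 × V3 // IsBasis3 p} := fun f => ⟨_, aut_isBasis3 f⟩
  refine le_trans (Nat.card_le_card_of_injective F fun f f' h => ?_) card_basis3
  have h' := congrArg Subtype.val h
  simp only [F, Prod.mk.injEq] at h'
  exact aut_ext h'.1 h'.2.1 h'.2.2

theorem exists_model {V : Type*} [Group V] (hV : ∀ a : V, a * a = 1) (h8 : Nat.card V = 8) :
    Nonempty (V3 ≃* V) := by
  classical
  have : Finite V := Nat.finite_of_card_ne_zero (by omega)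
  have := Fintype.ofFinite V
  have hcard : Fintype.card V = 8 := by rw [← Nat.card_eq_fintype_card]; exact h8
  have hex : ∀ s : Finset V, s.card < 8 → ∃ a, a ∉ s := fun s hs => by
    by_contra! h
    have := Finset.card_univ (α := V) ▸ Finset.card_le_card (fun x _ => h x : Finset.univ ⊆ s)
    omega
  obtain ⟨a, ha⟩ := hex {1} (by simp)
  obtain ⟨b, hb⟩ := hex {1, a} (lt_of_le_of_lt Finset.card_le_two (by norm_num))
  obtain ⟨c, hc⟩ := hex {1, a, b, a * b} (lt_of_le_of_lt Finset.card_le_four (by norm_num))
  simp only [Finset.mem_insert, Finset.mem_singleton, not_or] at ha hb hc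
  have hinv : ∀ x : V, x⁻¹ = x := fun x => inv_eq_of_mul_eq_one_right (hV x)
  have hcomm : ∀ x y : V, x * y = y * x := fun x y => by
    rw [← hinv (x * y), mul_inv_rev, hinv, hinv]
  let cg : CommGroup V := { (inferInstance : Group V) with mul_comm := hcomm }
  have hpow : ∀ (x : V) (k l : ZMod 2), x ^ (k + l).val = x ^ k.val * x ^ l.val := fun x k l => by
    rw [ZMod.val_add, ← pow_add]
    exact (pow_eq_pow_mod _ (by rw [sq]; exact hV x)).symm
  let f : V3 →* V :=
    { toFun := fun x => a ^ (Multiplicative.toAdd x 0).val * b ^ (Multiplicative.toAdd x 1).val *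
        c ^ (Multiplicative.toAdd x 2).val
      map_one' := by simp
      map_mul' := fun x y => by
        simp only [toAdd_mul, Pi.add_apply, hpow]
        exact mul_mul_mul_comm _ _ _ _ |>.trans (by simp only [mul_assoc, mul_left_comm, mul_comm]) }
  have hne : ∀ x y : V, x ≠ y → x * y ≠ 1 := fun x y hxy h => hxy (by
    rw [eq_inv_of_mul_eq_one_left h, hinv])
  have hf : Function.Injective f := by
    rw [injective_iff_map_eq_one]
    intro x hx
    have hcases : ∀ x : V3, ∃ i j k : Fin 2, x = mk3 (i : ℕ) (j : ℕ) (k : ℕ) := by decide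
    obtain ⟨i, j, k, rfl⟩ := hcases x
    fin_cases i <;> fin_cases j <;> fin_cases k <;>
      simp [f, mk3, ZMod.val_one] at hx ⊢ <;>
      first
        | rfl
        | exact absurd hx ha
        | exact absurd hx hb.1
        | exact absurd hx hc.1
        | exact absurd hx (hne _ _ (Ne.symm hb.2))
        | exact absurd hx (hne _ _ (Ne.symm hc.2.1))
        | exact absurd hx (hne _ _ (Ne.symm hc.2.2.1))
        | exact absurd hx (hne _ _ (Ne.symm hc.2.2.2))
  refine ⟨MulEquiv.ofBijective f ((Nat.bijective_iff_injective_and_card _).2 ⟨hf, ?_⟩)⟩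
  rw [h8, Nat.card_eq_fintype_card]; rfl

end Cfsg.Agent.Block.RankFourL32
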