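import Mathlib
import Cfsg.Agent.Lib.Block.RankFourL32.Model

/-!
Lifts to coordinates modulo four of the unipotent elements of order four and two of the natural
module, and the linear algebra behind the exclusion of the homocyclic group of order sixty-four.
-/

set_option autoImplicit false

namespace Cfsg.Agent.Block.RankFourL32

/-- Coordinates modulo four. -/
abbrev V4 : Type := ZMod 4 × ZMod 4 × ZMod 4

/-- Reduction modulo two. -/
def red (c : V4) : V3 := e1 ^ c.1.val * e2 ^ c.2.1.val * e3 ^ c.2.2.val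

/-- A lift of the regular unipotent element before normalization. -/
def mU (u c : V4) : V4 := (c.1 + c.2.1 + u.1 * c.1, c.2.1 + c.2.2 + u.2.1 * c.1, c.2.2 + u.2.2 * c.1)

/-- A lift of the regular unipotent element. -/
def mH (a : Fin 2) (c : V4) : V4 :=
  (c.1 + c.2.1 + 2 * ((a : ℕ) : ZMod 4) * c.1, c.2.1 + c.2.2 + 2 * c.1, c.2.2)

/-- Its square. -/
def mG (a : Fin 2) (c : V4) : V4 := mH a (mH a c)

/-- Its inverse. -/
def mH3 (a : Fin 2) (c : V4) : V4 := mH a (mG a c)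

/-- A lift of the inverting transvection. -/
def mK (a w : Fin 2) (c : V4) : V4 :=
  (c.1 + (1 + 2 * ((a : ℕ) : ZMod 4)) * c.2.1 + 2 * ((w : ℕ) : ZMod 4) * c.2.2, -c.2.1, -c.2.2)

/-- The small central subgroup. -/
abbrev InC (c : V4) : Prop := c.2.1 = 0 ∧ c.2.2 = 0 ∧ c.1 + c.1 = 0

/-- The subgroup moved into the small central subgroup. -/
abbrev InL (c : V4) : Prop := c.2.1 + c.2.1 = 0 ∧ c.2.2 + c.2.2 = 0

/-- The invariant separating the two admissible commutators. -/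
def chi (c : V4) : ZMod 4 := c.2.1 - 2 * c.1

theorem two_mul_two : (2 : ZMod 4) * 2 = 0 := rfl

theorem InC.add {c d : V4} (hc : InC c) (hd : InC d) : InC (c + d) := by
  obtain ⟨h1, h2, h3⟩ := hc
  obtain ⟨h1', h2', h3'⟩ := hd
  refine ⟨?_, ?_, ?_⟩ <;> simp only [Prod.fst_add, Prod.snd_add]
  · rw [h1, h1', add_zero]
  · rw [h2, h2', add_zero]
  · linear_combination h3 + h3'

theorem chi_add (c d : V4) : chi (c + d) = chi c + chi d := by
  simp only [chi, Prod.fst_add, Prod.snd_add]; ring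

theorem u_cases : ∀ u : V4, u + u = 0 → mU u (mU u (mU u (mU u (0, 0, 1)))) = (0, 0, 1) →
    ∃ a : Fin 2, u = (2 * ((a : ℕ) : ZMod 4), 2, 0) := by decide +kernel

theorem u_not_neg : ∀ u : V4, u + u = 0 → mU u (mU u (mU u (mU u (0, 0, 1)))) ≠ -(0, 0, 1) := by
  decide +kernel

theorem mU_eq_mH : ∀ (a : Fin 2) (c : V4), mU (2 * ((a : ℕ) : ZMod 4), 2, 0) c = mH a c := by
  decide +kernel

theorem mU_expand : ∀ u : V4, u + u = 0 → ∀ c : V4,
    c.1.val • (u + (1, 0, 0)) + c.2.1.val • ((1, 1, 0) : V4) + c.2.2.val • ((0, 1, 1) : V4) = mU u c := by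
  decide +kernel

theorem mH_four : ∀ (a : Fin 2) (c : V4), mH a (mH3 a c) = c := by decide +kernel

theorem mK_values : ∀ a w : Fin 2,
    mH3 a (2 * ((w : ℕ) : ZMod 4), 0, 3) - (2 * ((w : ℕ) : ZMod 4), 0, 3) = mK a w (0, 1, 0) ∧
      mH3 a (mK a w (0, 1, 0)) - mK a w (0, 1, 0) = mK a w (1, 0, 0) ∧
      (2 * ((w : ℕ) : ZMod 4), 0, 3) = mK a w (0, 0, 1) := by decide +kernel

theorem mK_expand : ∀ (a w : Fin 2) (c : V4),
    c.1.val • mK a w (1, 0, 0) + c.2.1.val • mK a w (0, 1, 0) + c.2.2.val • mK a w (0, 0, 1)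
      = mK a w c := by decide +kernel

theorem shift_inC : ∀ a : Fin 2, InC ((0, 1, 0) + mG a (0, 1, 0)) := by decide +kernel

theorem inC_fixed : ∀ (a w : Fin 2) (c : V4), InC c → mG a c = c ∧ mK a w c = c := by decide +kernel

theorem inL_moved : ∀ (a w : Fin 2) (c : V4), InL c →
    InC (mG a c - c) ∧ InC (mK a w c - c) ∧ InC (c + c) := by decide +kernel

theorem inC_inL : ∀ c : V4, InC c → InL c := by decide +kernel

/-- The fourth power is even unless the parameter is one. -/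
theorem parity (a w : Fin 2) (η β : V4) (hη : mH a η = η)
    (h : mK a w η = β + mH3 a β + mG a (β + mH3 a β) - η) : a = 1 ∨ η.1 + η.1 = 0 := by
  have hN : ∀ (a : Fin 2) (β : V4), a = 0 → β + mH3 a β + mG a (β + mH3 a β) = 0 := by decide +kernel
  have hK : ∀ (w : Fin 2) (η : V4), mH 0 η = η → mK 0 w η = -η → η.1 + η.1 = 0 := by decide +kernel
  rcases Fin.exists_fin_two.1 ⟨a, rfl⟩ with ha | ha
  · subst ha
    rw [hN 0 β rfl, zero_sub] at h
    exact Or.inr (hK w η hη h)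
  · exact Or.inl ha

/-- The correcting element. -/
def corr (η : V4) : V4 := (0, 0, η.1)

theorem corr_inC (a : Fin 2) (η : V4) (hη : mH a η = η) (hp : a = 1 ∨ η.1 + η.1 = 0) :
    InC (corr η + mG a (corr η) + η) := by
  have h : ∀ (a : Fin 2) (η : V4), mH a η = η → (a = 1 ∨ η.1 + η.1 = 0) →
      InC (corr η + mG a (corr η) + η) := by decide +kernel
  exact h a η hη hp

/-- The commutator of the two corrected involutions is, up to a shift, in the small subgroup. -/
theorem commutator_inC (a w : Fin 2) (η β ζ r : V4) (hη : mH a η = η) (hp : a = 1 ∨ η.1 + η.1 = 0)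
    (hb : mK a w β - mH a β = ζ - mH a ζ) (hr : InC (r + mK a w r + ζ)) :
    InC (r + mK a w (corr η) + (β + mH3 a β - η) - mG a r - corr η) ∨
      InC (mK a w (0, 1, 0) + (r + mK a w (corr η) + (β + mH3 a β - η) - mG a r - corr η)
        - (0, 1, 0)) := by
  obtain ⟨r1, r2, r3⟩ := hr
  -- the coordinates of the second square
  have hz23 : ζ.2.1 = 0 ∧ ζ.2.2 = 0 ∧ 2 * ζ.1 + 2 * r.2.1 = 0 := by
    simp only [mK, Prod.fst_add, Prod.snd_add] at r1 r2 r3
    refine ⟨by linear_combination r1, by linear_combination r2, ?_⟩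
    linear_combination r3 - (r.1 + ((a : ℕ) : ZMod 4) * r.2.1
      + ((w : ℕ) : ZMod 4) * r.2.2) * two_mul_two
  obtain ⟨hz2, hz3, hzr⟩ := hz23
  have hbdec : ∀ (a w : Fin 2) (z : ZMod 4) (β : V4), mK a w β - mH a β = (z, 0, 0) - mH a (z, 0, 0) →
      β.2.2 + β.2.2 = 0 ∧ 2 * β.1 + 2 * β.2.1 - β.2.2 = 2 * z := by decide +kernel
  have hζ : ζ = (ζ.1, 0, 0) := Prod.ext rfl (Prod.ext hz2 hz3)
  rw [hζ] at hb
  obtain ⟨hb3, hb12⟩ := hbdec a w ζ.1 β hb
  -- the invariants of the summands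
  have d1 : ∀ (a : Fin 2) (β : V4), chi (β + mH3 a β) = 2 * β.1 + 2 * β.2.1 - β.2.2 ∧
      (β + mH3 a β).2.2 = β.2.2 + β.2.2 := by decide +kernel
  have d2 : ∀ (a : Fin 2) (η : V4), mH a η = η → (a = 1 ∨ η.1 + η.1 = 0) →
      chi (-η) = 0 ∧ (-η).2.2 = 2 * η.1 := by decide +kernel
  have d3 : ∀ (a : Fin 2) (r : V4), chi (r - mG a r) = 2 * r.2.1 ∧ (r - mG a r).2.2 = 0 := by
    decide +kernel
  have d4 : ∀ (a w : Fin 2) (x : ZMod 4), chi (mK a w (0, 0, x) - (0, 0, x)) = 0 ∧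
      (mK a w (0, 0, x) - (0, 0, x)).2.2 = 2 * x := by decide +kernel
  set f := r + mK a w (corr η) + (β + mH3 a β - η) - mG a r - corr η with hf
  have hsum : f = (β + mH3 a β) + -η + (r - mG a r) + (mK a w (corr η) - corr η) := by
    rw [hf]; abel
  have hchi : chi f = 0 := by
    rw [hsum, chi_add, chi_add, chi_add, (d1 a β).1, (d2 a η hη hp).1, (d3 a r).1,
      show corr η = (0, 0, η.1) from rfl, (d4 a w η.1).1, hb12]
    linear_combination hzr
  have hthird : f.2.2 = 0 := by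
    rw [hsum, Prod.snd_add, Prod.snd_add, Prod.snd_add, Prod.snd_add, Prod.snd_add, Prod.snd_add,
      (d1 a β).2, (d2 a η hη hp).2, (d3 a r).2, show corr η = (0, 0, η.1) from rfl, (d4 a w η.1).2]
    linear_combination hb3 + η.1 * two_mul_two
  have hend : ∀ (a w : Fin 2) (f : V4), chi f = 0 → f.2.2 = 0 →
      InC f ∨ InC (mK a w (0, 1, 0) + f - (0, 1, 0)) := by decide +kernel
  exact hend a w f hchi hthird

end Cfsg.Agent.Block.RankFourL32
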