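import Mathlib
import Cfsg.Agent.Lib.Block.RankFourA5.Rank
import Cfsg.Agent.Lib.Block.RankFourL32.Model

/-!
Sections generated by two involutions of a dihedral group of order eight and a subgroup acting
trivially: the contradiction used against a large normal two-subgroup.
-/

set_option autoImplicit false

namespace Cfsg.Agent.Block.RankFourL32

open scoped commutatorElement
open RankFourA5 (card_le_mul_of_squares)

/-- An involution conjugating the transvection to the product of the two generators. -/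
def autT : MulAut V3 where
  toFun := linFun fun v => ![v 0, v 0 + v 1, v 2]
  invFun := linFun fun v => ![v 0, v 0 + v 1, v 2]
  left_inv := by decide
  right_inv := by decide
  map_mul' := by decide

theorem autS_conj : autS * autA * autS⁻¹ = autK := by
  refine MulEquiv.ext ?_; decide

theorem autT_conj : autT * autA * autT⁻¹ = autK * autJ := by
  refine MulEquiv.ext ?_; decide

/-- A subgroup generated by commuting involutions modulo a central subgroup is bounded. -/
theorem card_le_of_generators {Y : Type*} [Group Y] (h4 : Cfsg.SectionalPRankLE 2 4 Y)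
    (C : Subgroup Y) (S : Set Y) (hC : C ≤ Subgroup.closure S)
    (hcen : ∀ s ∈ S, ∀ c ∈ C, s * c = c * s) (hsq : ∀ s ∈ S, s * s ∈ C)
    (hcomm : ∀ s ∈ S, ∀ s' ∈ S, ⁅s, s'⁆ ∈ C) :
    Nat.card (Subgroup.closure S) ≤ 16 * Nat.card C := by
  set U := Subgroup.closure S
  have hcenU : ∀ u ∈ U, ∀ c ∈ C, u * c = c * u := by
    have hle : U ≤ Subgroup.centralizer (C : Set Y) := by
      rw [Subgroup.closure_le]
      intro s hs
      rw [SetLike.mem_coe, Subgroup.mem_centralizer_iff]
      exact fun c hc => (hcen s hs c hc).symm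
    intro u hu c hc
    exact (Subgroup.mem_centralizer_iff.1 (hle hu) c hc).symm
  -- commutators with the generators
  have hstep : ∀ s ∈ S, ∀ u ∈ U, ⁅s, u⁆ ∈ C := by
    intro s hs u hu
    induction hu using Subgroup.closure_induction with
    | mem a ha => exact hcomm s hs a ha
    | one => simp
    | mul a b ha hb iha ihb =>
      rw [show ⁅s, a * b⁆ = ⁅s, a⁆ * (a * ⁅s, b⁆ * a⁻¹) by simp only [commutatorElement_def]; group,
        hcenU a ha _ ihb, mul_inv_cancel_right]
      exact C.mul_mem iha ihb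
    | inv a ha iha =>
      rw [show ⁅s, a⁻¹⁆ = a⁻¹ * ⁅s, a⁆⁻¹ * a by simp only [commutatorElement_def]; group,
        hcenU a⁻¹ (U.inv_mem ha) _ (C.inv_mem iha), mul_assoc, inv_mul_cancel, mul_one]
      exact C.inv_mem iha
  have hall : ∀ v ∈ U, ∀ u ∈ U, ⁅v, u⁆ ∈ C := by
    intro v hv u hu
    induction hv using Subgroup.closure_induction with
    | mem a ha => exact hstep a ha u hu
    | one => simp
    | mul a b ha hb iha ihb =>
      rw [show ⁅a * b, u⁆ = a * ⁅b, u⁆ * a⁻¹ * ⁅a, u⁆ by simp only [commutatorElement_def]; group,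
        hcenU a ha _ ihb, mul_inv_cancel_right]
      exact C.mul_mem ihb iha
    | inv a ha iha =>
      rw [show ⁅a⁻¹, u⁆ = a⁻¹ * ⁅a, u⁆⁻¹ * a by simp only [commutatorElement_def]; group,
        hcenU a⁻¹ (U.inv_mem ha) _ (C.inv_mem iha), mul_assoc, inv_mul_cancel, mul_one]
      exact C.inv_mem iha
  refine card_le_mul_of_squares h4 U C hC hcenU fun u hu => ?_
  induction hu using Subgroup.closure_induction with
  | mem a ha => exact hsq a ha
  | one => simp
  | mul a b ha hb iha ihb =>
    rw [show a * b * (a * b) = a * (b * a * b⁻¹ * a⁻¹) * a⁻¹ * (a * a) * (b * b) by group,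
      hcenU a ha (b * a * b⁻¹ * a⁻¹) (hall b hb a ha), mul_inv_cancel_right]
    exact C.mul_mem (C.mul_mem (hall b hb a ha) iha) ihb
  | inv a ha iha =>
    rw [← mul_inv_rev]
    exact C.inv_mem iha

/-- Two lifts of the involutions enlarge a subgroup of the kernel fourfold. -/
theorem four_mul_card_le {Y : Type*} [Group Y] [Finite Y] (γ : Y →* MulAut V3) (L U : Subgroup Y)
    (hL : ∀ l ∈ L, γ l = 1) (hLU : L ≤ U) (g k : Y) (hg : γ g = autA) (hk : γ k = autK)
    (hgU : g ∈ U) (hkU : k ∈ U) : 4 * Nat.card L ≤ Nat.card U := by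
  have hdist : ∀ i j i' j' : Fin 2,
      autA ^ (i : ℕ) * autK ^ (j : ℕ) = autA ^ (i' : ℕ) * autK ^ (j' : ℕ) → i = i' ∧ j = j' := by
    have hdec : ∀ i j i' j' : Fin 2,
        (autA ^ (i : ℕ) * autK ^ (j : ℕ)) e3 = (autA ^ (i' : ℕ) * autK ^ (j' : ℕ)) e3 →
        (autA ^ (i : ℕ) * autK ^ (j : ℕ)) e2 = (autA ^ (i' : ℕ) * autK ^ (j' : ℕ)) e2 →
        i = i' ∧ j = j' := by
      decide
    exact fun i j i' j' h => hdec i j i' j' (by rw [h]) (by rw [h])
  let F : (Fin 2 × Fin 2) × L → U := fun p =>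
    ⟨p.2 * (g ^ (p.1.1 : ℕ) * k ^ (p.1.2 : ℕ)),
      U.mul_mem (hLU p.2.2) (U.mul_mem (U.pow_mem hgU _) (U.pow_mem hkU _))⟩
  have hF : Function.Injective F := by
    rintro ⟨⟨i, j⟩, l⟩ ⟨⟨i', j'⟩, l'⟩ h
    have h' := congrArg (fun u : U => (u : Y)) h
    simp only [F] at h'
    have hγ := congrArg γ h'
    simp only [map_mul, map_pow, hL _ l.2, hL _ l'.2, hg, hk, one_mul] at hγ
    obtain ⟨rfl, rfl⟩ := hdist i j i' j' hγ
    exact Prod.ext rfl (Subtype.ext (mul_right_cancel h'))
  have h := Nat.card_le_card_of_injective F hF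
  rwa [Nat.card_prod, Nat.card_prod, Nat.card_fin] at h

end Cfsg.Agent.Block.RankFourL32
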