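import Mathlib
import Cfsg.Agent.Lib.Block.RankFourL32.Section
import Cfsg.Agent.Lib.Block.RankFourL32.Coordinates

/-!
No normal homocyclic subgroup of order sixty-four over the natural module.
-/

set_option autoImplicit false

namespace Cfsg.Agent.Block.RankFourL32

open scoped commutatorElement

theorem red_zero : red 0 = 1 := by decide

theorem red_cases : ∀ c : V4, red c = 1 → ∃ d : V4, c = d + d := by decide +kernel

theorem red_double : ∀ d : V4, red d = 1 → d + d = 0 := by decide +kernel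

theorem red_e1_double : ∀ c : V4, red c = e1 → c + c = (2, 0, 0) := by decide +kernel

theorem red_e3_shift : ∀ c : V4, red c = e3 → ∃ d : V4, c = (0, 0, 1) + (d + d) := by decide +kernel

theorem double_autK : ∀ d d' : V4, red d' = autK (red d) →
    d' + d' = (2 * (d.1 + d.2.1), 2 * d.2.1, 2 * d.2.2) := by decide +kernel

theorem eps_dec : ∀ (v : V4) (x y z : ZMod 4), red v = e3 →
    InC ((0, 0, 1) + (2 * x, 2 * y, 2 * z) + (v + (2 * (x + y), 2 * y, 2 * z))) →
    ∃ w : Fin 2, v = (2 * ((w : ℕ) : ZMod 4), 0, 3) := by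
  have h : ∀ v : V4, red v = e3 → ∀ y : Fin 2,
      InC ((0, 0, 1) + v + (2 * ((y : ℕ) : ZMod 4), 0, 0)) →
      ∃ w : Fin 2, v = (2 * ((w : ℕ) : ZMod 4), 0, 3) := by decide +kernel
  intro v x y z hv hC
  have h4 : (4 : ZMod 4) = 0 := rfl
  have hy : ∀ y : ZMod 4, ∃ j : Fin 2, 2 * y = 2 * ((j : ℕ) : ZMod 4) := by decide
  obtain ⟨j, hj⟩ := hy y
  refine h v hv j ?_
  rw [← hj]
  convert hC using 1
  refine Prod.ext ?_ (Prod.ext ?_ ?_) <;> simp only [Prod.fst_add, Prod.snd_add]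
  · linear_combination (-x) * h4
  · linear_combination (-y) * h4
  · linear_combination (-z) * h4

theorem card_inC : Nat.card {c : V4 // InC c} = 2 := by
  rw [Nat.card_eq_fintype_card]; decide +kernel

theorem card_inL : Nat.card {c : V4 // InL c} = 16 := by
  rw [Nat.card_eq_fintype_card]; decide +kernel

/-- A normal homocyclic subgroup of order sixty-four over the natural module forces a section of
rank five. -/
theorem exclude_homocyclic {Y : Type*} [Group Y] [Finite Y] (h4 : Cfsg.SectionalPRankLE 2 4 Y)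
    (γ : Y →* MulAut V3) (hγ : Function.Surjective γ) (P : Subgroup Y) [P.Normal]
    (hPc : ∀ a ∈ P, ∀ b ∈ P, a * b = b * a) (h64 : Nat.card P = 64) (ε : P →* V3)
    (hε : Function.Surjective ε) (hεk : ∀ p : P, ε p = 1 ↔ p * p = 1)
    (hεe : ∀ (y : Y) (p : P), ε (MulAut.conjNormal y p) = γ y (ε p))
    (hR : ∀ s, γ s = 1 → s * s ∈ P ∧ ∀ y : Y, ⁅y, s⁆ ∈ P) (h : Y) (hh : γ h = autJ)
    (hh4 : h * h * (h * h) ∈ P ∨
      ∀ p ∈ P, h * h * (h * h) * p * (h * h * (h * h))⁻¹ = p⁻¹) : False := by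
  let cg : CommGroup P :=
    { (inferInstance : Group P) with mul_comm := fun a b => Subtype.ext (hPc a a.2 b b.2) }
  have hp4 : ∀ p : P, p ^ 4 = 1 := fun p => by
    rw [show (4 : ℕ) = 2 + 2 from rfl, pow_add, sq]
    exact (hεk _).1 (by rw [map_mul, sq_one_v3])
  -- the basis
  obtain ⟨E3, hE3⟩ := hε e3
  obtain ⟨E2, hE2d⟩ : ∃ E, E = MulAut.conjNormal h E3 * E3⁻¹ := ⟨_, rfl⟩
  obtain ⟨E1, hE1d⟩ : ∃ E, E = MulAut.conjNormal h E2 * E2⁻¹ := ⟨_, rfl⟩
  have hE2 : ε E2 = e2 := by rw [hE2d, map_mul, map_inv, hεe, hE3, hh]; decide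
  have hE1 : ε E1 = e1 := by rw [hE1d, map_mul, map_inv, hεe, hE2, hh]; decide
  obtain ⟨ι, hι⟩ : ∃ ι : V4 → P, ι = fun c => E1 ^ c.1.val * E2 ^ c.2.1.val * E3 ^ c.2.2.val := ⟨_, rfl⟩
  have hιadd : ∀ c d, ι (c + d) = ι c * ι d := by
    have hpow : ∀ (p : P) (k l : ZMod 4), p ^ (k + l).val = p ^ k.val * p ^ l.val := fun p k l => by
      rw [ZMod.val_add, ← pow_add]; exact (pow_eq_pow_mod _ (hp4 p)).symm
    intro c d
    simp only [hι, Prod.fst_add, Prod.snd_add, hpow]
    ac_rfl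
  have hι0 : ι 0 = 1 := by
    have h0 := hιadd 0 0
    rw [add_zero] at h0
    exact mul_left_cancel (h0.symm.trans (mul_one (ι 0)).symm)
  have hred : ∀ c, ε (ι c) = red c := fun c => by
    simp only [hι, map_mul, map_pow, hE1, hE2, hE3]; rfl
  have hιker : ∀ c, ι c = 1 → c = 0 := by
    intro c hc
    obtain ⟨d, rfl⟩ := red_cases c (by rw [← hred, hc, map_one])
    exact red_double d (by rw [← hred, hεk, ← hιadd]; exact hc)
  have hιneg : ∀ c, ι (-c) = (ι c)⁻¹ := fun c => by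
    rw [eq_inv_iff_mul_eq_one, ← hιadd, neg_add_cancel, hι0]
  have hιinj : Function.Injective ι := fun c d hcd => sub_eq_zero.1 (hιker _ (by
    rw [sub_eq_add_neg, hιadd, hιneg, hcd, mul_inv_cancel]))
  have hιbij : Function.Bijective ι := (Nat.bijective_iff_injective_and_card ι).2
    ⟨hιinj, by rw [h64, Nat.card_eq_fintype_card]; rfl⟩
  let J : V4 → Y := fun c => (ι c : Y)
  have hJinj : Function.Injective J := Subtype.val_injective.comp hιinj
  have hJadd : ∀ c d, J (c + d) = J c * J d := fun c d => by simp [J, hιadd]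
  have hJ0 : J 0 = 1 := by simp [J, hι0]
  have hJneg : ∀ c, J (-c) = (J c)⁻¹ := fun c => by simp [J, hιneg]
  have hJsub : ∀ c d, J (c - d) = J c * (J d)⁻¹ := fun c d => by rw [sub_eq_add_neg, hJadd, hJneg]
  have hJP : ∀ c, J c ∈ P := fun c => (ι c).2
  have hJsurj : ∀ y ∈ P, ∃ c, J c = y := fun y hy => by
    obtain ⟨c, hc⟩ := hιbij.2 ⟨y, hy⟩
    exact ⟨c, congrArg Subtype.val hc⟩
  have hunit : ι (1, 0, 0) = E1 ∧ ι (0, 1, 0) = E2 ∧ ι (0, 0, 1) = E3 := by
    simp [hι, show (1 : ZMod 4).val = 1 from rfl]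
  -- the action in coordinates
  let co : Y → V4 → V4 := fun y c => Function.invFun ι (MulAut.conjNormal y (ι c))
  have hco : ∀ y c, ι (co y c) = MulAut.conjNormal y (ι c) := fun y c =>
    Function.invFun_eq (hιbij.2 _)
  have hspec : ∀ y c, y * J c * y⁻¹ = J (co y c) := fun y c => by
    show _ = (ι (co y c) : Y)
    rw [hco, MulAut.conjNormal_apply]
  have hcomul : ∀ x y c, co (x * y) c = co x (co y c) := fun x y c => hJinj (by
    rw [← hspec, ← hspec, ← hspec]; group)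
  have hcoadd : ∀ y c d, co y (c + d) = co y c + co y d := fun y c d => hιinj (by
    rw [hco, hιadd, hιadd, map_mul, hco, hco])
  have hcoP : ∀ y ∈ P, ∀ c, co y c = c := fun y hy c => hJinj (by
    rw [← hspec, hPc y hy _ (hJP c), mul_inv_cancel_right])
  have hcoinv : ∀ y c, co y (co y⁻¹ c) = c := fun y c => by
    rw [← hcomul, mul_inv_cancel]; exact hcoP 1 P.one_mem c
  have hcored : ∀ y c, red (co y c) = γ y (red c) := fun y c => by
    rw [← hred, hco, hεe, hred]
  have hexp : ∀ y c, co y c = c.1.val • co y (1, 0, 0) + c.2.1.val • co y (0, 1, 0)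
      + c.2.2.val • co y (0, 0, 1) := by
    intro y c
    let F : V4 →+ V4 := AddMonoidHom.mk' (co y) (hcoadd y)
    have hc : c = c.1.val • ((1, 0, 0) : V4) + c.2.1.val • ((0, 1, 0) : V4)
        + c.2.2.val • ((0, 0, 1) : V4) := by revert c; decide +kernel
    conv_lhs => rw [show co y c = F c from rfl, hc, map_add, map_add, map_nsmul, map_nsmul, map_nsmul]
    rfl
  -- the element of order four
  set u := co h (1, 0, 0) - (1, 0, 0) with hu
  have he3h : co h (0, 0, 1) = (0, 1, 1) := hιinj (by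
    rw [hco, show ((0, 1, 1) : V4) = (0, 1, 0) + (0, 0, 1) by decide, hιadd, hunit.2.1, hunit.2.2, hE2d,
      inv_mul_cancel_right])
  have he2h : co h (0, 1, 0) = (1, 1, 0) := hιinj (by
    rw [hco, show ((1, 1, 0) : V4) = (1, 0, 0) + (0, 1, 0) by decide, hιadd, hunit.1, hunit.2.1, hE1d,
      inv_mul_cancel_right])
  have hu2 : u + u = 0 := by
    refine red_double u ?_
    have hred' : red (co h (1, 0, 0)) = e1 := by rw [hcored, hh]; decide
    have hdec : ∀ v : V4, red v = e1 → red (v - (1, 0, 0)) = 1 := by decide +kernel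
    exact hdec _ hred'
  have hcoh : ∀ c, co h c = mU u c := fun c => by
    rw [hexp, he2h, he3h, show co h (1, 0, 0) = u + (1, 0, 0) by rw [hu]; abel]
    exact mU_expand u hu2 c
  set g := h * h with hg
  set y := g * g with hy
  have hy4 : ∀ c, co y c = mU u (mU u (mU u (mU u c))) := fun c => by
    rw [hy, hg, hcomul, hcomul, hcomul, hcoh, hcoh, hcoh, hcoh]
  have hyP : y ∈ P := by
    rcases hh4 with h' | h'
    · exact h'
    · refine absurd ?_ (u_not_neg u hu2)
      rw [← hy4]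
      exact hJinj (by rw [← hspec, hJneg]; exact h' _ (hJP _))
  obtain ⟨a, ha⟩ := u_cases u hu2 (by rw [← hy4]; exact hcoP y hyP _)
  have hH : ∀ c, co h c = mH a c := fun c => by rw [hcoh, ha, mU_eq_mH]
  have hG : ∀ c, co g c = mG a c := fun c => by rw [hg, hcomul, hH, hH]; rfl
  have hH' : ∀ c, co h⁻¹ c = mH3 a c := fun c => by
    have hi : Function.Injective (co h) := fun c d hcd => hιinj ((MulAut.conjNormal h).injective (by
      rw [← hco, ← hco, hcd]))
    exact hi (by rw [hcoinv, hH, mH_four])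
  obtain ⟨η, hη⟩ := hJsurj y hyP
  have hηH : mH a η = η := hJinj (by rw [← hH, ← hspec, hη, hy, hg]; group)
  -- the inverting involution
  obtain ⟨t, ht⟩ := hγ autS
  obtain ⟨t', ht'⟩ := hγ autT
  have hγg : γ g = autA := by rw [hg, map_mul, hh, autJ_sq]
  set k := t * g * t⁻¹ with hk
  have hγk : γ k = autK := by rw [hk, map_mul, map_mul, map_inv, ht, hγg, autS_conj]
  have htC : ∀ c, InC c → InC (co t c) := by
    intro c hc
    have hcases : ∀ c : V4, InC c → c = 0 ∨ c = (1, 0, 0) + (1, 0, 0) := by decide +kernel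
    rcases hcases c hc with rfl | rfl
    · have h0 := hcoadd t 0 0
      rw [add_zero] at h0
      rw [left_eq_add.1 h0]
      exact ⟨rfl, rfl, rfl⟩
    · rw [hcoadd, red_e1_double _ (by rw [hcored, ht]; decide)]
      exact ⟨rfl, rfl, rfl⟩
  have hkt : ∀ c, co k (co t c) = co t (mG a c) := fun c => by
    rw [← hcomul, show k * t = t * g by rw [hk]; group, hcomul, hG]
  obtain ⟨w, hw⟩ : ∃ w : Fin 2, co k (0, 0, 1) = (2 * ((w : ℕ) : ZMod 4), 0, 3) := by
    have hs := htC _ (shift_inC a)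
    rw [hcoadd, ← hkt] at hs
    obtain ⟨d, hd⟩ := red_e3_shift (co t (0, 1, 0)) (by rw [hcored, ht]; decide)
    rw [hd, hcoadd, hcoadd, double_autK d (co k d) (by rw [hcored, hγk])] at hs
    refine eps_dec _ d.1 d.2.1 d.2.2 (by rw [hcored, hγk]; decide) ?_
    convert hs using 1
    rw [show d + d = (2 * d.1, 2 * d.2.1, 2 * d.2.2) from
      Prod.ext (two_mul d.1).symm (Prod.ext (two_mul d.2.1).symm (two_mul d.2.2).symm)]
  have hkk : k * k ∈ P := by
    rw [show k * k = t * y * t⁻¹ by rw [hk, hy]; group]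
    exact Subgroup.Normal.conj_mem inferInstance y hyP t
  have hbP : k * h * k⁻¹ * h ∈ P := by
    set m := t' * g * t'⁻¹ with hm
    set s := k * h * m⁻¹ with hs
    have hγm : γ m = autK * autJ := by rw [hm, map_mul, map_mul, map_inv, ht', hγg, autT_conj]
    have hs1 : γ s = 1 := by rw [hs, map_mul, map_mul, map_inv, hγk, hh, hγm, mul_inv_cancel]
    obtain ⟨hs2, hsc⟩ := hR s hs1
    have hmm : m * m ∈ P := by
      rw [show m * m = t' * y * t'⁻¹ by rw [hm, hy]; group]
      exact Subgroup.Normal.conj_mem inferInstance y hyP t'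
    have hcom : s⁻¹ * m * s * m⁻¹ ∈ P := by
      have := Subgroup.Normal.conj_mem (inferInstance : P.Normal) _ (hsc m) s⁻¹
      rwa [show s⁻¹ * ⁅m, s⁆ * s⁻¹⁻¹ = s⁻¹ * m * s * m⁻¹ by simp only [commutatorElement_def]; group]
        at this
    have hkh : k * h * (k * h) ∈ P := by
      rw [show k * h * (k * h) = s * s * (s⁻¹ * m * s * m⁻¹) * (m * m) by rw [hs]; group]
      exact P.mul_mem (P.mul_mem hs2 hcom) hmm
    have hz := Subgroup.Normal.conj_mem (inferInstance : P.Normal) _ (P.inv_mem hkk) h⁻¹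
    rw [show k * h * k⁻¹ * h = k * h * (k * h) * (h⁻¹ * (k * k)⁻¹ * h⁻¹⁻¹) by group]
    exact P.mul_mem hkh hz
  obtain ⟨β, hβ⟩ := hJsurj _ hbP
  obtain ⟨ζ, hζ⟩ := hJsurj _ hkk
  have hkhk : k * h * k⁻¹ = J β * h⁻¹ := by rw [hβ, mul_inv_cancel_right]
  have hKH : ∀ c, co k (mH a c) = mH3 a (co k c) := fun c => by
    rw [← hH, ← hcomul, show k * h = k * h * k⁻¹ * k by group, hcomul, hkhk, hcomul,
      hcoP _ (hJP β), hH']
  obtain ⟨hk2, hk1, hk3⟩ := mK_values a w
  have hKe2 : co k (0, 1, 0) = mK a w (0, 1, 0) := by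
    have h' := hKH (0, 0, 1)
    rw [← hH, he3h, show ((0, 1, 1) : V4) = (0, 1, 0) + (0, 0, 1) by decide, hcoadd, hw] at h'
    rw [← hk2]; exact eq_sub_of_add_eq h'
  have hKe1 : co k (1, 0, 0) = mK a w (1, 0, 0) := by
    have h' := hKH (0, 1, 0)
    rw [← hH, he2h, show ((1, 1, 0) : V4) = (1, 0, 0) + (0, 1, 0) by decide, hcoadd, hKe2] at h'
    rw [← hk1]; exact eq_sub_of_add_eq h'
  have hK : ∀ c, co k c = mK a w c := fun c => by
    rw [hexp, hKe1, hKe2, hw, hk3, mK_expand]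
  -- the relations
  have hkg : k * g * k⁻¹ = J (β + mH3 a β) * g⁻¹ := by
    rw [hJadd, ← hH', ← hspec, show k * g * k⁻¹ = k * h * k⁻¹ * (k * h * k⁻¹) by rw [hg]; group, hkhk,
      hg]
    group
  have hGinv : ∀ c, co g⁻¹ c = mG a c := fun c => by
    rw [hg, mul_inv_rev, hcomul, hH', hH']
    show mH a (mG a (mH a (mG a c))) = mG a c
    exact mH_four a (mG a c)
  have hEa : mK a w η = β + mH3 a β + mG a (β + mH3 a β) - η := hJinj (by
    rw [hJsub, hJadd (β + mH3 a β), ← hGinv, ← hspec g⁻¹, ← hK, ← hspec k, hη,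
      show k * y * k⁻¹ = k * g * k⁻¹ * (k * g * k⁻¹) by rw [hy]; group, hkg, hy]
    group)
  have hEb : mK a w β - mH a β = ζ - mH a ζ := hJinj (by
    rw [hJsub, hJsub, ← hK, ← hH, ← hH, ← hspec, ← hspec, ← hspec, hζ, hβ]
    group)
  have hp := parity a w η β hηH hEa
  -- the corrected involutions
  set q := corr η with hq
  set r := co t q with hr
  set g' := J q * g with hg'
  set k' := J r * k with hk'
  have hk't : k' = t * g' * t⁻¹ := by rw [hk', hg', hr, ← hspec, hk]; group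
  have hg'2 : g' * g' = J (q + mG a q + η) := by
    rw [hJadd, hJadd, ← hG, ← hspec, hη, hy, hg']; group
  have hk'2 : InC (r + mK a w r + ζ) := by
    have hC := htC _ (corr_inC a η hηH hp)
    have : r + mK a w r + ζ = co t (q + mG a q + η) := hJinj (by
      rw [← hspec t, ← hg'2, hJadd, hJadd, ← hK, ← hspec k, hζ,
        show t * (g' * g') * t⁻¹ = t * g' * t⁻¹ * (t * g' * t⁻¹) by group, ← hk't, hk']
      group)
    rw [this]; exact hC
  have hf : ⁅k', g'⁆ = J (r + mK a w q + (β + mH3 a β - η) - mG a r - q) := by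
    rw [hJsub, hJsub, hJadd, hJadd, hJsub, ← hK, ← hG, ← hspec k, ← hspec g, hη,
      show J (β + mH3 a β) = k * g * k⁻¹ * g by rw [hkg, inv_mul_cancel_right]]
    have e1' : ⁅k', g'⁆ = J r * (k * J q * k⁻¹) * (k * g * k⁻¹ * g⁻¹) * (g * J r * g⁻¹)⁻¹ * (J q)⁻¹ := by
      rw [commutatorElement_def, hk', hg']; group
    rw [e1', hy]; group
  -- the final choice of the involution
  obtain ⟨g'', hg''γ, hg''2, hg''f, hg''co⟩ : ∃ g'', γ g'' = autA ∧ (∃ c, InC c ∧ g'' * g'' = J c) ∧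
      (∃ c, InC c ∧ ⁅k', g''⁆ = J c) ∧ ∀ c, g'' * J c * g''⁻¹ = J (mG a c) := by
    have hγP : ∀ c, γ (J c) = 1 := fun c => by
      refine MulEquiv.ext fun v => ?_
      obtain ⟨p, rfl⟩ := hε v
      rw [← hεe, MulAut.one_apply]
      exact congrArg ε (Subtype.ext (by
        rw [MulAut.conjNormal_apply, hPc _ (hJP c) _ p.2, mul_inv_cancel_right]))
    have hcoJ : ∀ d c, J d * g * J c * (J d * g)⁻¹ = J (mG a c) := fun d c => by
      rw [show J d * g * J c * (J d * g)⁻¹ = J d * (g * J c * g⁻¹) * (J d)⁻¹ by group, hspec, hG,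
        hPc _ (hJP d) _ (hJP _), mul_inv_cancel_right]
    rcases commutator_inC a w η β ζ r hηH hp hEb hk'2 with hc | hc
    · exact ⟨g', by rw [hg', map_mul, hγP, one_mul, hγg], ⟨_, corr_inC a η hηH hp, hg'2⟩,
        ⟨_, hc, hf⟩, hcoJ q⟩
    · refine ⟨J (0, 1, 0) * g', ?_, ⟨_, (shift_inC a).add (corr_inC a η hηH hp), ?_⟩, ⟨_, hc, ?_⟩, ?_⟩
      · rw [map_mul, hγP, one_mul, hg', map_mul, hγP, one_mul, hγg]
      · rw [hJadd, hJadd (0, 1, 0), ← hg'2, ← hcoJ q (0, 1, 0)]
        rw [hg']; group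
      · rw [hJsub, hJadd, ← hf, ← hK, ← hspec k]
        have e2' : k * J (0, 1, 0) * k⁻¹ = k' * J (0, 1, 0) * k'⁻¹ := by
          rw [hk', show J r * k * J (0, 1, 0) * (J r * k)⁻¹ = J r * (k * J (0, 1, 0) * k⁻¹) * (J r)⁻¹ by
            group, hspec, hPc _ (hJP r) _ (hJP _), mul_inv_cancel_right]
        rw [e2', commutatorElement_def, commutatorElement_def]; group
      · intro c
        rw [hg', ← mul_assoc, ← hJadd]; exact hcoJ _ c
  have hk'co : ∀ c, k' * J c * k'⁻¹ = J (mK a w c) := fun c => by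
    rw [hk', show J r * k * J c * (J r * k)⁻¹ = J r * (k * J c * k⁻¹) * (J r)⁻¹ by group, hspec, hK,
      hPc _ (hJP r) _ (hJP _), mul_inv_cancel_right]
  -- the section
  let sub : (p : V4 → Prop) → p 0 → (∀ c d, p c → p d → p (c + d)) → (∀ c, p c → p (-c)) → Subgroup Y :=
    fun p h0 hadd hneg =>
      { carrier := J '' {c | p c}
        one_mem' := ⟨0, h0, hJ0⟩
        mul_mem' := by
          rintro _ _ ⟨c, hc, rfl⟩ ⟨d, hd, rfl⟩; exact ⟨c + d, hadd c d hc hd, hJadd c d⟩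
        inv_mem' := by rintro _ ⟨c, hc, rfl⟩; exact ⟨-c, hneg c hc, hJneg c⟩ }
  set C := sub InC ⟨rfl, rfl, rfl⟩ (fun _ _ => InC.add) (by decide +kernel) with hC
  set L := sub InL ⟨rfl, rfl⟩
    (fun c d hc hd => ⟨by
      show c.2.1 + d.2.1 + (c.2.1 + d.2.1) = 0
      linear_combination hc.1 + hd.1, by
      show c.2.2 + d.2.2 + (c.2.2 + d.2.2) = 0
      linear_combination hc.2 + hd.2⟩) (by decide +kernel) with hL
  have hkk' : k' * k' ∈ C := by
    refine ⟨_, hk'2, ?_⟩
    rw [hJadd, hJadd, ← hK, ← hspec k, hζ, hk']; group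
  set S : Set Y := (L : Set Y) ∪ {g'', k'}
  have hLS : L ≤ Subgroup.closure S := fun x hx => Subgroup.subset_closure (Or.inl hx)
  have hswap : ∀ a b : Y, ⁅a, b⁆ ∈ C → ⁅b, a⁆ ∈ C := fun a b h => by
    rw [← commutatorElement_inv]; exact C.inv_mem h
  have hgL : ∀ s ∈ L, ⁅g'', s⁆ ∈ C := by
    rintro _ ⟨c, hc, rfl⟩
    exact ⟨_, (inL_moved a w c hc).1, by rw [hJsub, commutatorElement_def, hg''co]⟩
  have hkL : ∀ s ∈ L, ⁅k', s⁆ ∈ C := by
    rintro _ ⟨c, hc, rfl⟩
    exact ⟨_, (inL_moved a w c hc).2.1, by rw [hJsub, commutatorElement_def, hk'co]⟩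
  have hkgC : ⁅k', g''⁆ ∈ C := by
    obtain ⟨c, hc, he⟩ := hg''f; exact ⟨c, hc, he.symm⟩
  have hle : Nat.card (Subgroup.closure S) ≤ 16 * Nat.card C := by
    refine card_le_of_generators h4 C S
      (fun x hx => by obtain ⟨c, hc, rfl⟩ := hx; exact hLS ⟨c, inC_inL c hc, rfl⟩) ?_ ?_ ?_
    · rintro s (hs | rfl | rfl) x ⟨c, hc, rfl⟩
      · obtain ⟨d, -, rfl⟩ := hs; exact hPc _ (hJP d) _ (hJP c)
      · exact mul_inv_eq_iff_eq_mul.1 ((hg''co c).trans (by rw [(inC_fixed a w c hc).1]))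
      · exact mul_inv_eq_iff_eq_mul.1 ((hk'co c).trans (by rw [(inC_fixed a w c hc).2]))
    · rintro s (hs | rfl | rfl)
      · obtain ⟨d, hd, rfl⟩ := hs; exact ⟨_, (inL_moved a w d hd).2.2, hJadd d d⟩
      · obtain ⟨c, hc, he⟩ := hg''2; exact ⟨c, hc, he.symm⟩
      · exact hkk'
    · rintro s (hs | rfl | rfl) s' (hs' | rfl | rfl)
      · obtain ⟨d, -, rfl⟩ := hs
        obtain ⟨d', -, rfl⟩ := hs'
        rw [commutatorElement_eq_one_iff_mul_comm.2 (hPc _ (hJP d) _ (hJP d'))]; exact C.one_mem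
      · exact hswap _ _ (hgL s hs)
      · exact hswap _ _ (hkL s hs)
      · exact hgL s' hs'
      · simp
      · exact hswap _ _ hkgC
      · exact hkL s' hs'
      · exact hkgC
      · simp
  have hγP : ∀ c, γ (J c) = 1 := fun c => by
    refine MulEquiv.ext fun v => ?_
    obtain ⟨p, rfl⟩ := hε v
    rw [← hεe, MulAut.one_apply]
    exact congrArg ε (Subtype.ext (by
      rw [MulAut.conjNormal_apply, hPc _ (hJP c) _ p.2, mul_inv_cancel_right]))
  have hγk' : γ k' = autK := by rw [hk', map_mul, hγP, one_mul, hγk]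
  have hfour := four_mul_card_le γ L (Subgroup.closure S) (fun l hl => by
    obtain ⟨c, -, rfl⟩ := hl
    exact hγP c)
    hLS g'' k' hg''γ hγk'
    (Subgroup.subset_closure (Or.inr (Or.inl rfl))) (Subgroup.subset_closure (Or.inr (Or.inr rfl)))
  rw [show Nat.card C = 2 from (Nat.card_image_of_injective hJinj _).trans card_inC] at hle
  rw [show Nat.card L = 16 from (Nat.card_image_of_injective hJinj _).trans card_inL] at hfour
  omega

end Cfsg.Agent.Block.RankFourL32
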