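import Mathlib
import Cfsg.Agent.Lib.Block.RankFourA5.Action
import Cfsg.Agent.Lib.Block.RankFourL32.Model

/-!
Modules of order at most 16 for a simple group of order 168.
-/

set_option autoImplicit false

namespace Cfsg.Agent.Block.RankFourL32

open RankFourA5 (fixSub mem_fixSub comm_of_sq)

section Simple

variable {G : Type*} [Group G] [Finite G] [IsSimpleGroup G]

omit [Finite G] in
theorem eq_one_or_injective {H : Type*} [Group H] (φ : G →* H) :
    φ = 1 ∨ Function.Injective φ := by
  rcases φ.normal_ker.eq_bot_or_eq_top with h | h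
  · exact Or.inr ((MonoidHom.ker_eq_bot_iff φ).1 h)
  · exact Or.inl (MonoidHom.ker_eq_top_iff.1 h)

variable (h168 : Nat.card G = 168)

include h168 in
theorem exists_order_seven : ∃ u : G, orderOf u = 7 := by
  have : Fact (Nat.Prime 7) := ⟨by norm_num⟩
  exact exists_prime_orderOf_dvd_card' 7 (by rw [h168]; norm_num)

omit [IsSimpleGroup G] in
include h168 in
theorem not_exponent_two : ∃ u : G, u * u ≠ 1 := by
  have : Fact (Nat.Prime 7) := ⟨by norm_num⟩
  obtain ⟨u, hu⟩ := exists_prime_orderOf_dvd_card' (G := G) 7 (by rw [h168]; norm_num)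
  refine ⟨u, fun h => ?_⟩
  have := orderOf_dvd_of_pow_eq_one (show u ^ 2 = 1 by rw [sq]; exact h)
  rw [hu] at this; norm_num at this

include h168 in
/-- A homomorphism to a group of exponent two is trivial. -/
theorem eq_one_of_sq {H : Type*} [Group H] (hH : ∀ a : H, a * a = 1) (φ : G →* H) : φ = 1 := by
  refine (eq_one_or_injective φ).resolve_right fun hinj => ?_
  obtain ⟨u, hu⟩ := not_exponent_two h168
  exact hu (hinj (by rw [map_mul, hH, map_one]))

include h168 in
/-- An action on a group of order at most four is trivial. -/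
theorem action_small {M : Type*} [Group M] [Finite M] (φ : G →* MulAut M) (h : Nat.card M ≤ 4) :
    φ = 1 := by
  refine (eq_one_or_injective φ).resolve_right fun hinj => ?_
  have h1 : Nat.card (MulAut M) ≤ Nat.card (Equiv.Perm M) :=
    Nat.card_le_card_of_injective MulEquiv.toEquiv fun a b e => MulEquiv.toEquiv_injective e
  have h2 := Nat.card_le_card_of_injective φ hinj
  rw [h168] at h2
  rw [Nat.card_perm] at h1
  have h3 : (Nat.card M).factorial ≤ 24 := Nat.factorial_le h
  omega

end Simple

section Orbit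

variable {G : Type*} [Group G] [Finite G] {W : Type*} [Group W] [Finite W]

theorem stab_card (φ : G →* MulAut W) (s : W) :
    (Set.range fun t => φ t s).ncard * Nat.card {t : G // φ t s = s} = Nat.card G := by
  let S : Subgroup G := (MulAction.stabilizer (MulAut W) s).comap φ
  have hS : Nat.card S = Nat.card {t : G // φ t s = s} :=
    Nat.card_congr (Equiv.subtypeEquivRight fun t => Iff.rfl)
  rw [← hS, ← Subgroup.card_mul_index S, mul_comm (Nat.card S)]
  congr 1
  let f : G ⧸ S → (Set.range fun t => φ t s) := Quotient.lift (fun t => ⟨φ t s, t, rfl⟩) (by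
    intro a b hab
    have h : φ (a⁻¹ * b) s = s := QuotientGroup.leftRel_apply.1 hab
    refine Subtype.ext ?_
    show φ a s = φ b s
    conv_rhs => rw [show b = a * (a⁻¹ * b) by group, map_mul, MulAut.mul_apply, h])
  rw [Subgroup.index, ← Nat.card_coe_set_eq]
  refine (Nat.card_congr (Equiv.ofBijective f ⟨?_, ?_⟩)).symm
  · intro x y
    induction x using QuotientGroup.induction_on with
    | _ a =>
      induction y using QuotientGroup.induction_on with
      | _ b =>
        intro h
        have h' : φ a s = φ b s := congrArg Subtype.val h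
        rw [QuotientGroup.eq]
        show φ (a⁻¹ * b) s = s
        rw [map_mul, MulAut.mul_apply, ← h', ← MulAut.mul_apply, ← map_mul, inv_mul_cancel, map_one]
        rfl
  · rintro ⟨_, t, rfl⟩; exact ⟨QuotientGroup.mk t, rfl⟩

variable [IsSimpleGroup G] (h168 : Nat.card G = 168)

include h168 in
theorem orbit_ge (φ : G →* MulAut W) (s : W) (hs : ∃ t, φ t s ≠ s) :
    7 ≤ (Set.range fun t => φ t s).ncard := by
  set O := Set.range fun t => φ t s with hO
  have hinv : ∀ t a, a ∈ O ↔ φ t a ∈ O := fun t a => by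
    constructor
    · rintro ⟨r, rfl⟩; exact ⟨t * r, by simp⟩
    · rintro ⟨r, hr⟩
      refine ⟨t⁻¹ * r, ?_⟩
      show φ (t⁻¹ * r) s = a
      have hr' : φ r s = φ t a := hr
      rw [map_mul, MulAut.mul_apply, hr', ← MulAut.mul_apply, ← map_mul, inv_mul_cancel, map_one]; rfl
  let σ : G →* Equiv.Perm O :=
    { toFun := fun t => (φ t).toEquiv.subtypeEquiv (hinv t)
      map_one' := Equiv.ext fun a => Subtype.ext (by simp)
      map_mul' := fun a b => Equiv.ext fun x => Subtype.ext (by simp) }
  rcases eq_one_or_injective σ with h | h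
  · obtain ⟨t, ht⟩ := hs
    have := congrArg Subtype.val (congrArg (fun p : Equiv.Perm O => p ⟨s, 1, by simp⟩)
      (DFunLike.congr_fun h t))
    exact absurd this ht
  · by_contra hlt
    have h2 := Subgroup.card_dvd_of_injective σ h
    rw [h168, Nat.card_perm, Nat.card_coe_set_eq] at h2
    have h3 := h2.trans (Nat.factorial_dvd_factorial (show O.ncard ≤ 6 by omega))
    revert h3; decide

end Orbit

section Natural

variable {G : Type*} [Group G] [Finite G] [IsSimpleGroup G] (h168 : Nat.card G = 168)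

include h168 in
/-- A faithful module of order eight is the natural one. -/
theorem natural {V : Type*} [Group V] [Finite V] (hV : ∀ a : V, a * a = 1) (h8 : Nat.card V = 8)
    (φ : G →* MulAut V) (hφ : φ ≠ 1) :
    ∃ (ι : V3 ≃* V) (ρ : G →* MulAut V3), Function.Bijective ρ ∧
      ∀ t x, φ t (ι x) = ι (ρ t x) := by
  obtain ⟨ι⟩ := exists_model hV h8
  let ρ : G →* MulAut V3 :=
    { toFun := fun t => (ι.trans (φ t)).trans ι.symm
      map_one' := MulEquiv.ext fun x => by simp
      map_mul' := fun a b => MulEquiv.ext fun x => by simp }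
  have hι : ∀ t x, φ t (ι x) = ι (ρ t x) := fun t x => by simp [ρ]
  have hinj : Function.Injective ρ := by
    intro a b h
    refine ((eq_one_or_injective φ).resolve_left hφ) (MulEquiv.ext fun v => ?_)
    obtain ⟨x, rfl⟩ := ι.surjective v
    rw [hι, hι, h]
  refine ⟨ι, ρ, (Nat.bijective_iff_injective_and_card _).2 ⟨hinj,
    le_antisymm (Nat.card_le_card_of_injective ρ hinj) ?_⟩, hι⟩
  rw [h168]; exact card_aut_le

variable (ρ : G →* MulAut V3) (hρ : Function.Bijective ρ)

omit [IsSimpleGroup G] in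
include h168 hρ in
/-- Every basis is the image of the standard one. -/
theorem exists_elem {a b c : V3} (h : IsBasis3 (a, b, c)) :
    ∃ t, ρ t e1 = a ∧ ρ t e2 = b ∧ ρ t e3 = c := by
  let F : G → {p : V3 × V3 × V3 // IsBasis3 p} := fun t => ⟨_, aut_isBasis3 (ρ t)⟩
  have hF : Function.Injective F := fun t t' h => hρ.1 (by
    have h' := congrArg Subtype.val h
    simp only [F, Prod.mk.injEq] at h'
    exact aut_ext h'.1 h'.2.1 h'.2.2)
  have hbij := (Nat.bijective_iff_injective_and_card F).2 ⟨hF,
    le_antisymm (Nat.card_le_card_of_injective F hF) (by rw [h168]; exact card_basis3)⟩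
  obtain ⟨t, ht⟩ := hbij.2 ⟨_, h⟩
  have h' := congrArg Subtype.val ht
  simp only [F, Prod.mk.injEq] at h'
  exact ⟨t, h'⟩

omit [IsSimpleGroup G] in
include h168 hρ in
theorem transitive_pairs {x y : V3} (hx : x ≠ 1) (hy : y ≠ 1) (hxy : y ≠ x) :
    ∃ t, ρ t e1 = x ∧ ρ t e2 = y := by
  have hex : ∀ x y : V3, x ≠ 1 → y ≠ 1 → y ≠ x → ∃ z, IsBasis3 (x, y, z) := by
    unfold IsBasis3; decide
  obtain ⟨z, hz⟩ := hex x y hx hy hxy
  obtain ⟨t, h1, h2, -⟩ := exists_elem h168 ρ hρ hz
  exact ⟨t, h1, h2⟩

omit [IsSimpleGroup G] in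
include h168 hρ in
theorem transitive {x : V3} (hx : x ≠ 1) : ∃ t, ρ t e1 = x := by
  have hex : ∀ x : V3, x ≠ 1 → ∃ y, y ≠ 1 ∧ y ≠ x := by decide
  obtain ⟨y, hy, hyx⟩ := hex x hx
  obtain ⟨t, h, -⟩ := transitive_pairs h168 ρ hρ hx hy hyx
  exact ⟨t, h⟩

omit [IsSimpleGroup G] in
include h168 hρ in
theorem invariant_subgroup (H : Subgroup V3) (hH : ∀ t, ∀ a ∈ H, ρ t a ∈ H) : H = ⊥ ∨ H = ⊤ := by
  by_cases h : ∃ a ∈ H, a ≠ 1
  · right
    obtain ⟨a, ha, ha1⟩ := h
    obtain ⟨r, hr⟩ := transitive h168 ρ hρ ha1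
    rw [eq_top_iff]
    intro x _
    rcases eq_or_ne x 1 with rfl | hx
    · exact H.one_mem
    · obtain ⟨t, ht⟩ := transitive h168 ρ hρ hx
      have := hH (t * r⁻¹) a ha
      rwa [map_mul, map_inv, MulAut.mul_apply, ← hr, MulAut.inv_apply_self, ht] at this
  · push Not at h
    exact Or.inl ((Subgroup.eq_bot_iff_forall H).2 h)

end Natural

section Sixteen

variable {G : Type*} [Group G] [Finite G] [IsSimpleGroup G] (h168 : Nat.card G = 168)
  {W : Type*} [Group W] [Finite W] (hW : ∀ a : W, a * a = 1) (φ : G →* MulAut W)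

omit [IsSimpleGroup G] in
include h168 hW in
theorem card_eight_or_sixteen [IsSimpleGroup G] (hφ : φ ≠ 1) (h16 : Nat.card W ≤ 16) :
    Nat.card W = 8 ∨ Nat.card W = 16 := by
  have h4 : ¬ Nat.card W ≤ 4 := fun h => hφ (action_small h168 φ h)
  have : Fact (Nat.Prime 2) := ⟨Nat.prime_two⟩
  have hP : IsPGroup 2 W := fun a => ⟨1, by rw [pow_one, sq]; exact hW a⟩
  obtain ⟨n, hn⟩ := hP.exists_card_eq
  rw [hn] at h4 h16 ⊢
  have h1 : n ≤ 4 := (Nat.pow_le_pow_iff_right (show 1 < 2 by norm_num)).1 (by simpa using h16)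
  interval_cases n <;> simp_all

include h168 hW in
/-- Fixing a hyperplane and the quotient by it forces the action to be trivial. -/
theorem eq_one_of_stabilize (V : Subgroup W) (h1 : ∀ t, ∀ v ∈ V, φ t v = v)
    (h2 : ∀ t w, w * φ t w ∈ V) : φ = 1 := by
  refine (eq_one_or_injective φ).resolve_right fun hinj => ?_
  obtain ⟨u, hu⟩ := not_exponent_two h168
  refine hu (hinj ?_)
  rw [map_one]
  refine MulEquiv.ext fun w => ?_
  have h : φ u w = w * (w * φ u w) := by rw [← mul_assoc, hW, one_mul]
  show φ (u * u) w = w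
  rw [map_mul, MulAut.mul_apply]
  conv_lhs => rw [h]
  rw [map_mul, h1 u _ (h2 u w), comm_of_sq hW w (φ u w), ← mul_assoc, hW, one_mul]

include h168 hW in
/-- Either an invariant hyperplane or a fixed involution. -/
theorem fixed_or_hyperplane (h16 : Nat.card W = 16) :
    (∃ V : Subgroup W, Nat.card V = 8 ∧ ∀ t, ∀ v ∈ V, φ t v ∈ V) ∨
      ∃ z : W, z ≠ 1 ∧ ∀ t, φ t z = z := by
  classical
  by_contra hno
  push Not at hno
  obtain ⟨hV, hz⟩ := hno
  obtain ⟨u, hu⟩ := exists_order_seven h168
  have hu7 : φ u ^ 7 = 1 := by rw [← map_pow, ← hu, pow_orderOf_eq_one, map_one]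
  have : Fact (Nat.Prime 7) := ⟨by norm_num⟩
  have hP : IsPGroup 7 (Subgroup.zpowers (φ u)) := by
    rintro ⟨_, i, rfl⟩
    refine ⟨1, Subtype.ext ?_⟩
    rw [pow_one, SubmonoidClass.coe_pow]
    show (φ u ^ i) ^ 7 = 1
    rw [← zpow_natCast, ← zpow_mul, mul_comm, zpow_mul, zpow_natCast, hu7, one_zpow]
  -- congruence for sets invariant under the element of order seven
  have hmod : ∀ S : Set W, (∀ a ∈ S, ∀ i : ℤ, (φ u ^ i) a ∈ S) →
      S.ncard % 7 = {a ∈ S | φ u a = a}.ncard % 7 := by
    intro S hS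
    let T : SubMulAction (Subgroup.zpowers (φ u)) W :=
      { carrier := S
        smul_mem' := by rintro ⟨_, i, rfl⟩ a ha; exact hS a ha i }
    have h := hP.card_modEq_card_fixedPoints T
    have e : MulAction.fixedPoints (Subgroup.zpowers (φ u)) T ≃ {a ∈ S | φ u a = a} :=
      { toFun := fun x => ⟨x.1.1, x.1.2, congrArg Subtype.val (x.2 ⟨φ u, Subgroup.mem_zpowers _⟩)⟩
        invFun := fun x => ⟨⟨x.1, x.2.1⟩, by
          rintro ⟨_, i, rfl⟩
          exact Subtype.ext ((MulAction.stabilizer (MulAut W) (x.1 : W)).zpow_mem x.2.2 i)⟩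
        left_inv := fun x => rfl
        right_inv := fun x => rfl }
    rw [Nat.card_congr e, show Nat.card T = Nat.card S from rfl, Nat.card_coe_set_eq,
      Nat.card_coe_set_eq] at h
    exact h
  set F := fixSub (φ u) with hF
  have hFset : {a ∈ (Set.univ : Set W) | φ u a = a} = (F : Set W) := by ext; simp [hF, mem_fixSub]
  have hFmod := hmod Set.univ (fun _ _ _ => trivial)
  rw [hFset, Set.ncard_univ, h16, ← Nat.card_coe_set_eq] at hFmod
  have hφ : φ ≠ 1 := by
    intro h
    obtain ⟨w, hw⟩ : ∃ w : W, w ≠ 1 := by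
      have : Nontrivial W := Finite.one_lt_card_iff_nontrivial.1 (by rw [h16]; norm_num)
      exact exists_ne 1
    obtain ⟨t, ht⟩ := hz w hw
    exact ht (by rw [h]; rfl)
  have hFcard : Nat.card F = 2 := by
    have hd : Nat.card F ∣ 16 := h16 ▸ Subgroup.card_subgroup_dvd_card F
    have hle : Nat.card F ≤ 16 := Nat.le_of_dvd (by norm_num) hd
    have hne : Nat.card F ≠ 16 := fun h => by
      have htop := Subgroup.eq_top_of_card_eq F (h.trans h16.symm)
      have h1 : φ u = 1 := MulEquiv.ext fun w => (htop.symm ▸ Subgroup.mem_top w : w ∈ F)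
      have hu1 : u = 1 := ((eq_one_or_injective φ).resolve_left hφ) (by rw [h1, map_one])
      rw [hu1, orderOf_one] at hu; norm_num at hu
    change 16 % 7 = Nat.card F % 7 at hFmod
    interval_cases Nat.card F <;> omega
  obtain ⟨z, hzF, hz1⟩ : ∃ z ∈ F, z ≠ 1 := by
    by_contra! h
    rw [(Subgroup.eq_bot_iff_forall F).2 h, Subgroup.card_bot] at hFcard; norm_num at hFcard
  have hFmem : ∀ a, φ u a = a → a = 1 ∨ a = z := by
    intro a ha
    by_contra! hne
    have h3 : ({1, z, a} : Set W) ⊆ (F : Set W) := by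
      rintro x (rfl | rfl | rfl)
      exacts [F.one_mem, hzF, ha]
    have h4 := Set.ncard_le_ncard h3 (Set.toFinite _)
    rw [← Nat.card_coe_set_eq (F : Set W), show Nat.card (F : Set W) = Nat.card F from rfl, hFcard,
      Set.ncard_insert_of_notMem (by simp [hne.1.symm, hz1.symm]) (Set.toFinite _),
      Set.ncard_pair hne.2.symm] at h4
    omega
  -- the complement of the fixed points
  let T : W →* W :=
    { toFun := fun a => a * φ u a
      map_one' := by simp
      map_mul' := fun a b => by
        rw [map_mul]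
        calc a * b * (φ u a * φ u b) = a * (b * φ u a) * φ u b := by simp only [mul_assoc]
          _ = a * (φ u a * b) * φ u b := by rw [comm_of_sq hW b (φ u a)]
          _ = _ := by simp only [mul_assoc] }
  have hTker : T.ker = F := by
    ext a
    rw [MonoidHom.mem_ker, hF, mem_fixSub]
    show a * φ u a = 1 ↔ _
    rw [mul_eq_one_iff_eq_inv', inv_eq_of_mul_eq_one_right (hW a)]
  set V0 := T.range with hV0
  have hV0card : Nat.card V0 = 8 := by
    have := Subgroup.card_mul_index T.ker
    rw [Subgroup.index_ker, hTker, hFcard, h16] at this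
    show Nat.card T.range = 8
    omega
  have hV0inv : ∀ a ∈ (V0 : Set W), ∀ i : ℤ, (φ u ^ i) a ∈ (V0 : Set W) := by
    rintro _ ⟨w, rfl⟩ i
    refine ⟨(φ u ^ i) w, ?_⟩
    show (φ u ^ i) w * φ u ((φ u ^ i) w) = (φ u ^ i) (w * φ u w)
    rw [map_mul, ← MulAut.mul_apply, ← MulAut.mul_apply, Commute.zpow_right (Commute.refl (φ u)) i]
  have hz0 : z ∉ V0 := by
    intro hz0
    have h := hmod (V0 : Set W) hV0inv
    have hset : {a ∈ (V0 : Set W) | φ u a = a} = {1, z} := by
      ext a
      constructor
      · exact fun ha => hFmem a ha.2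
      · rintro (rfl | rfl)
        · exact ⟨V0.one_mem, map_one _⟩
        · exact ⟨hz0, hzF⟩
    rw [hset, Set.ncard_pair hz1.symm, ← Nat.card_coe_set_eq,
      show Nat.card (V0 : Set W) = Nat.card V0 from rfl, hV0card] at h
    norm_num at h
  -- orbits
  set O := Set.range fun t => φ t z with hO
  have hOinv : ∀ t, ∀ a ∈ O, φ t a ∈ O := by rintro t _ ⟨r, rfl⟩; exact ⟨t * r, by simp⟩
  have hO1 : (1 : W) ∉ O := by
    rintro ⟨t, ht⟩; exact hz1 ((map_eq_one_iff _ (φ t).injective).1 ht)
  have hO7 := orbit_ge h168 φ z (hz z hz1)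
  have hOmod := hmod O (fun a ha i => by rw [← map_zpow]; exact hOinv _ a ha)
  have hOfix : {a ∈ O | φ u a = a} = {z} := by
    ext a
    constructor
    · rintro ⟨ha, hfa⟩
      exact (hFmem a hfa).resolve_left fun h => hO1 (h ▸ ha)
    · rintro rfl; exact ⟨⟨1, by simp⟩, hzF⟩
  rw [hOfix, Set.ncard_singleton] at hOmod
  set C := (O ∪ {1})ᶜ with hC
  have hCinv : ∀ t, ∀ a ∈ C, φ t a ∈ C := by
    intro t a ha h
    apply ha
    rcases h with h | h
    · have := hOinv t⁻¹ _ h
      exact Or.inl (by simpa using this)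
    · exact Or.inr (by simpa using h)
  have hsum : O.ncard + 1 + C.ncard = 16 := by
    rw [← h16, ← Set.ncard_add_ncard_compl (O ∪ {1}), Set.union_singleton,
      Set.ncard_insert_of_notMem hO1]
    simp [hC, Set.union_singleton]
  have hO8 : O.ncard = 8 := by
    have hd : O.ncard ∣ 168 := h168 ▸ (Dvd.intro _ (stab_card φ z))
    have hle : O.ncard ≤ 15 := by omega
    interval_cases O.ncard <;> omega
  have hC7 : C.ncard = 7 := by omega
  have hzC : z ∉ C := fun h => h (Or.inl ⟨1, by simp⟩)
  have h1C : (1 : W) ∉ C := fun h => h (Or.inr rfl)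
  -- the part of the complement inside the image
  have hsub : ∀ S : Set W, S ⊆ C → (∀ a ∈ S, ∀ i : ℤ, (φ u ^ i) a ∈ S) → S.Nonempty → S = C := by
    intro S hSC hS hne
    refine Set.eq_of_subset_of_ncard_le hSC ?_ (Set.toFinite C)
    have h := hmod S hS
    have h0 : {a ∈ S | φ u a = a} = ∅ := by
      rw [Set.eq_empty_iff_forall_notMem]
      rintro a ⟨ha, hfa⟩
      rcases hFmem a hfa with rfl | rfl
      · exact h1C (hSC ha)
      · exact hzC (hSC ha)
    rw [h0, Set.ncard_empty] at h
    have hpos := hne.ncard_pos (Set.toFinite S)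
    have := Set.ncard_le_ncard hSC (Set.toFinite C)
    omega
  by_cases hmeet : ∃ a ∈ C, a ∈ V0
  · have hCV : C ∩ (V0 : Set W) = C := hsub _ Set.inter_subset_left (fun a ha i =>
      ⟨by rw [← map_zpow]; exact hCinv _ a ha.1, hV0inv a ha.2 i⟩) (hmeet.elim fun a ha => ⟨a, ha⟩)
    have hall : C = (V0 : Set W) \ {1} := by
      refine Set.eq_of_subset_of_ncard_le (fun a ha => ⟨Set.inter_eq_left.1 hCV ha, ?_⟩) ?_
        (Set.toFinite _)
      · rintro rfl; exact h1C ha
      · rw [Set.ncard_sdiff_singleton_of_mem V0.one_mem, ← Nat.card_coe_set_eq,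
          show Nat.card (V0 : Set W) = Nat.card V0 from rfl, hV0card]
        omega
    obtain ⟨t, v, hv, hne⟩ := hV V0 hV0card
    rcases eq_or_ne v 1 with rfl | hv1
    · exact hne (by rw [map_one]; exact V0.one_mem)
    · have hvC : v ∈ C := by rw [hall]; exact ⟨hv, by simpa using hv1⟩
      have h2 := hCinv t v hvC
      rw [hall] at h2
      exact hne h2.1
  · push Not at hmeet
    have hcg : ∀ a b : W, a * b = b * a := comm_of_sq hW
    let cg : CommGroup W := { (inferInstance : Group W) with mul_comm := hcg }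
    have hall : C = (fun v => z * v) '' ((V0 : Set W) \ {1}) := by
      refine Set.eq_of_subset_of_ncard_le (fun a ha => ?_) ?_ (Set.toFinite _)
      · refine ⟨z * a, ⟨?_, ?_⟩, by simp [← mul_assoc, hW]⟩
        · have hidx : V0.index = 2 := by
            have := Subgroup.card_mul_index V0
            rw [hV0card, h16] at this; omega
          exact (Subgroup.mul_mem_iff_of_index_two hidx).2 (iff_of_false hz0 (hmeet a ha))
        · intro h
          have h' : z * a = 1 := h
          exact hzC ((eq_inv_of_mul_eq_one_left h').trans (inv_eq_of_mul_eq_one_right (hW a)) ▸ ha)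
      · rw [hC7]
        refine le_trans (Set.ncard_image_le (Set.toFinite _)) ?_
        rw [Set.ncard_sdiff_singleton_of_mem V0.one_mem, ← Nat.card_coe_set_eq,
          show Nat.card (V0 : Set W) = Nat.card V0 from rfl, hV0card]
    set P := ∏ a ∈ C.toFinite.toFinset, a with hP'
    have hPfix : ∀ t, φ t P = P := by
      intro t
      rw [hP', map_prod]
      refine Finset.prod_bij (fun a _ => φ t a) ?_ ?_ ?_ ?_
      · intro a ha; simp only [Set.Finite.mem_toFinset] at ha ⊢; exact hCinv t a ha
      · exact fun a _ b _ h => (φ t).injective h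
      · intro b hb
        simp only [Set.Finite.mem_toFinset] at hb ⊢
        exact ⟨φ t⁻¹ b, hCinv _ b hb, by rw [← MulAut.mul_apply, ← map_mul]; simp⟩
      · intros; rfl
    set S := ((V0 : Set W) \ {1}).toFinite.toFinset with hS
    have hPeq : P = z * ∏ v ∈ S, v := by
      rw [hP', show C.toFinite.toFinset = S.image (fun v => z * v) from Finset.coe_injective (by
          simp [hS, hall]), Finset.prod_image (fun a _ b _ h => mul_left_cancel h),
        Finset.prod_mul_distrib, Finset.prod_const, show S.card = 7 by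
          rw [hS, ← Set.ncard_eq_toFinset_card, Set.ncard_sdiff_singleton_of_mem V0.one_mem,
            ← Nat.card_coe_set_eq, show Nat.card (V0 : Set W) = Nat.card V0 from rfl, hV0card],
        show z ^ 7 = (z * z) * (z * z) * (z * z) * z by simp [pow_succ, mul_assoc], hW z]
      simp
    have hPV : ∏ v ∈ S, v = 1 := by
      have hmem : ∏ v ∈ S, v ∈ V0 := V0.prod_mem fun v hv => by
        simp only [hS, Set.Finite.mem_toFinset] at hv; exact hv.1
      have hfix : φ u (∏ v ∈ S, v) = ∏ v ∈ S, v := by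
        have h := hPfix u
        rw [hPeq, map_mul, show φ u z = z from hzF] at h
        exact mul_left_cancel h
      exact (hFmem _ hfix).resolve_right fun h => hz0 (h ▸ hmem)
    rw [hPV, mul_one] at hPeq
    obtain ⟨t, ht⟩ := hz z hz1
    exact ht (hPeq ▸ hPfix t)

include h168 hW in
/-- With an invariant hyperplane, a point outside fixed by an involution gives one fixed by all. -/
theorem fixed_outside (V : Subgroup W) (h16 : Nat.card W = 16) (h8 : Nat.card V = 8)
    (hinv : ∀ t, ∀ v ∈ V, φ t v ∈ V) (g : G) (hg : g * g = 1) (hg1 : g ≠ 1) (s : W) (hs : s ∉ V)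
    (hgs : φ g s = s) : ∃ z, z ∉ V ∧ ∀ t, φ t z = z := by
  by_contra! h
  set O := Set.range fun t => φ t s with hO
  have hO7 : 7 ≤ O.ncard := orbit_ge h168 φ s (h s hs)
  set C := ((V : Set W))ᶜ with hC
  have hsub : ∀ a ∈ C, Set.range (fun t => φ t a) ⊆ C := by
    rintro a ha _ ⟨t, rfl⟩ hv
    exact ha (by simpa using hinv t⁻¹ _ hv)
  have hC8 : C.ncard = 8 := by
    rw [hC, Set.ncard_compl, h16, ← Nat.card_coe_set_eq, show Nat.card (V : Set W) = Nat.card V from rfl,
      h8]
  have hO8 : O.ncard = 8 := by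
    have hle := Set.ncard_le_ncard (hsub s hs) (Set.toFinite C)
    rw [hC8] at hle
    change O.ncard ≤ 8 at hle
    rcases (show O.ncard = 7 ∨ O.ncard = 8 by omega) with h7 | h7
    · exfalso
      obtain ⟨b, hb, hbO⟩ : ∃ b ∈ C, b ∉ O := by
        by_contra! hh
        have := Set.ncard_le_ncard (hh : C ⊆ O) (Set.toFinite O)
        omega
      have hdis : Disjoint O (Set.range fun t => φ t b) := by
        rw [Set.disjoint_left]
        rintro _ ⟨t, rfl⟩ ⟨r, hr⟩
        apply hbO
        refine ⟨r⁻¹ * t, ?_⟩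
        show φ (r⁻¹ * t) s = b
        have hr' : φ r b = φ t s := hr
        rw [map_mul, MulAut.mul_apply, ← hr', ← MulAut.mul_apply, ← map_mul, inv_mul_cancel, map_one]
        rfl
      have h2 := Set.ncard_le_ncard (Set.union_subset (hsub s hs) (hsub b hb)) (Set.toFinite C)
      rw [Set.ncard_union_eq hdis] at h2
      change O.ncard + _ ≤ _ at h2
      have := orbit_ge h168 φ b (h b hb)
      omega
    · exact h7
  have hcard := stab_card φ s
  rw [show (Set.range fun t => φ t s).ncard = 8 from hO8, h168] at hcard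
  let S : Subgroup G := (MulAction.stabilizer (MulAut W) s).comap φ
  have hS : Nat.card S = Nat.card {t : G // φ t s = s} :=
    Nat.card_congr (Equiv.subtypeEquivRight fun t => Iff.rfl)
  have hord : orderOf g = 2 := orderOf_eq_prime (by rw [sq]; exact hg) hg1
  have hdvd : orderOf g ∣ Nat.card S := by
    have hgS : g ∈ S := hgs
    rw [← Subgroup.orderOf_mk g hgS]; exact orderOf_dvd_natCard _
  rw [hord, hS] at hdvd
  omega

end Sixteen

end Cfsg.Agent.Block.RankFourL32
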