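import Mathlib
import Cfsg.Agent.Lib.Block.RankFourA5.Action
import Cfsg.Agent.Lib.Block.RankFourL32.Module

/-!
Invariant quadratic maps from a module of order at most 16 of a simple group of order 168 to a
module of order at most 16.
-/

set_option autoImplicit false

namespace Cfsg.Agent.Block.RankFourL32

open RankFourA5 (fixSub mem_fixSub comm_of_sq)

/-- The polar map. -/
def polar {W M : Type*} [Group W] [Group M] (q : W → M) (x y : W) : M := q (x * y) * q x * q y

/-- A surjective invariant quadratic map. -/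
structure IsQuad {G W M : Type*} [Group G] [Group W] [Group M] (φ : G →* MulAut W)
    (ψ : G →* MulAut M) (q : W → M) : Prop where
  expW : ∀ a : W, a * a = 1
  expM : ∀ a : M, a * a = 1
  one : q 1 = 1
  equiv : ∀ t x, q (φ t x) = ψ t (q x)
  bi : ∀ x y z, polar q (x * y) z = polar q x z * polar q y z

namespace IsQuad

variable {G W M : Type*} [Group G] [Group W] [Group M] {φ : G →* MulAut W} {ψ : G →* MulAut M}
  {q : W → M} (hq : IsQuad φ ψ q)

include hq

theorem symm (x y : W) : polar q x y = polar q y x := by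
  simp only [polar]
  rw [comm_of_sq hq.expW x y, mul_assoc, mul_assoc, comm_of_sq hq.expM (q x)]

theorem polar_one (y : W) : polar q 1 y = 1 := by
  simp only [polar]; rw [one_mul, hq.one, mul_one, hq.expM]

theorem polar_self (x : W) : polar q x x = 1 := by
  simp only [polar]; rw [hq.expW, hq.one, one_mul, hq.expM]

theorem split (x y : W) : q (x * y) = q x * q y * polar q x y := by
  have hcm := comm_of_sq hq.expM
  simp only [polar]
  rw [mul_assoc (q (x * y)), hcm (q (x * y)), ← mul_assoc, hq.expM, one_mul]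

theorem polar_equiv (t : G) (x y : W) : polar q (φ t x) (φ t y) = ψ t (polar q x y) := by
  simp only [polar]; rw [← map_mul, hq.equiv, hq.equiv, hq.equiv, ← map_mul, ← map_mul]

theorem polar_mul_right (x y z : W) : polar q x (y * z) = polar q x y * polar q x z := by
  rw [hq.symm, hq.bi, hq.symm y, hq.symm z]

theorem polar_eq_one_of_basis {s : Set W} (hs : Subgroup.closure s = ⊤)
    (h : ∀ x ∈ s, ∀ y ∈ s, polar q x y = 1) (x y : W) : polar q x y = 1 := by
  have hinv : ∀ w : W, w⁻¹ = w := fun w => inv_eq_of_mul_eq_one_right (hq.expW w)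
  have step : ∀ y, (∀ x ∈ s, polar q x y = 1) → ∀ x, polar q x y = 1 := by
    intro y hy x
    have hx : x ∈ Subgroup.closure s := hs ▸ Subgroup.mem_top x
    induction hx using Subgroup.closure_induction with
    | mem a ha => exact hy a ha
    | one => exact hq.polar_one y
    | mul a b _ _ iha ihb => rw [hq.bi, iha, ihb, one_mul]
    | inv a _ iha => rwa [hinv]
  refine step y (fun a ha => ?_) x
  rw [hq.symm]
  exact step a (fun b hb => h b hb a ha) y

theorem hom_of_polar (h : ∀ x y, polar q x y = 1) (x y : W) : q (x * y) = q x * q y := by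
  rw [hq.split, h, mul_one]

/-- The elements with value in a subgroup containing all polar values. -/
def preimage (D : Subgroup M) (hD : ∀ x y, polar q x y ∈ D) : Subgroup W where
  carrier := {x | q x ∈ D}
  one_mem' := by show q 1 ∈ D; rw [hq.one]; exact D.one_mem
  mul_mem' := fun {a b} ha hb => by
    show q (a * b) ∈ D
    rw [hq.split]; exact D.mul_mem (D.mul_mem ha hb) (hD a b)
  inv_mem' := fun {a} ha => by
    show q a⁻¹ ∈ D
    rwa [inv_eq_of_mul_eq_one_right (hq.expW a)]

end IsQuad

section

variable {G : Type*} [Group G] [Finite G] (h168 : Nat.card G = 168) {ρ : G →* MulAut V3}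
  (hρ : Function.Bijective ρ) {M : Type*} [Group M] [Finite M] (hM : ∀ a : M, a * a = 1)

theorem basis_top : Subgroup.closure ({e1, e2, e3} : Set V3) = ⊤ := by
  rw [eq_top_iff]
  intro x _
  have hx : ∀ x : V3, ∃ a b c : Fin 2, x = e1 ^ (a : ℕ) * e2 ^ (b : ℕ) * e3 ^ (c : ℕ) := by decide
  obtain ⟨a, b, c, rfl⟩ := hx x
  exact Subgroup.mul_mem _ (Subgroup.mul_mem _ (Subgroup.pow_mem _ (Subgroup.subset_closure (by simp)) _)
    (Subgroup.pow_mem _ (Subgroup.subset_closure (by simp)) _))
    (Subgroup.pow_mem _ (Subgroup.subset_closure (by simp)) _)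

include h168 hρ hM in
/-- No nontrivial value of an invariant alternating form is fixed by the stabilizer of a point. -/
theorem cross_fixed {ψ : G →* MulAut M} (c : V3 → V3 → M)
    (hbi : ∀ x y z, c (x * y) z = c x z * c y z) (hsym : ∀ x y, c x y = c y x)
    (hself : ∀ x, c x x = 1) (hequiv : ∀ t x y, c (ρ t x) (ρ t y) = ψ t (c x y))
    (hne : c e1 e2 ≠ 1) (m : M) (hm : m ∈ Subgroup.closure (Set.range fun p : V3 × V3 => c p.1 p.2))
    (hfix : ∀ t, ρ t e1 = e1 → ψ t m = m) : m = 1 := by
  have hcm := comm_of_sq hM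
  have hinvM : ∀ a : M, a⁻¹ = a := fun a => inv_eq_of_mul_eq_one_right (hM a)
  let cgM : CommGroup M := { (inferInstance : Group M) with mul_comm := hcm }
  have hbr : ∀ x y z, c x (y * z) = c x y * c x z := fun x y z => by
    rw [hsym, hbi, hsym y, hsym z]
  have hone : ∀ y, c 1 y = 1 := fun y => by
    have h := hbi 1 1 y
    rw [one_mul] at h
    exact mul_left_cancel (h.symm.trans (mul_one (c 1 y)).symm)
  have hpair : ∀ x y : V3, x ≠ 1 → y ≠ 1 → y ≠ x → c x y ≠ 1 := by
    intro x y hx hy hxy h
    obtain ⟨t, ht1, ht2⟩ := transitive_pairs h168 ρ hρ hx hy hxy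
    apply hne
    rw [← ht1, ← ht2, hequiv, map_eq_one_iff _ (ψ t).injective] at h
    exact h
  set a12 := c e1 e2 with h12
  set a13 := c e1 e3 with h13
  set a23 := c e2 e3 with h23
  -- every value is a product of the three basic values
  let L : Fin 2 → Fin 2 → Fin 2 → M := fun i j k => a23 ^ (i : ℕ) * a13 ^ (j : ℕ) * a12 ^ (k : ℕ)
  let S : Subgroup M := Subgroup.closure {a23, a13, a12}
  have hcS : ∀ x y, c x y ∈ S := by
    intro x y
    have step : ∀ y, (∀ x ∈ ({e1, e2, e3} : Set V3), c x y ∈ S) → ∀ x, c x y ∈ S := by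
      intro y hy x
      have hx : x ∈ Subgroup.closure ({e1, e2, e3} : Set V3) := basis_top ▸ Subgroup.mem_top x
      induction hx using Subgroup.closure_induction with
      | mem a ha => exact hy a ha
      | one => rw [hone]; exact S.one_mem
      | mul a b _ _ iha ihb => rw [hbi]; exact S.mul_mem iha ihb
      | inv a _ iha => rwa [inv_eq_of_mul_eq_one_right (sq_one_v3 a)]
    refine step y (fun a ha => ?_) x
    rw [hsym]
    refine step a (fun b hb => ?_) y
    simp only [Set.mem_insert_iff, Set.mem_singleton_iff] at ha hb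
    rcases ha with rfl | rfl | rfl <;> rcases hb with rfl | rfl | rfl <;>
      first
        | (rw [hself]; exact S.one_mem)
        | (apply Subgroup.subset_closure; simp [h12, h13, h23]; done)
        | (rw [hsym]; apply Subgroup.subset_closure; simp [h12, h13, h23]; done)
  have hmS : m ∈ S := (Subgroup.closure_le S).2 (by rintro _ ⟨p, rfl⟩; exact hcS _ _) hm
  obtain ⟨i, j, k, rfl⟩ : ∃ i j k, m = L i j k := by
    clear hm hfix
    induction hmS using Subgroup.closure_induction with
    | mem a ha =>
      simp only [Set.mem_insert_iff, Set.mem_singleton_iff] at ha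
      rcases ha with rfl | rfl | rfl
      · exact ⟨1, 0, 0, by simp [L]⟩
      · exact ⟨0, 1, 0, by simp [L]⟩
      · exact ⟨0, 0, 1, by simp [L]⟩
    | one => exact ⟨0, 0, 0, by simp [L]⟩
    | mul a b _ _ iha ihb =>
      obtain ⟨i, j, k, rfl⟩ := iha
      obtain ⟨i', j', k', rfl⟩ := ihb
      refine ⟨i + i', j + j', k + k', ?_⟩
      have hp : ∀ (x : M) (u v : Fin 2), x ^ (u : ℕ) * x ^ (v : ℕ) = x ^ ((u + v : Fin 2) : ℕ) := by
        intro x u v; fin_cases u <;> fin_cases v <;> simp [hM]
      simp only [L]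
      rw [mul_mul_mul_comm (a23 ^ (i : ℕ) * a13 ^ (j : ℕ)), mul_mul_mul_comm (a23 ^ (i : ℕ)),
        hp, hp, hp]
    | inv a _ iha => rwa [hinvM]
  have h13ne : a13 ≠ 1 := hpair _ _ (by decide) (by decide) (by decide)
  have h12ne : a12 ≠ 1 := hne
  have h1213 : a12 * a13 ≠ 1 := by
    rw [h12, h13, ← hbr]; exact hpair _ _ (by decide) (by decide) (by decide)
  -- three elements fixing the first basis vector
  obtain ⟨tA, hA⟩ := hρ.2 autK
  obtain ⟨tS, hS⟩ := hρ.2 autS
  obtain ⟨tB, hB⟩ := hρ.2 autB
  have hψ : ∀ t x y, ψ t (c x y) = c (ρ t x) (ρ t y) := fun t x y => (hequiv t x y).symm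
  have fA := hfix tA (by rw [hA]; decide)
  have fS := hfix tS (by rw [hS]; decide)
  have fB := hfix tB (by rw [hB]; decide)
  have kA : ψ tA a23 = a13 * a23 ∧ ψ tA a13 = a13 ∧ ψ tA a12 = a12 := by
    refine ⟨?_, ?_, ?_⟩
    · rw [h23, hψ, hA, show autK e2 = e1 * e2 by decide, show autK e3 = e3 by decide, hbi, ← h13, ← h23]
    · rw [h13, hψ, hA, show autK e1 = e1 by decide, show autK e3 = e3 by decide]
    · rw [h12, hψ, hA, show autK e1 = e1 by decide, show autK e2 = e1 * e2 by decide, hbr, hself, one_mul]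
  have kS : ψ tS a23 = a23 ∧ ψ tS a13 = a12 ∧ ψ tS a12 = a13 := by
    refine ⟨?_, ?_, ?_⟩
    · rw [h23, hψ, hS, show autS e2 = e3 by decide, show autS e3 = e2 by decide, hsym]
    · rw [h13, hψ, hS, show autS e1 = e1 by decide, show autS e3 = e2 by decide, h12]
    · rw [h12, hψ, hS, show autS e1 = e1 by decide, show autS e2 = e3 by decide, h13]
  have kB : ψ tB a12 = a12 * a13 ∧ ψ tB a13 = a13 := by
    refine ⟨?_, ?_⟩
    · rw [h12, hψ, hB, show autB e1 = e1 by decide, show autB e2 = e2 * e3 by decide, hbr, h13]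
    · rw [h13, hψ, hB, show autB e1 = e1 by decide, show autB e3 = e3 by decide]
  simp only [L, map_mul, map_pow] at fA fS fB ⊢
  fin_cases i <;> fin_cases j <;> fin_cases k <;>
    simp only [Fin.val_zero, Fin.val_one, Fin.isValue, Fin.zero_eta, Fin.mk_one, pow_zero, pow_one,
      one_mul, mul_one, kA.1, kA.2.1, kA.2.2, kS.1, kS.2.1, kS.2.2, kB.1, kB.2] at fA fS fB ⊢
  · exact absurd fB (fun h => h13ne (by simpa using h))
  · exact absurd fS (fun h => h1213 (by rw [← h, hM]))
  · exact absurd fB (fun h => h13ne (by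
      rw [show a13 * (a12 * a13) = a13 * a12 * a13 from (mul_assoc _ _ _).symm] at h
      simpa using h))
  · exact absurd fA (fun h => h13ne (by simpa using h))
  · exact absurd fA (fun h => h13ne (by simpa [mul_assoc] using h))
  · exact absurd fA (fun h => h13ne (by simpa [mul_assoc] using h))
  · exact absurd fA (fun h => h13ne (by simpa [mul_assoc] using h))

end

end Cfsg.Agent.Block.RankFourL32
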