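import Mathlib
import Cfsg.Agent.Lib.Block.RankFourA5.Action
import Cfsg.Agent.Lib.Block.RankFourL32.Quadratic

/-!
The possible layers: invariant quadratic maps on the natural module and on the two kinds of modules
of order sixteen.
-/

set_option autoImplicit false

namespace Cfsg.Agent.Block.RankFourL32

open RankFourA5 (fixSub mem_fixSub comm_of_sq)

section

variable {G : Type*} [Group G] [Finite G] [IsSimpleGroup G] (h168 : Nat.card G = 168)
  {ρ : G →* MulAut V3} (hρ : Function.Bijective ρ) {M : Type*} [Group M] [Finite M]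
  {ψ : G →* MulAut M}

omit [IsSimpleGroup G] in
include h168 hρ in
/-- An invariant quadratic map on the natural module is linear, and zero or injective. -/
theorem nat_zero {q : V3 → M} (hq : IsQuad ρ ψ q) (h16 : Nat.card M ≤ 16) :
    (∀ x y, polar q x y = 1) ∧ ((∀ x, q x = 1) ∨ Function.Injective q) := by
  have hbiL : ∀ x y z, polar q (x * y) z = polar q x z * polar q y z := hq.bi
  have hc : ∀ x y, polar q x y = 1 := by
    by_contra hne
    push Not at hne
    have h12 : polar q e1 e2 ≠ 1 := by
      obtain ⟨x, y, hxy⟩ := hne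
      intro h
      apply hxy
      refine hq.polar_eq_one_of_basis basis_top ?_ x y
      intro u hu v hv
      rcases eq_or_ne v u with rfl | huv
      · exact hq.polar_self v
      · have hu1 : u ≠ 1 := by rcases hu with rfl | rfl | rfl <;> decide
        have hv1 : v ≠ 1 := by rcases hv with rfl | rfl | rfl <;> decide
        obtain ⟨t, ht1, ht2⟩ := transitive_pairs h168 ρ hρ hu1 hv1 huv
        rw [← ht1, ← ht2, hq.polar_equiv, h, map_one]
    set D := Subgroup.closure (Set.range fun p : V3 × V3 => polar q p.1 p.2) with hD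
    have hDinv : ∀ t, ∀ d ∈ D, ψ t d ∈ D := by
      intro t d hd
      have hle : D ≤ D.comap (ψ t).toMonoidHom := by
        conv_lhs => rw [hD]
        rw [Subgroup.closure_le]
        rintro _ ⟨⟨a, b⟩, rfl⟩
        exact Subgroup.subset_closure ⟨(ρ t a, ρ t b), hq.polar_equiv t a b⟩
      exact hle hd
    set H := hq.preimage D (fun x y => Subgroup.subset_closure ⟨(x, y), rfl⟩) with hH
    have hHinv : ∀ t, ∀ a ∈ H, ρ t a ∈ H := fun t a ha => by
      show q (ρ t a) ∈ D
      rw [hq.equiv]; exact hDinv t _ ha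
    rcases invariant_subgroup h168 ρ hρ H hHinv with hb | ht
    · -- the values are spread over too many classes
      have h13 : polar q e1 e3 ≠ 1 := by
        intro h
        obtain ⟨t, ht1, ht2⟩ := transitive_pairs h168 ρ hρ (x := e1) (y := e3) (by decide) (by decide)
          (by decide)
        rw [← ht1, ← ht2, hq.polar_equiv, map_eq_one_iff _ (ψ t).injective] at h
        exact h12 h
      have h1213 : polar q e1 e2 ≠ polar q e1 e3 := by
        intro h
        obtain ⟨t, ht1, ht2⟩ := transitive_pairs h168 ρ hρ (x := e1) (y := e2 * e3) (by decide)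
          (by decide) (by decide)
        have hz : polar q e1 (e2 * e3) = 1 := by rw [hq.polar_mul_right, h, hq.expM]
        rw [← ht1, ← ht2, hq.polar_equiv, map_eq_one_iff _ (ψ t).injective] at hz
        exact h12 hz
      have hD3 : 3 ≤ Nat.card D := by
        have h3 : ({1, polar q e1 e2, polar q e1 e3} : Set M) ⊆ (D : Set M) := by
          rintro x (rfl | rfl | rfl)
          · exact D.one_mem
          · exact Subgroup.subset_closure ⟨(e1, e2), rfl⟩
          · exact Subgroup.subset_closure ⟨(e1, e3), rfl⟩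
        have h4 := Set.ncard_le_ncard h3 (Set.toFinite _)
        rw [Set.ncard_insert_of_notMem (by simp [h12.symm, h13.symm]) (Set.toFinite _),
          Set.ncard_pair h1213, ← Nat.card_coe_set_eq] at h4
        exact h4
      let f : D × V3 → M := fun p => (p.1 : M) * q p.2
      have hf : Function.Injective f := by
        rintro ⟨d, v⟩ ⟨d', v'⟩ h
        simp only [f] at h
        have hmem : q v * q v' ∈ D := by
          have : q v * q v' = (d : M)⁻¹ * d' := by
            rw [eq_inv_mul_iff_mul_eq, ← mul_assoc, h, mul_assoc, hq.expM, mul_one]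
          rw [this]; exact D.mul_mem (D.inv_mem d.2) d'.2
        have hvv : v * v' ∈ H := by
          show q (v * v') ∈ D
          rw [hq.split]; exact D.mul_mem hmem (Subgroup.subset_closure ⟨(v, v'), rfl⟩)
        rw [hb, Subgroup.mem_bot] at hvv
        have hvv' : v = v' := by
          rw [eq_inv_of_mul_eq_one_left hvv, inv_eq_of_mul_eq_one_right (sq_one_v3 v')]
        subst hvv'
        exact Prod.ext (Subtype.ext (mul_right_cancel h)) rfl
      have h := Nat.card_le_card_of_injective f hf
      rw [Nat.card_prod, show Nat.card V3 = 8 by rw [Nat.card_eq_fintype_card]; rfl] at h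
      omega
    · have he1 : q e1 ∈ D := (show e1 ∈ H by rw [ht]; trivial)
      have hq1 : q e1 = 1 := cross_fixed h168 hρ hq.expM (ψ := ψ) (polar q) hbiL hq.symm hq.polar_self
        hq.polar_equiv h12 (q e1) he1 (fun t ht => by rw [← hq.equiv, ht])
      have hall : ∀ x, q x = 1 := fun x => by
        rcases eq_or_ne x 1 with rfl | hx
        · exact hq.one
        · obtain ⟨t, ht⟩ := transitive h168 ρ hρ hx
          rw [← ht, hq.equiv, hq1, map_one]
      apply h12
      simp only [polar]; rw [hall, hall, hall, one_mul, one_mul]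
  refine ⟨hc, ?_⟩
  let f : V3 →* M := ⟨⟨q, hq.one⟩, hq.hom_of_polar hc⟩
  rcases invariant_subgroup h168 ρ hρ f.ker (fun t a ha => by
    rw [MonoidHom.mem_ker] at ha ⊢
    show q (ρ t a) = 1
    rw [hq.equiv, show q a = 1 from ha, map_one]) with h | h
  · exact Or.inr ((MonoidHom.ker_eq_bot_iff f).1 h)
  · exact Or.inl fun x => (show x ∈ f.ker by rw [h]; trivial)

end

section Sixteen

variable {G : Type*} [Group G] [Finite G] [IsSimpleGroup G] (h168 : Nat.card G = 168)
  {W : Type*} [Group W] [Finite W] (hW : ∀ a : W, a * a = 1) (φ : G →* MulAut W)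
  (h16 : Nat.card W = 16)

omit [IsSimpleGroup G] in
include hW h16 in
/-- The fixed points of an involution are its commutators, or there are at least eight of them. -/
theorem fix_cases (g : G) (hg : g * g = 1) :
    (Nat.card ↥(fixSub (φ g)) = 4 ∧ ∀ a ∈ fixSub (φ g), ∃ w, a = w * φ g w) ∨
      8 ≤ Nat.card ↥(fixSub (φ g)) := by
  set v := φ g with hv
  have hvv : ∀ a, v (v a) = a := fun a => by
    rw [← MulAut.mul_apply, hv, ← map_mul, hg, map_one, MulAut.one_apply]
  let T : W →* W :=
    { toFun := fun a => a * v a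
      map_one' := by simp
      map_mul' := fun a b => by
        rw [map_mul]
        calc a * b * (v a * v b) = a * (b * v a) * v b := by simp only [mul_assoc]
          _ = a * (v a * b) * v b := by rw [comm_of_sq hW b (v a)]
          _ = _ := by simp only [mul_assoc] }
  have hker : T.ker = fixSub v := by
    ext a
    rw [MonoidHom.mem_ker, mem_fixSub]
    show a * v a = 1 ↔ _
    rw [mul_eq_one_iff_eq_inv', inv_eq_of_mul_eq_one_right (hW a)]
  have hrange : T.range ≤ fixSub v := by
    rintro _ ⟨a, rfl⟩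
    show v (a * v a) = a * v a
    rw [map_mul, hvv, comm_of_sq hW]
  have hcard : Nat.card ↥(fixSub v) * Nat.card T.range = 16 := by
    rw [← Subgroup.index_ker T, hker, Subgroup.card_mul_index, h16]
  have hrle : Nat.card T.range ≤ Nat.card ↥(fixSub v) := Subgroup.card_le_of_le hrange
  by_cases h8 : 8 ≤ Nat.card ↥(fixSub v)
  · exact Or.inr h8
  · left
    have h4 : Nat.card ↥(fixSub v) = 4 ∧ Nat.card T.range = 4 := by
      have hd : Nat.card ↥(fixSub v) ∣ 16 := Dvd.intro _ hcard
      have hle := Nat.le_of_dvd (by norm_num) hd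
      interval_cases hc : Nat.card ↥(fixSub v) <;> omega
    refine ⟨h4.1, fun a ha => ?_⟩
    rw [← Subgroup.eq_of_le_of_card_ge hrange (by omega)] at ha
    obtain ⟨w, hw⟩ := ha
    exact ⟨w, hw.symm⟩

/-- A fixed involution with natural quotient. -/
structure FixedData (z : W) (p : W →* V3) (ρ : G →* MulAut V3) : Prop where
  ne : z ≠ 1
  fix : ∀ t, φ t z = z
  surj : Function.Surjective p
  ker : ∀ w, p w = 1 ↔ w = 1 ∨ w = z
  bij : Function.Bijective ρ
  equiv : ∀ t w, p (φ t w) = ρ t (p w)

include h168 hW h16 in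
theorem exists_fixedData (hφ : φ ≠ 1) (z : W) (hz : z ≠ 1) (hfix : ∀ t, φ t z = z) :
    ∃ (p : W →* V3) (ρ : G →* MulAut V3), FixedData φ z p ρ := by
  set Z := Subgroup.zpowers z with hZ
  have hn : Z.Normal := ⟨fun a ha g => by rw [comm_of_sq hW g a, mul_inv_cancel_right]; exact ha⟩
  have hZmem : ∀ a, a ∈ Z ↔ a = 1 ∨ a = z := by
    intro a
    constructor
    · rintro ⟨i, rfl⟩
      show z ^ i = 1 ∨ z ^ i = z
      rw [show i = 2 * (i / 2) + i % 2 from (Int.mul_ediv_add_emod i 2).symm, zpow_add, zpow_mul,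
        zpow_ofNat, sq, hW, one_zpow, one_mul]
      rcases Int.emod_two_eq_zero_or_one i with h | h <;> rw [h]
      · exact Or.inl (zpow_zero z)
      · exact Or.inr (zpow_one z)
    · rintro (rfl | rfl)
      exacts [Z.one_mem, Subgroup.mem_zpowers a]
  have hexp : ∀ a : W ⧸ Z, a * a = 1 := fun a => by
    induction a using QuotientGroup.induction_on with
    | _ a => rw [← QuotientGroup.mk_mul, hW]; rfl
  have h8 : Nat.card (W ⧸ Z) = 8 := by
    have h := Subgroup.card_eq_card_quotient_mul_card_subgroup Z
    rw [h16, Nat.card_zpowers, orderOf_eq_prime (by rw [sq]; exact hW z) hz] at h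
    omega
  have hmapZ : ∀ t, Z.map (φ t).toMonoidHom = Z := fun t => by
    rw [hZ, MonoidHom.map_zpowers]; exact congrArg Subgroup.zpowers (hfix t)
  let φb : G →* MulAut (W ⧸ Z) :=
    { toFun := fun t => QuotientGroup.congr Z Z (φ t) (hmapZ t)
      map_one' := MulEquiv.ext fun a => by
        induction a using QuotientGroup.induction_on with
        | _ a =>
          show ((φ 1 a : W) : W ⧸ Z) = a
          rw [map_one]; rfl
      map_mul' := fun s t => MulEquiv.ext fun a => by
        induction a using QuotientGroup.induction_on with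
        | _ a =>
          show ((φ (s * t) a : W) : W ⧸ Z) = ((φ s (φ t a) : W) : W ⧸ Z)
          rw [map_mul]; rfl }
  have hφb : φb ≠ 1 := by
    intro h
    apply hφ
    refine eq_one_of_stabilize h168 hW φ Z (fun t v hv => ?_) (fun t w => ?_)
    · rcases (hZmem v).1 hv with rfl | rfl
      · exact map_one _
      · exact hfix t
    · have h' : ((φ t w : W) : W ⧸ Z) = (w : W ⧸ Z) :=
        DFunLike.congr_fun (DFunLike.congr_fun h t) (w : W ⧸ Z)
      have h'' := (QuotientGroup.eq).1 h'.symm
      rwa [inv_eq_of_mul_eq_one_right (hW w)] at h''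
  obtain ⟨ι, ρ, hρ, hι⟩ := natural h168 hexp h8 φb hφb
  refine ⟨ι.symm.toMonoidHom.comp (QuotientGroup.mk' Z), ρ, hz, hfix,
    ι.symm.surjective.comp (QuotientGroup.mk'_surjective Z), fun w => ?_, hρ, fun t w => ?_⟩
  · show ι.symm (w : W ⧸ Z) = 1 ↔ _
    rw [map_eq_one_iff _ ι.symm.injective, QuotientGroup.eq_one_iff, hZmem]
  · show ι.symm ((φ t w : W) : W ⧸ Z) = ρ t (ι.symm (w : W ⧸ Z))
    rw [MulEquiv.symm_apply_eq, ← hι, MulEquiv.apply_symm_apply]
    rfl

variable {φ} {z : W} {p : W →* V3} {ρ : G →* MulAut V3}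

omit [IsSimpleGroup G] [Finite G] [Finite W] in
include hW in
theorem FixedData.same (hd : FixedData φ z p ρ) {a b : W} (h : p a = p b) : b = a ∨ b = a * z := by
  have h' : p (a * b) = 1 := by rw [map_mul, h, sq_one_v3]
  rcases (hd.ker _).1 h' with h1 | h1
  · left; rw [eq_inv_of_mul_eq_one_right h1, inv_eq_of_mul_eq_one_right (hW a)]
  · right; rw [← h1, ← mul_assoc, hW, one_mul]

omit [IsSimpleGroup G] in
include h168 hW in
/-- An invariant choice of preimages gives an invariant hyperplane. -/
theorem hyperplane_of_section (hd : FixedData φ z p ρ) (σ : V3 → W) (hσ1 : σ 1 = 1)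
    (hσp : ∀ x, p (σ x) = x) (hσ : ∀ t x, φ t (σ x) = σ (ρ t x)) :
    ∃ V : Subgroup W, Nat.card V = 8 ∧ ∀ t, ∀ v ∈ V, φ t v ∈ V := by
  have hcm := comm_of_sq hW
  let cg : CommGroup W := { (inferInstance : Group W) with mul_comm := hcm }
  -- the defect of additivity
  let e : V3 → V3 → W := fun x y => σ x * σ y * σ (x * y)
  have hek : ∀ x y, e x y = 1 ∨ e x y = z := fun x y => (hd.ker _).1 (by
    simp only [e, map_mul, hσp]; exact sq_one_v3 _)
  have heq : ∀ t x y, e (ρ t x) (ρ t y) = e x y := by
    intro t x y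
    have h : φ t (e x y) = e (ρ t x) (ρ t y) := by simp only [e, map_mul, hσ]
    rw [← h]
    rcases hek x y with h' | h' <;> rw [h']
    · exact map_one _
    · exact hd.fix t
  have hconst : ∀ x y, x ≠ 1 → y ≠ 1 → y ≠ x → e x y = e e1 e2 := by
    intro x y hx hy hxy
    obtain ⟨t, h1, h2⟩ := transitive_pairs h168 ρ hd.bij hx hy hxy
    rw [← h1, ← h2, heq]
  -- correct the choice
  let σ' : V3 → W := fun x => if x = 1 then 1 else σ x * e e1 e2
  have hee : e e1 e2 * e e1 e2 = 1 := hW _
  have hσ'p : ∀ x, p (σ' x) = x := by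
    intro x
    by_cases hx : x = 1
    · simp [σ', hx]
    · have he : p (e e1 e2) = 1 := (hd.ker _).2 (hek _ _)
      simp only [σ', if_neg hx, map_mul, hσp, he, mul_one]
  have hσ' : ∀ t x, φ t (σ' x) = σ' (ρ t x) := by
    intro t x
    by_cases hx : x = 1
    · simp [σ', hx]
    · have hx' : ρ t x ≠ 1 := fun h => hx ((map_eq_one_iff _ (ρ t).injective).1 h)
      have he : φ t (e e1 e2) = e e1 e2 := by
        rcases hek e1 e2 with h | h <;> rw [h]
        · exact map_one _
        · exact hd.fix t
      simp only [σ', if_neg hx, if_neg hx', map_mul, hσ, he]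
  have hmul : ∀ x y, σ' (x * y) = σ' x * σ' y := by
    intro x y
    by_cases hx : x = 1
    · simp [σ', hx]
    by_cases hy : y = 1
    · simp [σ', hy]
    by_cases hxy : y = x
    · subst hxy; rw [sq_one_v3, hW]; simp [σ']
    have hne : x * y ≠ 1 := fun h => hxy (by
      rw [eq_inv_of_mul_eq_one_right h, inv_eq_of_mul_eq_one_right (sq_one_v3 x)])
    have h := hconst x y hx hy hxy
    simp only [σ', if_neg hx, if_neg hy, if_neg hne]
    rw [← h]
    simp only [e]
    calc σ (x * y) * (σ x * σ y * σ (x * y)) = σ x * σ y * (σ (x * y) * σ (x * y)) := by ac_rfl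
      _ = σ x * σ y * 1 := by rw [hW]
      _ = σ x * σ y * ((σ x * σ y * σ (x * y)) * (σ x * σ y * σ (x * y))) := by rw [hW]
      _ = _ := by ac_rfl
  let f : V3 →* W := ⟨⟨σ', by simp [σ']⟩, hmul⟩
  have hf : Function.Injective f := fun a b h => by
    have := congrArg p h
    rwa [show p (f a) = a from hσ'p a, show p (f b) = b from hσ'p b] at this
  refine ⟨f.range, ?_, ?_⟩
  · rw [← Nat.card_congr (MonoidHom.ofInjective hf).toEquiv, Nat.card_eq_fintype_card]; rfl
  · rintro t _ ⟨x, rfl⟩
    exact ⟨ρ t x, (hσ' t x).symm⟩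

include h168 hW h16 in
/-- Without invariant hyperplane a suitable involution has exactly four fixed points. -/
theorem fix_four_of_no_hyperplane (hd : FixedData φ z p ρ)
    (hV : ¬ ∃ V : Subgroup W, Nat.card V = 8 ∧ ∀ t, ∀ v ∈ V, φ t v ∈ V) (g : G) (hg : g * g = 1)
    (hgρ : ρ g = autA) : Nat.card ↥(fixSub (φ g)) = 4 := by
  rcases fix_cases hW φ h16 g hg with h | h8
  · exact h.1
  exfalso
  apply hV
  have hcm := comm_of_sq hW
  -- every preimage of the fixed plane is fixed
  set F := fixSub (φ g) with hF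
  have hplane : ∀ w, autA (p w) = p w → w ∈ F := by
    intro w hw
    by_contra hwF
    set P : Set W := {w | autA (p w) = p w} with hP
    have hsub : (F : Set W) ⊆ P := fun a ha => by
      have h := congrArg p (show φ g a = a from ha)
      rwa [hd.equiv, hgρ] at h
    have hPcard : P.ncard ≤ 8 := by
      classical
      have := Fintype.ofFinite W
      let f : P → {x : V3 // autA x = x} × Fin 2 := fun a =>
        (⟨p a, a.2⟩, if (a : W) = Function.surjInv hd.surj (p a) then 0 else 1)
      have hf : Function.Injective f := by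
        rintro ⟨a, ha⟩ ⟨b, hb⟩ h
        simp only [f, Prod.mk.injEq, Subtype.mk.injEq] at h
        obtain ⟨hab, hsel⟩ := h
        have hs : p (Function.surjInv hd.surj (p a)) = p a := Function.surjInv_eq hd.surj _
        refine Subtype.ext ?_
        show a = b
        rw [← hab] at hsel
        by_cases h1 : a = Function.surjInv hd.surj (p a)
        · rw [if_pos h1] at hsel
          by_cases h2 : b = Function.surjInv hd.surj (p a)
          · rw [h1, ← h2]
          · rw [if_neg h2] at hsel; exact absurd hsel (by decide)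
        · rw [if_neg h1] at hsel
          by_cases h2 : b = Function.surjInv hd.surj (p a)
          · rw [if_pos h2] at hsel; exact absurd hsel (by decide)
          · rcases hd.same hW hs with h3 | h3
            · exact absurd h3 h1
            · rcases hd.same hW (hs.trans hab) with h4 | h4
              · exact absurd h4 h2
              · rw [h3, h4]
      have h := Nat.card_le_card_of_injective f hf
      rw [Nat.card_coe_set_eq, Nat.card_prod, Nat.card_fin] at h
      have h4 : Nat.card {x : V3 // autA x = x} = 4 := by rw [Nat.card_eq_fintype_card]; decide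
      omega
    have hlt : (F : Set W).ncard < P.ncard :=
      Set.ncard_lt_ncard ⟨hsub, fun h => hwF (h hw)⟩ (Set.toFinite _)
    rw [← Nat.card_coe_set_eq, show Nat.card (F : Set W) = Nat.card F from rfl] at hlt
    omega
  obtain ⟨w₀, hw₀⟩ := hd.surj e1
  -- transvections fixing the first basis vector fix its preimages
  have hT : ∀ f ∈ [autA, autK, autB, autC], ∀ t, ρ t = f → φ t w₀ = w₀ := by
    intro f hf t ht
    have hconj : ∀ a b c : V3, IsBasis3 (a, b, c) →
        (∀ r : MulAut V3, r e1 = a → r e2 = b → r e3 = c → f * r = r * autA ∧ (r⁻¹ e1 = e1 ∨ r⁻¹ e1 = e2)) →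
        φ t w₀ = w₀ := by
      intro a b c habc hr
      obtain ⟨r, h1, h2, h3⟩ := exists_elem h168 ρ hd.bij habc
      obtain ⟨hcomm, hpre⟩ := hr (ρ r) h1 h2 h3
      have hteq : t = r * g * r⁻¹ := hd.bij.1 (by
        rw [ht, map_mul, map_mul, map_inv, hgρ, ← hcomm, mul_inv_cancel_right])
      have hfixp : φ g (φ r⁻¹ w₀) = φ r⁻¹ w₀ := hplane _ (by
        rw [hd.equiv, map_inv, hw₀]
        rcases hpre with h | h <;> rw [h] <;> decide)
      rw [hteq, map_mul, map_mul, MulAut.mul_apply, MulAut.mul_apply, hfixp, ← MulAut.mul_apply,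
        ← map_mul, mul_inv_cancel, map_one]
      rfl
    have hext : ∀ (r : MulAut V3) (a b c : V3), r e1 = a → r e2 = b → r e3 = c → r⁻¹ a = e1 ∧
        r⁻¹ b = e2 := fun r a b c h1 h2 _ => ⟨by rw [← h1]; simp, by rw [← h2]; simp⟩
    simp only [List.mem_cons, List.not_mem_nil, or_false] at hf
    rcases hf with rfl | rfl | rfl | rfl
    · refine hconj e1 e2 e3 (by unfold IsBasis3; decide) fun r h1 h2 h3 => ⟨?_, Or.inl (hext r _ _ _ h1 h2 h3).1⟩
      refine aut_ext ?_ ?_ ?_ <;> simp only [MulAut.mul_apply] <;>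
        simp only [show autA e1 = e1 by decide, show autA e2 = e2 by decide,
          show autA e3 = e1 * e3 by decide, map_mul, h1, h2, h3] <;> decide
    · refine hconj e1 e3 e2 (by unfold IsBasis3; decide) fun r h1 h2 h3 => ⟨?_, Or.inl (hext r _ _ _ h1 h2 h3).1⟩
      refine aut_ext ?_ ?_ ?_ <;> simp only [MulAut.mul_apply] <;>
        simp only [show autA e1 = e1 by decide, show autA e2 = e2 by decide,
          show autA e3 = e1 * e3 by decide, map_mul, h1, h2, h3] <;> decide
    · refine hconj e3 e1 e2 (by unfold IsBasis3; decide) fun r h1 h2 h3 => ⟨?_, Or.inr (hext r _ _ _ h1 h2 h3).2⟩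
      refine aut_ext ?_ ?_ ?_ <;> simp only [MulAut.mul_apply] <;>
        simp only [show autA e1 = e1 by decide, show autA e2 = e2 by decide,
          show autA e3 = e1 * e3 by decide, map_mul, h1, h2, h3] <;> decide
    · refine hconj e2 e1 e3 (by unfold IsBasis3; decide) fun r h1 h2 h3 => ⟨?_, Or.inr (hext r _ _ _ h1 h2 h3).2⟩
      refine aut_ext ?_ ?_ ?_ <;> simp only [MulAut.mul_apply] <;>
        simp only [show autA e1 = e1 by decide, show autA e2 = e2 by decide,
          show autA e3 = e1 * e3 by decide, map_mul, h1, h2, h3] <;> decide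
  -- these generate the stabilizer
  let S : Subgroup (MulAut V3) := ((MulAction.stabilizer (MulAut W) w₀).comap φ).map ρ
  have hgens : ∀ f ∈ [autA, autK, autB, autC], f ∈ S := fun f hf => by
    obtain ⟨t, ht⟩ := hd.bij.2 f
    exact ⟨t, hT f hf t ht, ht⟩
  have hA : autA ∈ S := hgens _ (by simp)
  have hK : autK ∈ S := hgens _ (by simp)
  have hB : autB ∈ S := hgens _ (by simp)
  have hC : autC ∈ S := hgens _ (by simp)
  have hword : ∀ b c : V3, IsBasis3 (e1, b, c) → ∃ i j : Fin 2, ∃ w : Fin 6,
      (autA ^ (i : ℕ) * autK ^ (j : ℕ) *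
        [1, autB, autC, autB * autC, autC * autB, autB * autC * autB].getD (w : ℕ) 1) e2 = b ∧
      (autA ^ (i : ℕ) * autK ^ (j : ℕ) *
        [1, autB, autC, autB * autC, autC * autB, autB * autC * autB].getD (w : ℕ) 1) e3 = c := by
    decide +kernel
  have hstab : ∀ t, ρ t e1 = e1 → φ t w₀ = w₀ := by
    intro t ht
    have hb := aut_isBasis3 (ρ t)
    rw [ht] at hb
    obtain ⟨i, j, w, h2, h3⟩ := hword _ _ hb
    set f := autA ^ (i : ℕ) * autK ^ (j : ℕ) *
        [1, autB, autC, autB * autC, autC * autB, autB * autC * autB].getD (w : ℕ) 1 with hf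
    have hfS : f ∈ S := by
      refine S.mul_mem (S.mul_mem (S.pow_mem hA _) (S.pow_mem hK _)) ?_
      fin_cases w
      exacts [S.one_mem, hB, hC, S.mul_mem hB hC, S.mul_mem hC hB, S.mul_mem (S.mul_mem hB hC) hB]
    have hf1 : f e1 = e1 := by
      obtain ⟨t', ht', hte⟩ := hfS
      have h := congrArg p (show φ t' w₀ = w₀ from ht')
      rwa [hd.equiv, hw₀, hte] at h
    obtain ⟨t', ht', hte⟩ := hfS
    have : t = t' := hd.bij.1 (by rw [hte]; exact aut_ext (ht.trans hf1.symm) h2.symm h3.symm)
    rw [this]; exact ht'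
  -- the orbit is a section
  have hex : ∀ x, x ≠ 1 → ∃ t, ρ t e1 = x := fun x hx => transitive h168 ρ hd.bij hx
  classical
  let σ : V3 → W := fun x => if hx : x = 1 then 1 else φ (hex x hx).choose w₀
  have hσeq : ∀ t, σ (ρ t e1) = φ t w₀ := by
    intro t
    have hne : ρ t e1 ≠ 1 := fun h => absurd ((map_eq_one_iff _ (ρ t).injective).1 h) (by decide)
    simp only [σ, dif_neg hne]
    have hr := (hex _ hne).choose_spec
    set r := (hex _ hne).choose
    have h := hstab (t⁻¹ * r) (by rw [map_mul, map_inv, MulAut.mul_apply, hr, MulAut.inv_apply_self])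
    rw [map_mul, map_inv, MulAut.mul_apply] at h
    conv_rhs => rw [← h]
    simp
  refine hyperplane_of_section h168 hW hd σ (by simp [σ]) (fun x => ?_) (fun t x => ?_)
  · by_cases hx : x = 1
    · simp [σ, hx]
    · obtain ⟨t, rfl⟩ := hex x hx
      rw [hσeq, hd.equiv, hw₀]
  · by_cases hx : x = 1
    · simp [σ, hx]
    · obtain ⟨r, rfl⟩ := hex x hx
      rw [← MulAut.mul_apply, ← map_mul, hσeq, hσeq, map_mul]; rfl

end Sixteen

end Cfsg.Agent.Block.RankFourL32
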