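import Mathlib
import Cfsg.Agent.Lib.Spor.RankFourQuotSetup
import Cfsg.Agent.Lib.Block.RankFourL32.Layer
import Cfsg.Agent.Lib.Block.RankFourL32.Homocyclic

/-!
No abelian normal subgroup of order 128 with squares forming the natural module and an element of
order two, outside the squares, fixed by a transvection.
-/

set_option autoImplicit false

namespace Cfsg.Agent.Block.RankFourL32

open scoped commutatorElement

/-- The images of a lift of the last basis vector under the regular unipotent element. -/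
theorem chain {Y : Type*} [Group Y] (γ : Y →* MulAut V3) (Q : Subgroup Y) [Q.Normal]
    (hQc : ∀ a ∈ Q, ∀ b ∈ Q, a * b = b * a) (ε : Q →* V3) (hεk : ∀ a : Q, ε a = 1 ↔ a * a = 1)
    (hεe : ∀ (y : Y) (a : Q), ε (MulAut.conjNormal y a) = γ y (ε a)) (h : Y) (hh : γ h = autJ)
    (hh4 : h * h * (h * h) ∈ Q) (a3 : Q) (ha3 : ε a3 = e3) :
    ∃ a2 a1 ω : Q, a2 = MulAut.conjNormal h a3 * a3⁻¹ ∧ a1 = MulAut.conjNormal h a2 * a2⁻¹ ∧
      ω = MulAut.conjNormal h a1 * a1⁻¹ ∧ ε a2 = e2 ∧ ε a1 = e1 ∧ ε ω = 1 ∧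
      MulAut.conjNormal h ω = ω * (a1 * a1) ∧ MulAut.conjNormal (h * h) ω = ω ∧
      MulAut.conjNormal (h * h) a2 = ω * (a1 * a1) * a2 := by
  let cg : CommGroup Q :=
    { (inferInstance : Group Q) with mul_comm := fun a b => Subtype.ext (hQc a a.2 b b.2) }
  obtain ⟨H, hH⟩ : ∃ H : MulAut Q, H = MulAut.conjNormal h := ⟨_, rfl⟩
  have hHH : MulAut.conjNormal (H := Q) (h * h) = H * H := by rw [hH, map_mul]
  rw [hHH, ← hH]
  obtain ⟨a2, d2⟩ : ∃ a, a = H a3 * a3⁻¹ := ⟨_, rfl⟩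
  obtain ⟨a1, d1⟩ : ∃ a, a = H a2 * a2⁻¹ := ⟨_, rfl⟩
  obtain ⟨ω, d0⟩ : ∃ a, a = H a1 * a1⁻¹ := ⟨_, rfl⟩
  have hHε : ∀ a, ε (H a) = autJ (ε a) := fun a => by rw [hH, hεe, hh]
  have v2 : ε a2 = e2 := by rw [d2, map_mul, map_inv, hHε, ha3]; decide
  have v1 : ε a1 = e1 := by rw [d1, map_mul, map_inv, hHε, v2]; decide
  have v0 : ε ω = 1 := by rw [d0, map_mul, map_inv, hHε, v1]; decide
  have h3 : H a3 = a2 * a3 := by rw [d2, inv_mul_cancel_right]
  have h2 : H a2 = a1 * a2 := by rw [d1, inv_mul_cancel_right]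
  have h1 : H a1 = ω * a1 := by rw [d0, inv_mul_cancel_right]
  have hp4 : ∀ a : Q, a * a * (a * a) = 1 := fun a => (hεk _).1 (by rw [map_mul, sq_one_v3])
  have hω2 : ω * ω = 1 := (hεk _).1 v0
  have hH4 : H (H (H (H a3))) = a3 := by
    rw [← MulAut.mul_apply, ← MulAut.mul_apply, ← MulAut.mul_apply, mul_assoc, mul_assoc,
      ← mul_assoc H H, hH, ← map_mul, ← map_mul]
    exact Subtype.ext (by rw [MulAut.conjNormal_apply, hQc _ hh4 _ a3.2, mul_inv_cancel_right])
  have hHω : H ω = ω * (a1 * a1) := by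
    simp only [h3, map_mul, h2, h1] at hH4
    have e : H ω * (ω * (a1 * a1)) * (a2 * a2 * (a2 * a2)) * (ω * ω) * (a1 * a1 * (a1 * a1)) * a3 = a3 := by
      conv_rhs => rw [← hH4]
      ac_rfl
    rw [hp4, hp4, hω2, mul_one, mul_one, mul_one, mul_eq_right, mul_eq_one_iff_eq_inv] at e
    rw [e]
    refine inv_eq_of_mul_eq_one_right ?_
    calc ω * (a1 * a1) * (ω * (a1 * a1)) = ω * ω * (a1 * a1 * (a1 * a1)) := by ac_rfl
      _ = 1 := by rw [hω2, hp4, one_mul]
  refine ⟨a2, a1, ω, d2, d1, d0, v2, v1, v0, hHω, ?_, ?_⟩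
  · rw [MulAut.mul_apply, hHω, map_mul, map_mul, hHω, h1]
    calc ω * (a1 * a1) * (ω * a1 * (ω * a1)) = ω * (ω * ω) * (a1 * a1 * (a1 * a1)) := by ac_rfl
      _ = ω := by rw [hω2, hp4, mul_one, mul_one]
  · rw [MulAut.mul_apply, h2, map_mul, h1, h2]
    ac_rfl

section

variable {G : Type*} [Group G] [Finite G] [IsSimpleGroup G] (h168 : Nat.card G = 168)

include h168 in
/-- An element of order two outside the squares fixed by the transvection leads to the homocyclic
group. -/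
theorem exclude_abelian {Y : Type*} [Group Y] [Finite Y] (h4 : Cfsg.SectionalPRankLE 2 4 Y)
    (δ : Y →* G) (hδ : Function.Surjective δ) (ρ : G →* MulAut V3) (hρ : Function.Bijective ρ)
    (Q : Subgroup Y) [Q.Normal] (hker : δ.ker = Q) (hQc : ∀ a ∈ Q, ∀ b ∈ Q, a * b = b * a)
    (h128 : Nat.card Q = 128) (ε : Q →* V3) (hε : Function.Surjective ε)
    (hεk : ∀ a : Q, ε a = 1 ↔ a * a = 1)
    (hεe : ∀ (y : Y) (a : Q), ε (MulAut.conjNormal y a) = ρ (δ y) (ε a)) (h : Y)
    (hh : ρ (δ h) = autJ) (r : Q) (hr : ε r = 1) (hrsq : ∀ a : Q, a * a ≠ r)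
    (hrg : MulAut.conjNormal (h * h) r = r) : False := by
  let cg : CommGroup Q :=
    { (inferInstance : Group Q) with mul_comm := fun a b => Subtype.ext (hQc a a.2 b b.2) }
  set Ω := ε.ker
  have hΩ2 : ∀ a : Ω, a * a = 1 := fun a => Subtype.ext ((hεk _).1 a.2)
  have hΩinv : ∀ (y : Y) (a : Q), a ∈ Ω → MulAut.conjNormal y a ∈ Ω := fun y a ha => by
    rw [MonoidHom.mem_ker] at ha ⊢
    rw [hεe, ha, map_one]
  let η : Y →* MulAut Ω :=
    { toFun := fun y =>
        { toFun := fun a => ⟨MulAut.conjNormal y (a : Q), hΩinv y a a.2⟩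
          invFun := fun a => ⟨MulAut.conjNormal y⁻¹ (a : Q), hΩinv _ a a.2⟩
          left_inv := fun a => Subtype.ext (by simp)
          right_inv := fun a => Subtype.ext (by simp)
          map_mul' := fun a b => Subtype.ext (by simp) }
      map_one' := MulEquiv.ext fun a => Subtype.ext (by simp)
      map_mul' := fun a b => MulEquiv.ext fun c => Subtype.ext (by simp) }
  have hηker : δ.ker ≤ η.ker := fun y hy => MulEquiv.ext fun a => Subtype.ext (Subtype.ext (by
    rw [hker] at hy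
    show ((MulAut.conjNormal y (a : Q) : Q) : Y) = _
    rw [MulAut.conjNormal_apply, hQc y hy _ (a : Q).2, mul_inv_cancel_right]
    rfl))
  let φ : G →* MulAut Ω := δ.liftOfSurjective hδ ⟨η, hηker⟩
  have hφ : ∀ y, φ (δ y) = η y := fun y =>
    MonoidHom.liftOfRightInverse_comp_apply δ (Function.surjInv hδ) (Function.rightInverse_surjInv _)
      ⟨η, hηker⟩ y
  let sqh : Q →* Q :=
    { toFun := fun a => a * a, map_one' := mul_one 1, map_mul' := fun a b => mul_mul_mul_comm a b a b }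
  have hsker : sqh.ker = ε.ker := by
    ext a; rw [MonoidHom.mem_ker, MonoidHom.mem_ker]; exact (hεk a).symm
  have hΩ16 : Nat.card Ω = 16 := by
    have e := Subgroup.card_mul_index ε.ker
    rw [Subgroup.index_ker, MonoidHom.range_eq_top.2 hε, Subgroup.card_top, h128,
      show Nat.card V3 = 8 by rw [Nat.card_eq_fintype_card]; rfl] at e
    show Nat.card ε.ker = 16
    omega
  let V : Subgroup Ω := sqh.range.subgroupOf Ω
  have hle : sqh.range ≤ Ω := by
    rintro _ ⟨a, rfl⟩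
    show ε (a * a) = 1
    rw [map_mul, sq_one_v3]
  have hV8 : Nat.card V = 8 := by
    rw [Nat.card_congr (Subgroup.subgroupOfEquivOfLe hle).toEquiv, ← Subgroup.index_ker, hsker,
      Subgroup.index_ker, MonoidHom.range_eq_top.2 hε, Subgroup.card_top, Nat.card_eq_fintype_card]
    rfl
  have hVinv : ∀ u, ∀ v ∈ V, φ u v ∈ V := by
    intro u v hv
    obtain ⟨y, rfl⟩ := hδ u
    obtain ⟨a, ha⟩ := hv
    rw [hφ]
    refine ⟨MulAut.conjNormal y a, ?_⟩
    show MulAut.conjNormal y a * MulAut.conjNormal y a = MulAut.conjNormal y (v : Q)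
    rw [← map_mul]; exact congrArg _ ha
  have hγg : ρ (δ (h * h)) = autA := by rw [map_mul, map_mul, hh, autJ_sq]
  have hgg : δ (h * h) * δ (h * h) = 1 := hρ.1 (by
    rw [map_mul, hγg, map_one]; refine MulEquiv.ext ?_; decide)
  have hg1 : δ (h * h) ≠ 1 := fun h1 => absurd (by rw [← hγg, h1, map_one]; rfl : autA e3 = e3) (by decide)
  obtain ⟨z, hzV, hzfix⟩ := fixed_outside h168 hΩ2 φ V hΩ16 hV8 hVinv (δ (h * h)) hgg hg1 ⟨r, hr⟩
    (fun ⟨a, ha⟩ => hrsq a ha) (by rw [hφ]; exact Subtype.ext hrg)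
  set z' : Y := ((z : Q) : Y) with hz'
  have hzc : ∀ y : Y, y * z' * y⁻¹ = z' := fun y => by
    have e := hzfix (δ y)
    rw [hφ] at e
    have e' := congrArg (fun a : Ω => ((a : Q) : Y)) e
    rwa [show ((((η y) z : Ω) : Q) : Y) = y * z' * y⁻¹ from MulAut.conjNormal_apply y (z : Q)] at e'
  set R0 := Subgroup.zpowers z' with hR0
  have hRn : R0.Normal := ⟨fun a ha y => by
    obtain ⟨i, rfl⟩ := ha
    have hc : Commute y z' := mul_inv_eq_iff_eq_mul.1 (hzc y)
    show y * z' ^ i * y⁻¹ ∈ R0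
    rw [(hc.zpow_right i).eq, mul_inv_cancel_right]
    exact ⟨i, rfl⟩⟩
  have hz2 : z' * z' = 1 := congrArg (fun a : Ω => ((a : Q) : Y)) (hΩ2 z)
  have hz1 : z' ≠ 1 := fun h1 => hzV (by
    rw [show z = 1 from Subtype.ext (Subtype.ext h1)]; exact V.one_mem)
  have hRmem : ∀ a, a ∈ R0 ↔ a = 1 ∨ a = z' := by
    intro a
    constructor
    · rintro ⟨i, rfl⟩
      show z' ^ i = 1 ∨ z' ^ i = z'
      rw [show i = 2 * (i / 2) + i % 2 from (Int.mul_ediv_add_emod i 2).symm, zpow_add, zpow_mul,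
        zpow_ofNat, sq, hz2, one_zpow, one_mul]
      rcases Int.emod_two_eq_zero_or_one i with h' | h' <;> rw [h']
      · exact Or.inl (zpow_zero _)
      · exact Or.inr (zpow_one _)
    · rintro (rfl | rfl)
      exacts [R0.one_mem, Subgroup.mem_zpowers _]
  have hRQ : R0 ≤ Q := Subgroup.zpowers_le.2 (z : Q).2
  set p := QuotientGroup.mk' R0 with hp
  set P := Q.map p with hP
  have hPn : P.Normal := Subgroup.Normal.map inferInstance _ (QuotientGroup.mk'_surjective _)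
  let θ : Q →* P := p.subgroupMap Q
  have hθ : Function.Surjective θ := p.subgroupMap_surjective Q
  have hθk : ∀ a : Q, θ a = 1 ↔ (a : Y) = 1 ∨ (a : Y) = z' := fun a => by
    rw [← hRmem, ← QuotientGroup.eq_one_iff (N := R0), Subtype.ext_iff]; rfl
  have hεθ : θ.ker ≤ ε.ker := fun a ha => by
    rw [MonoidHom.mem_ker] at ha ⊢
    rcases (hθk a).1 ha with h' | h'
    · rw [show a = 1 from Subtype.ext h', map_one]
    · rw [show a = (z : Q) from Subtype.ext h']; exact z.2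
  let ε' : P →* V3 := θ.liftOfSurjective hθ ⟨ε, hεθ⟩
  have hε'θ : ∀ a, ε' (θ a) = ε a := fun a =>
    MonoidHom.liftOfRightInverse_comp_apply θ (Function.surjInv hθ) (Function.rightInverse_surjInv _)
      ⟨ε, hεθ⟩ a
  let γ : (Y ⧸ R0) →* MulAut V3 := QuotientGroup.lift R0 (ρ.comp δ) (fun a ha => by
    have : a ∈ δ.ker := hker ▸ hRQ ha
    show ρ (δ a) = 1
    rw [MonoidHom.mem_ker.1 this, map_one])
  have hγp : ∀ y, γ (p y) = ρ (δ y) := fun y => rfl
  refine exclude_homocyclic (Cfsg.Agent.Spor.RankFourQuot.sectional_of_surjective p (QuotientGroup.mk'_surjective _) h4)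
    γ (fun f => by
      obtain ⟨y, hy⟩ := (hρ.2.comp hδ) f
      exact ⟨p y, hy⟩) P ?_ ?_ ε' (fun v => by
      obtain ⟨a, ha⟩ := hε v
      exact ⟨θ a, by rw [hε'θ, ha]⟩) ?_ ?_ ?_ (p h) ((hγp h).trans hh) (Or.inl ?_)
  · rintro _ ⟨a, ha, rfl⟩ _ ⟨b, hb, rfl⟩
    rw [← map_mul, ← map_mul, hQc a ha b hb]
  · have e := Subgroup.card_mul_index θ.ker
    rw [Subgroup.index_ker, MonoidHom.range_eq_top.2 hθ, Subgroup.card_top, h128] at e
    have hk2 : Nat.card θ.ker = 2 := by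
      have hset : (θ.ker : Set Q) = {1, (z : Q)} := by
        ext a
        simp only [SetLike.mem_coe, MonoidHom.mem_ker, hθk, Set.mem_insert_iff, Set.mem_singleton_iff,
          Subtype.ext_iff]
        rfl
      rw [← Set.ncard_pair (show (1 : Q) ≠ (z : Q) from fun h1 => hz1 (congrArg Subtype.val h1.symm)),
        ← hset, ← Nat.card_coe_set_eq]
      rfl
    rw [hk2] at e
    omega
  · intro x
    obtain ⟨a, rfl⟩ := hθ x
    rw [hε'θ, hεk, ← map_mul, hθk]
    refine ⟨fun h' => Or.inl (congrArg Subtype.val h'), fun h' => ?_⟩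
    rcases h' with h' | h'
    · exact Subtype.ext h'
    · exact absurd (⟨a, Subtype.ext h'⟩ : z ∈ V) hzV
  · intro x b
    obtain ⟨y, rfl⟩ := QuotientGroup.mk'_surjective R0 x
    obtain ⟨a, rfl⟩ := hθ b
    rw [show MulAut.conjNormal (p y) (θ a) = θ (MulAut.conjNormal y a) from Subtype.ext (by
      rw [MulAut.conjNormal_apply]
      show p y * p a * (p y)⁻¹ = p ((MulAut.conjNormal y a : Q) : Y)
      rw [MulAut.conjNormal_apply, map_mul, map_mul, map_inv]), hε'θ, hε'θ, hεe, hγp]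
  · intro x hx
    obtain ⟨y, rfl⟩ := QuotientGroup.mk'_surjective R0 x
    have hy : y ∈ Q := by
      rw [← hker, MonoidHom.mem_ker]
      exact hρ.1 ((show ρ (δ y) = 1 from hx).trans (map_one ρ).symm)
    refine ⟨P.mul_mem ⟨y, hy, rfl⟩ ⟨y, hy, rfl⟩, fun x' => ?_⟩
    rw [commutatorElement_def]
    exact P.mul_mem (Subgroup.Normal.conj_mem hPn _ ⟨y, hy, rfl⟩ x') (P.inv_mem ⟨y, hy, rfl⟩)
  · refine ⟨h * h * (h * h), ?_, by rw [map_mul, map_mul]⟩
    rw [← hker]
    show δ (h * h * (h * h)) = 1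
    rw [map_mul, hgg]

end

end Cfsg.Agent.Block.RankFourL32
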