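import Mathlib
import Cfsg.Agent.Lib.Block.RankFourA5.Action
import Cfsg.Agent.Lib.Block.RankFourL32.Layer

/-!
Invariant quadratic maps from the two kinds of modules of order sixteen.
-/

set_option autoImplicit false

namespace Cfsg.Agent.Block.RankFourL32

open RankFourA5 (fixSub mem_fixSub comm_of_sq)

section

variable {G : Type*} [Group G] [Finite G] [IsSimpleGroup G] (h168 : Nat.card G = 168)
  {W : Type*} [Group W] [Finite W] {φ : G →* MulAut W} (h16 : Nat.card W = 16)

/-- An invariant hyperplane carrying the natural module. -/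
structure HyperData (φ : G →* MulAut W) (i : V3 →* W) (ρ : G →* MulAut V3) : Prop where
  inj : Function.Injective i
  bij : Function.Bijective ρ
  equiv : ∀ t x, φ t (i x) = i (ρ t x)

omit [IsSimpleGroup G] [Finite G] [Finite W] in
include h16 in
theorem HyperData.index {i : V3 →* W} {ρ : G →* MulAut V3} (hd : HyperData φ i ρ) :
    i.range.index = 2 := by
  have h := Subgroup.card_mul_index i.range
  rw [← Nat.card_congr (MonoidHom.ofInjective hd.inj).toEquiv, h16,
    show Nat.card V3 = 8 by rw [Nat.card_eq_fintype_card]; rfl] at h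
  omega

include h168 h16 in
theorem exists_hyperData (hW : ∀ a : W, a * a = 1) (hφ : φ ≠ 1) (V : Subgroup W)
    (h8 : Nat.card V = 8) (hinv : ∀ t, ∀ v ∈ V, φ t v ∈ V) :
    ∃ (i : V3 →* W) (ρ : G →* MulAut V3), HyperData φ i ρ ∧ i.range = V := by
  have hback : ∀ t, ∀ v ∈ V, φ t⁻¹ v ∈ V := fun t => hinv _
  let φV : G →* MulAut V :=
    { toFun := fun t =>
        { toFun := fun v => ⟨φ t v, hinv t v v.2⟩
          invFun := fun v => ⟨φ t⁻¹ v, hinv _ v v.2⟩
          left_inv := fun v => Subtype.ext (by simp)
          right_inv := fun v => Subtype.ext (by simp)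
          map_mul' := fun a b => Subtype.ext (by simp) }
      map_one' := MulEquiv.ext fun v => Subtype.ext (by simp)
      map_mul' := fun a b => MulEquiv.ext fun v => Subtype.ext (by simp) }
  have hidx : V.index = 2 := by
    have h := Subgroup.card_mul_index V
    rw [h8, h16] at h; omega
  have hne : φV ≠ 1 := by
    intro h
    refine hφ (eq_one_of_stabilize h168 hW φ V (fun t v hv => ?_) (fun t w => ?_))
    · exact congrArg Subtype.val (DFunLike.congr_fun (DFunLike.congr_fun h t) ⟨v, hv⟩)
    · rw [Subgroup.mul_mem_iff_of_index_two hidx]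
      refine ⟨fun hw => hinv t w hw, fun hw => ?_⟩
      simpa using hback t _ hw
  obtain ⟨ι, ρ, hρ, hι⟩ := natural h168 (fun a => Subtype.ext (hW a)) h8 φV hne
  refine ⟨V.subtype.comp ι.toMonoidHom, ρ, ⟨(Subgroup.subtype_injective V).comp ι.injective, hρ,
    fun t x => congrArg Subtype.val (hι t x)⟩, ?_⟩
  ext w
  exact ⟨fun ⟨x, hx⟩ => hx ▸ (ι x).2, fun hw => ⟨ι.symm ⟨w, hw⟩, by simp⟩⟩

variable {M : Type*} [Group M] [Finite M] {ψ : G →* MulAut M} {q : W → M}

include h168 h16 in
/-- The possibilities with an invariant hyperplane. -/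
theorem hyper_cases {i : V3 →* W} {ρ : G →* MulAut V3} (hd : HyperData φ i ρ) (hq : IsQuad φ ψ q)
    (hM16 : Nat.card M ≤ 16) (hgen : Subgroup.closure (Set.range q) = ⊤)
    (hrank : ∀ S : Subgroup W, (∀ a ∈ S, q a = 1) → Nat.card S * Nat.card M ≤ 16)
    (g : G) (hg : g * g = 1) (hgρ : ρ g = autA)
    (hbound : Nat.card ↥(fixSub (φ g)) = 4 → Nat.card M ≤ 2 * Nat.card ↥(fixSub (ψ g))) :
    (Nat.card M ≤ 2 ∧ (∀ x y, polar q x y = 1) ∧ ∀ x, q (i x) = 1) ∨
      ((∀ x y, polar q (i x) (i y) = 1) ∧ Function.Injective (q ∘ i) ∧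
        (Nat.card M = 8 ∨ ∃ m₀, (∀ x, q (i x) ≠ m₀) ∧ ∀ t, ψ t m₀ = m₀)) := by
  have hq' : IsQuad ρ ψ (q ∘ i) :=
    { expW := sq_one_v3
      expM := hq.expM
      one := by simp [hq.one]
      equiv := fun t x => by simp [← hd.equiv, hq.equiv]
      bi := fun x y z => by
        have h : ∀ a b, polar (q ∘ i) a b = polar q (i a) (i b) := fun a b => by simp [polar]
        rw [h, h, h, map_mul, hq.bi] }
  obtain ⟨hc, hcases⟩ := nat_zero h168 hd.bij hq' hM16
  have hcV : ∀ x y, polar q (i x) (i y) = 1 := fun x y => by
    have h := hc x y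
    simp only [polar, Function.comp_apply, map_mul] at h ⊢
    exact h
  have hidx := hd.index h16
  obtain ⟨s, hs⟩ : ∃ s, s ∉ i.range := by
    by_contra! h
    rw [(Subgroup.eq_top_iff' _).2 h, Subgroup.index_top] at hidx
    norm_num at hidx
  have hdec : ∀ w, ∃ x, w = i x ∨ w = s * i x := by
    intro w
    by_cases hw : w ∈ i.range
    · obtain ⟨x, rfl⟩ := hw; exact ⟨x, Or.inl rfl⟩
    · obtain ⟨x, hx⟩ := (Subgroup.mul_mem_iff_of_index_two hidx).2
        (iff_of_false (fun h => hs (inv_inv s ▸ i.range.inv_mem h)) hw : s⁻¹ ∈ i.range ↔ w ∈ i.range)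
      exact ⟨x, Or.inr (by rw [hx, mul_inv_cancel_left])⟩
  rcases hcases with h1 | hinj
  · left
    have hcard : Nat.card i.range = 8 := by
      rw [← Nat.card_congr (MonoidHom.ofInjective hd.inj).toEquiv, Nat.card_eq_fintype_card]; rfl
    have hM2 : Nat.card M ≤ 2 := by
      have h := hrank i.range (by rintro _ ⟨x, rfl⟩; exact h1 x)
      rw [hcard] at h; omega
    have hψ : ψ = 1 := action_small h168 ψ (by omega)
    refine ⟨hM2, ?_, h1⟩
    let f : V3 →* M :=
      ⟨⟨fun x => polar q (i x) s, by rw [map_one, hq.polar_one]⟩,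
        fun x y => by show polar q (i (x * y)) s = _; rw [map_mul, hq.bi]⟩
    have hker : ∀ t, ∀ a ∈ f.ker, ρ t a ∈ f.ker := by
      intro t a ha
      show polar q (i (ρ t a)) s = 1
      have ha' : polar q (i a) s = 1 := ha
      have h := hq.polar_equiv t (i a) s
      rw [ha', map_one, hd.equiv] at h
      obtain ⟨u, hu | hu⟩ := hdec (φ t s)
      · exfalso; apply hs
        refine ⟨ρ t⁻¹ u, ?_⟩
        rw [← hd.equiv, ← hu, ← MulAut.mul_apply, ← map_mul, inv_mul_cancel, map_one]; rfl
      · rwa [hu, hq.polar_mul_right, hcV, mul_one] at h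
    have htop : f.ker = ⊤ := (invariant_subgroup h168 ρ hd.bij f.ker hker).resolve_left fun hb => by
      have hle := Nat.card_le_card_of_injective f ((MonoidHom.ker_eq_bot_iff f).1 hb)
      rw [show Nat.card V3 = 8 by rw [Nat.card_eq_fintype_card]; rfl] at hle
      omega
    have hfs : ∀ x, polar q (i x) s = 1 := fun x => (show x ∈ f.ker by rw [htop]; trivial)
    refine hq.polar_eq_one_of_basis (s := insert s (Set.range i)) ?_ ?_
    · rw [eq_top_iff]
      intro w _
      obtain ⟨x, rfl | rfl⟩ := hdec w
      · exact Subgroup.subset_closure (Set.mem_insert_of_mem _ ⟨x, rfl⟩)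
      · exact Subgroup.mul_mem _ (Subgroup.subset_closure (Set.mem_insert _ _))
          (Subgroup.subset_closure (Set.mem_insert_of_mem _ ⟨x, rfl⟩))
    · rintro a (rfl | ⟨x, rfl⟩) b (rfl | ⟨y, rfl⟩)
      · exact hq.polar_self _
      · rw [hq.symm]; exact hfs y
      · exact hfs x
      · exact hcV x y
  · right
    refine ⟨hcV, hinj, ?_⟩
    let qi : V3 →* M := ⟨⟨fun x => q (i x), hq'.one⟩, hq'.hom_of_polar hc⟩
    have hqinj : Function.Injective qi := hinj
    set D := qi.range with hD
    have hD8 : Nat.card D = 8 := by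
      rw [hD, ← Nat.card_congr (MonoidHom.ofInjective hqinj).toEquiv, Nat.card_eq_fintype_card]; rfl
    have hd8 : Nat.card M = 8 ∨ Nat.card M = 16 := by
      have h := Subgroup.card_mul_index D
      rw [hD8] at h
      have hpos : 0 < D.index := Nat.pos_of_ne_zero Subgroup.index_ne_zero_of_finite
      omega
    rcases hd8 with h | h
    · exact Or.inl h
    right
    have hM := hq.expM
    rcases fix_cases hq.expW φ h16 g hg with ⟨h4, -⟩ | h8
    · -- the involution fixes a point outside
      have hb := hbound h4
      have hDinv : ∀ t, ∀ d ∈ D, ψ t d ∈ D := by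
        rintro t _ ⟨x, rfl⟩
        exact ⟨ρ t x, by show q (i (ρ t x)) = ψ t (q (i x)); rw [← hd.equiv, hq.equiv]⟩
      obtain ⟨m, hm, hmD⟩ : ∃ m ∈ fixSub (ψ g), m ∉ D := by
        by_contra! hall
        let f : fixSub (ψ g) → {x : V3 // autA x = x} := fun m =>
          ⟨(hall m m.2).choose, hqinj (by
            have hc := (hall m m.2).choose_spec
            show q (i (autA _)) = qi _
            rw [hc, ← hgρ, ← hd.equiv, hq.equiv]
            show ψ g (qi _) = _
            rw [hc]; exact m.2)⟩
        have hf : Function.Injective f := fun a b h => Subtype.ext (by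
          have h' := congrArg Subtype.val h
          simp only [f] at h'
          rw [← (hall a a.2).choose_spec, ← (hall b b.2).choose_spec, h'])
        have hle := Nat.card_le_card_of_injective f hf
        have h4' : Nat.card {x : V3 // autA x = x} = 4 := by rw [Nat.card_eq_fintype_card]; decide
        omega
      have hg1 : g ≠ 1 := fun h1 => absurd (by rw [← hgρ, h1, map_one]; rfl : autA e3 = e3) (by decide)
      obtain ⟨z, hz, hzfix⟩ := fixed_outside h168 hM ψ D h hD8 hDinv g hg hg1 m hmD hm
      exact ⟨z, fun x hx => hz ⟨x, hx⟩, hzfix⟩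
    · -- a fixed point outside the hyperplane
      obtain ⟨s', hs', hs'V⟩ : ∃ a ∈ fixSub (φ g), a ∉ i.range := by
        by_contra! hall
        let f : fixSub (φ g) → {x : V3 // autA x = x} := fun m =>
          ⟨(hall m m.2).choose, hd.inj (by
            have hc := (hall m m.2).choose_spec
            rw [← hgρ, ← hd.equiv, hc]; exact m.2)⟩
        have hf : Function.Injective f := fun a b h => Subtype.ext (by
          have h' := congrArg Subtype.val h
          simp only [f] at h'
          rw [← (hall a a.2).choose_spec, ← (hall b b.2).choose_spec, h'])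
        have hle := Nat.card_le_card_of_injective f hf
        have h4' : Nat.card {x : V3 // autA x = x} = 4 := by rw [Nat.card_eq_fintype_card]; decide
        omega
      have hg1 : g ≠ 1 := fun h1 => absurd (by rw [← hgρ, h1, map_one]; rfl : autA e3 = e3) (by decide)
      obtain ⟨z, hz, hzfix⟩ := fixed_outside h168 hq.expW φ i.range h16
        (by rw [← Nat.card_congr (MonoidHom.ofInjective hd.inj).toEquiv, Nat.card_eq_fintype_card]; rfl)
        (by rintro t _ ⟨x, rfl⟩; exact ⟨ρ t x, (hd.equiv t x).symm⟩) g hg hg1 s' hs'V hs'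
      refine ⟨q z, fun x hx => ?_, fun t => by rw [← hq.equiv, hzfix]⟩
      -- all values would lie in the image of the hyperplane
      let f : V3 →* M :=
        ⟨⟨fun y => polar q (i y) z, by rw [map_one, hq.polar_one]⟩,
          fun a b => by show polar q (i (a * b)) z = _; rw [map_mul, hq.bi]⟩
      have hfe : ∀ t y, f (ρ t y) = ψ t (f y) := fun t y => by
        show polar q (i (ρ t y)) z = ψ t (polar q (i y) z)
        rw [← hq.polar_equiv, hd.equiv, hzfix]
      have hfD : ∀ y, f y ∈ D := by
        rcases invariant_subgroup h168 ρ hd.bij f.ker (fun t a ha => by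
          rw [MonoidHom.mem_ker] at ha ⊢; rw [hfe, ha, map_one]) with hk | hk
        · rcases invariant_subgroup h168 ρ hd.bij (D.comap f) (fun t a ha => by
            obtain ⟨u, hu⟩ := ha
            refine ⟨ρ t u, ?_⟩
            rw [hfe, ← hu]
            show q (i (ρ t u)) = ψ t (q (i u))
            rw [← hd.equiv, hq.equiv]) with hc' | hc'
          · exfalso
            let F : D × V3 → M := fun p => (p.1 : M) * f p.2
            have hF : Function.Injective F := by
              rintro ⟨d, v⟩ ⟨d', v'⟩ h'
              simp only [F] at h'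
              have hmem : v * v'⁻¹ ∈ D.comap f := by
                show f (v * v'⁻¹) ∈ D
                rw [map_mul, map_inv, show f v * (f v')⁻¹ = (d : M)⁻¹ * d' by
                  rw [eq_inv_mul_iff_mul_eq, ← mul_assoc, h', mul_inv_cancel_right]]
                exact D.mul_mem (D.inv_mem d.2) d'.2
              rw [hc', Subgroup.mem_bot, mul_inv_eq_one] at hmem
              subst hmem
              exact Prod.ext (Subtype.ext (mul_right_cancel h')) rfl
            have hle := Nat.card_le_card_of_injective F hF
            rw [Nat.card_prod, hD8, show Nat.card V3 = 8 by rw [Nat.card_eq_fintype_card]; rfl] at hle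
            omega
          · exact fun y => (show y ∈ D.comap f by rw [hc']; trivial)
        · exact fun y => (show f y = 1 from (show y ∈ f.ker by rw [hk]; trivial)) ▸ D.one_mem
      have htop : D = ⊤ := by
        rw [eq_top_iff, ← hgen, Subgroup.closure_le]
        rintro _ ⟨w, rfl⟩
        by_cases hw : w ∈ i.range
        · obtain ⟨y, rfl⟩ := hw; exact ⟨y, rfl⟩
        · obtain ⟨y, hy⟩ := (Subgroup.mul_mem_iff_of_index_two hidx).2 (iff_of_false hw hz)
          have hwe : w = i y * z := by
            rw [hy, mul_assoc, hq.expW, mul_one]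
          rw [hwe]
          show q (i y * z) ∈ D
          rw [hq.split]
          exact D.mul_mem (D.mul_mem ⟨y, rfl⟩ ⟨x, hx⟩) (hfD y)
      rw [htop, Subgroup.card_top, h] at hD8
      norm_num at hD8

include h168 h16 in
/-- The possibilities with a fixed involution and no invariant hyperplane. -/
theorem fixed_cases {z : W} {p : W →* V3} {ρ : G →* MulAut V3} (hd : FixedData φ z p ρ)
    (hV : ¬ ∃ V : Subgroup W, Nat.card V = 8 ∧ ∀ t, ∀ v ∈ V, φ t v ∈ V) (hq : IsQuad φ ψ q)
    (hM16 : Nat.card M ≤ 16) (hgen : Subgroup.closure (Set.range q) = ⊤)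
    (g : G) (hg : g * g = 1) (hgρ : ρ g = autA)
    (hbound : Nat.card ↥(fixSub (φ g)) = 4 → Nat.card M ≤ 2 * Nat.card ↥(fixSub (ψ g))) :
    Nat.card M = 1 ∨ ((∀ x y, polar q x y = 1) ∧ Nat.card M = 8 ∧ ∀ w, q w = 1 ↔ w = 1 ∨ w = z) := by
  have hW := hq.expW
  have hM := hq.expM
  have hWcard8 : ∀ H : Subgroup W, (∀ t, ∀ a ∈ H, φ t a ∈ H) →
      (∀ a ∈ H, a = 1 ∨ a = z) ∨ H = ⊤ := by
    intro H hH
    rcases invariant_subgroup h168 ρ hd.bij (H.map p) (by
      rintro t _ ⟨a, ha, rfl⟩
      exact ⟨φ t a, hH t a ha, hd.equiv t a⟩) with hb | ht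
    · left
      intro a ha
      refine (hd.ker a).1 ?_
      rw [← Subgroup.mem_bot, ← hb]; exact ⟨a, ha, rfl⟩
    · right
      have h8 : 8 ≤ Nat.card H := by
        have h := Nat.card_le_card_of_surjective (p.subgroupMap H) (p.subgroupMap_surjective H)
        rwa [ht, Subgroup.card_top, show Nat.card V3 = 8 by rw [Nat.card_eq_fintype_card]; rfl] at h
      by_contra htop
      have hdvd : Nat.card H ∣ 16 := h16 ▸ Subgroup.card_subgroup_dvd_card H
      have hle := Nat.le_of_dvd (by norm_num) hdvd
      rcases (show Nat.card H = 8 ∨ Nat.card H = 16 by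
        interval_cases hc : Nat.card H <;> omega) with h | h
      · exact hV ⟨H, h, hH⟩
      · exact htop (Subgroup.eq_top_of_card_eq H (h.trans h16.symm))
  -- the pairing with the fixed element
  set σ := Function.surjInv hd.surj with hσ
  have hσp : ∀ x, p (σ x) = x := Function.surjInv_eq hd.surj
  have hfp : ∀ w, polar q w z = polar q (σ (p w)) z := fun w => by
    rcases hd.same hW (hσp (p w)) with h | h
    · rw [← h]
    · conv_lhs => rw [h]
      rw [hq.bi, hq.polar_self, mul_one]
  let f : V3 →* M :=
    ⟨⟨fun x => polar q (σ x) z, by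
      show polar q (σ 1) z = 1
      rw [show (1 : V3) = p 1 from (map_one p).symm, ← hfp, hq.polar_one]⟩,
      fun x y => by
        show polar q (σ (x * y)) z = polar q (σ x) z * polar q (σ y) z
        rw [← hq.bi, hfp (σ x * σ y), map_mul, hσp, hσp]⟩
  have hf : ∀ w, polar q w z = f (p w) := hfp
  have hfe : ∀ t y, f (ρ t y) = ψ t (f y) := fun t y => by
    show polar q (σ (ρ t y)) z = ψ t (polar q (σ y) z)
    conv_rhs => rw [← hq.polar_equiv, hd.fix, hfp, hd.equiv, hσp]
  rcases invariant_subgroup h168 ρ hd.bij f.ker (fun t a ha => by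
    rw [MonoidHom.mem_ker] at ha ⊢; rw [hfe, ha, map_one]) with hk | hk
  · -- the pairing is injective: an invariant hyperplane appears
    exfalso
    have hfi : Function.Injective f := (MonoidHom.ker_eq_bot_iff f).1 hk
    set D := f.range with hD
    have hD8 : Nat.card D = 8 := by
      rw [hD, ← Nat.card_congr (MonoidHom.ofInjective hfi).toEquiv, Nat.card_eq_fintype_card]; rfl
    have hidx : D.index = 1 ∨ D.index = 2 := by
      have h := Subgroup.card_mul_index D
      rw [hD8] at h
      have hpos : 0 < D.index := Nat.pos_of_ne_zero Subgroup.index_ne_zero_of_finite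
      omega
    have hmul2 : ∀ a b : M, a ∉ D → b ∉ D → a * b ∈ D := by
      intro a b ha hb
      rcases hidx with h | h
      · rw [Subgroup.index_eq_one] at h; exact absurd (h ▸ Subgroup.mem_top a) ha
      · exact (Subgroup.mul_mem_iff_of_index_two h).2 (iff_of_false ha hb)
    have hDz : ∀ a, polar q a z ∈ D := fun a => ⟨p a, (hf a).symm⟩
    have hshift : ∀ a b a' b', p a = p a' → p b = p b' →
        (polar q a b ∈ D ↔ polar q a' b' ∈ D) := by
      intro a b a' b' ha hb
      rcases hd.same hW ha with rfl | rfl <;> rcases hd.same hW hb with rfl | rfl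
      · rfl
      · rw [hq.polar_mul_right]; exact (D.mul_mem_cancel_right (hDz _)).symm
      · rw [hq.bi, hq.symm z]; exact (D.mul_mem_cancel_right (hDz _)).symm
      · rw [hq.bi, hq.polar_mul_right a, hq.polar_mul_right z, hq.polar_self, mul_one, hq.symm z, mul_assoc]
        exact (D.mul_mem_cancel_right (D.mul_mem (hDz _) (hDz _))).symm
    have hDinv : ∀ t, ∀ d ∈ D, ψ t d ∈ D := by
      rintro t _ ⟨x, rfl⟩; exact ⟨ρ t x, hfe t x⟩
    have hpair : ∀ a b, p a ≠ 1 → p b ≠ 1 → p b ≠ p a →
        (polar q a b ∈ D ↔ polar q (σ e1) (σ e2) ∈ D) := by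
      intro a b ha hb hab
      obtain ⟨t, h1, h2⟩ := transitive_pairs h168 ρ hd.bij ha hb hab
      have h := hshift a b (φ t (σ e1)) (φ t (σ e2)) (by rw [hd.equiv, hσp, h1])
        (by rw [hd.equiv, hσp, h2])
      rw [hq.polar_equiv] at h
      refine h.trans ⟨fun hh => ?_, fun hh => hDinv t _ hh⟩
      simpa using hDinv t⁻¹ _ hh
    have hcD : ∀ a b, polar q a b ∈ D := by
      have h12 : polar q (σ e1) (σ e2) ∈ D := by
        by_contra h
        have h13 : polar q (σ e1) (σ e3) ∉ D := fun h' => h ((hpair _ _ (by rw [hσp]; decide)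
          (by rw [hσp]; decide) (by rw [hσp, hσp]; decide)).1 h')
        have h123 : polar q (σ e1) (σ e2 * σ e3) ∉ D := fun h' => h ((hpair _ _ (by rw [hσp]; decide)
          (by rw [map_mul, hσp, hσp]; decide) (by rw [map_mul, hσp, hσp, hσp]; decide)).1 h')
        rw [hq.polar_mul_right] at h123
        exact h123 (hmul2 _ _ h h13)
      intro a b
      by_cases ha : p a = 1
      · rcases (hd.ker a).1 ha with rfl | rfl
        · rw [hq.polar_one]; exact D.one_mem
        · rw [hq.symm]; exact hDz b
      by_cases hb : p b = 1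
      · rcases (hd.ker b).1 hb with rfl | rfl
        · rw [hq.symm, hq.polar_one]; exact D.one_mem
        · exact hDz a
      by_cases hab : p b = p a
      · exact (hshift a b a a rfl hab).2 (by rw [hq.polar_self]; exact D.one_mem)
      exact (hpair a b ha hb hab).2 h12
    set H := hq.preimage D hcD with hH
    have hHtop : H = ⊤ := by
      refine (hWcard8 H fun t a ha => ?_).resolve_left fun h => ?_
      · show q (φ t a) ∈ D
        rw [hq.equiv]; exact hDinv t _ ha
      · have hn : ∀ x, x ≠ 1 → q (σ x) ∉ D := fun x hx hm => hx (by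
          rw [← hσp x]; exact (hd.ker _).2 (h _ hm))
        have hp : q (σ e1 * σ e2) ∈ D := by
          rw [hq.split]; exact D.mul_mem (hmul2 _ _ (hn _ (by decide)) (hn _ (by decide))) (hcD _ _)
        have h' := (hd.ker _).2 (h _ hp)
        rw [map_mul, hσp, hσp] at h'
        exact absurd h' (by decide)
    have hqD : ∀ w, q w ∈ D := fun w => (show w ∈ H by rw [hHtop]; trivial)
    have hqz : q z = 1 := by
      obtain ⟨v, hv⟩ := hqD z
      have hfix : ∀ t, ρ t v = v := fun t => hfi (by rw [hfe, hv, ← hq.equiv, hd.fix])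
      have hv1 : v = 1 := by
        by_contra hne
        obtain ⟨r, hr⟩ := transitive h168 ρ hd.bij hne
        obtain ⟨t, ht, -⟩ := transitive_pairs h168 ρ hd.bij (x := e2) (y := e1) (by decide) (by decide)
          (by decide)
        have h := hfix (r * t * r⁻¹)
        rw [map_mul, map_mul, map_inv, ← hr, MulAut.mul_apply, MulAut.mul_apply, MulAut.inv_apply_self,
          (ρ r).injective.eq_iff, ht] at h
        exact absurd h (by decide)
      rw [← hv, hv1, map_one]
    -- each point has exactly one preimage of value one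
    have hswap : ∀ w, q (w * z) = q w * f (p w) := fun w => by rw [hq.split, hqz, mul_one, hf]
    have hex1 : ∃ w, p w = e1 ∧ q w = 1 := by
      obtain ⟨v, hv⟩ := hqD (σ e1)
      have hstep : ∀ t, ρ t e1 = e1 → ρ t v = v ∨ ρ t v = v * e1 := by
        intro t ht
        have h : f (ρ t v) = q (φ t (σ e1)) := by rw [hfe, hv, hq.equiv]
        rcases hd.same hW (show p (σ e1) = p (φ t (σ e1)) by rw [hd.equiv, hσp, ht]) with h' | h'
        · rw [h', ← hv] at h; exact Or.inl (hfi h)
        · rw [h', hswap, hσp, ← hv, ← map_mul] at h; exact Or.inr (hfi h)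
      obtain ⟨tB, hB⟩ := hd.bij.2 autB
      obtain ⟨tC, hC⟩ := hd.bij.2 autC
      have hvB := hstep tB (by rw [hB]; decide)
      have hvC := hstep tC (by rw [hC]; decide)
      rw [hB] at hvB; rw [hC] at hvC
      have hdecide : ∀ v : V3, (autB v = v ∨ autB v = v * e1) → (autC v = v ∨ autC v = v * e1) →
          v = 1 ∨ v = e1 := by decide
      rcases hdecide v hvB hvC with h | h
      · exact ⟨σ e1, hσp e1, by rw [← hv, h, map_one]⟩
      · refine ⟨σ e1 * z, by rw [map_mul, (hd.ker z).2 (Or.inr rfl), mul_one, hσp], ?_⟩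
        rw [hswap, hσp, ← hv, h, hM]
    have hex : ∀ x, ∃ w, p w = x ∧ q w = 1 := fun x => by
      rcases eq_or_ne x 1 with rfl | hx
      · exact ⟨1, map_one p, hq.one⟩
      · obtain ⟨t, ht⟩ := transitive h168 ρ hd.bij hx
        obtain ⟨w, hw, hqw⟩ := hex1
        exact ⟨φ t w, by rw [hd.equiv, hw, ht], by rw [hq.equiv, hqw, map_one]⟩
    have huniq : ∀ a b, p a = p b → p a ≠ 1 → q a = 1 → q b = 1 → a = b := by
      intro a b hab ha hqa hqb
      rcases hd.same hW hab with h | h
      · exact h.symm
      · rw [h, hswap, hqa, one_mul] at hqb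
        exact absurd ((map_eq_one_iff f hfi).1 hqb) ha
    classical
    let τ : V3 → W := fun x => if x = 1 then 1 else (hex x).choose
    refine hV (hyperplane_of_section h168 hW hd τ (by simp [τ]) (fun x => ?_) (fun t x => ?_))
    · by_cases hx : x = 1
      · simp [τ, hx]
      · simp only [τ, if_neg hx]; exact (hex x).choose_spec.1
    · by_cases hx : x = 1
      · simp [τ, hx]
      · have hx' : ρ t x ≠ 1 := fun h => hx ((map_eq_one_iff _ (ρ t).injective).1 h)
        simp only [τ, if_neg hx, if_neg hx']
        refine huniq _ _ ?_ ?_ ?_ (hex _).choose_spec.2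
        · rw [hd.equiv, (hex x).choose_spec.1, (hex _).choose_spec.1]
        · rw [hd.equiv, (hex x).choose_spec.1]; exact hx'
        · rw [hq.equiv, (hex x).choose_spec.2, map_one]
  · -- the pairing with the fixed element is trivial
    have hcz : ∀ a, polar q a z = 1 := fun a => by
      rw [hf]; exact (show p a ∈ f.ker by rw [hk]; trivial)
    have hshift : ∀ a b a' b', p a = p a' → p b = p b' → polar q a b = polar q a' b' := by
      intro a b a' b' ha hb
      rcases hd.same hW ha with rfl | rfl <;> rcases hd.same hW hb with rfl | rfl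
      · rfl
      · rw [hq.polar_mul_right, hcz, mul_one]
      · rw [hq.bi, hq.symm z, hcz, mul_one]
      · rw [hq.bi, hq.polar_mul_right a, hq.polar_mul_right z, hcz, hq.symm z b, hcz, hq.polar_self]
        simp
    let c' : V3 → V3 → M := fun x y => polar q (σ x) (σ y)
    have hc'bi : ∀ x y w, c' (x * y) w = c' x w * c' y w := fun x y w => by
      show polar q (σ (x * y)) (σ w) = polar q (σ x) (σ w) * polar q (σ y) (σ w)
      rw [← hq.bi]; exact hshift _ _ _ _ (by rw [map_mul, hσp, hσp, hσp]) rfl
    have hc'self : ∀ x, c' x x = 1 := fun x => hq.polar_self _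
    have hc'sym : ∀ x y, c' x y = c' y x := fun x y => hq.symm _ _
    have hc'e : ∀ t x y, c' (ρ t x) (ρ t y) = ψ t (c' x y) := fun t x y => by
      show polar q _ _ = ψ t (polar q _ _)
      rw [← hq.polar_equiv]
      exact hshift _ _ _ _ (by rw [hd.equiv, hσp, hσp]) (by rw [hd.equiv, hσp, hσp])
    have hc1 : ∀ a b, polar q a b = 1 := by
      by_contra hne
      push Not at hne
      have hfac : ∀ a b, polar q a b = c' (p a) (p b) := fun a b =>
        hshift a b _ _ (hσp _).symm (hσp _).symm
      have h12 : c' e1 e2 ≠ 1 := by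
        obtain ⟨a, b, hab⟩ := hne
        intro h
        apply hab
        have hone : ∀ y, c' 1 y = 1 := fun y => by
          show polar q (σ 1) (σ y) = 1
          rw [hshift (σ 1) (σ y) 1 (σ y) (by rw [hσp, map_one]) rfl, hq.polar_one]
        rw [hfac]
        by_cases hx : p a = 1
        · rw [hx, hone]
        by_cases hy : p b = 1
        · rw [hy, hc'sym, hone]
        by_cases hxy : p b = p a
        · rw [hxy, hc'self]
        obtain ⟨t, h1, h2⟩ := transitive_pairs h168 ρ hd.bij hx hy hxy
        rw [← h1, ← h2, hc'e, h, map_one]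
      set D := Subgroup.closure (Set.range fun pr : V3 × V3 => c' pr.1 pr.2) with hD
      have hcD : ∀ a b, polar q a b ∈ D := fun a b => by
        rw [hfac]; exact Subgroup.subset_closure ⟨(p a, p b), rfl⟩
      have hDinv : ∀ t, ∀ d ∈ D, ψ t d ∈ D := by
        intro t d hd'
        have hle : D ≤ D.comap (ψ t).toMonoidHom := by
          conv_lhs => rw [hD]
          rw [Subgroup.closure_le]
          rintro _ ⟨⟨a, b⟩, rfl⟩
          exact Subgroup.subset_closure ⟨(ρ t a, ρ t b), hc'e t a b⟩
        exact hle hd'
      have hHtop : hq.preimage D hcD = ⊤ := by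
        refine (hWcard8 _ fun t a ha => ?_).resolve_left fun h => ?_
        · show q (φ t a) ∈ D
          rw [hq.equiv]; exact hDinv t _ ha
        · have h13 : c' e1 e3 ≠ 1 := by
            intro h'
            obtain ⟨t, h1, h2⟩ := transitive_pairs h168 ρ hd.bij (x := e1) (y := e3) (by decide)
              (by decide) (by decide)
            rw [← h1, ← h2, hc'e, map_eq_one_iff _ (ψ t).injective] at h'
            exact h12 h'
          have hne' : c' e1 e2 ≠ c' e1 e3 := by
            intro h'
            obtain ⟨t, h1, h2⟩ := transitive_pairs h168 ρ hd.bij (x := e1) (y := e2 * e3) (by decide)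
              (by decide) (by decide)
            have hz' : c' e1 (e2 * e3) = 1 := by rw [hc'sym, hc'bi, hc'sym e2, hc'sym e3, h', hM]
            rw [← h1, ← h2, hc'e, map_eq_one_iff _ (ψ t).injective] at hz'
            exact h12 hz'
          have hD3 : 3 ≤ Nat.card D := by
            have h3 : ({1, c' e1 e2, c' e1 e3} : Set M) ⊆ (D : Set M) := by
              rintro x (rfl | rfl | rfl)
              · exact D.one_mem
              · exact Subgroup.subset_closure ⟨(e1, e2), rfl⟩
              · exact Subgroup.subset_closure ⟨(e1, e3), rfl⟩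
            have h4 := Set.ncard_le_ncard h3 (Set.toFinite _)
            rw [Set.ncard_insert_of_notMem (by simp [h12.symm, h13.symm]) (Set.toFinite _),
              Set.ncard_pair hne', ← Nat.card_coe_set_eq] at h4
            exact h4
          let F : D × V3 → M := fun pr => (pr.1 : M) * q (σ pr.2)
          have hF : Function.Injective F := by
            rintro ⟨d, v⟩ ⟨d', v'⟩ h'
            simp only [F] at h'
            have hmem : q (σ v) * q (σ v') ∈ D := by
              have : q (σ v) * q (σ v') = (d : M)⁻¹ * d' := by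
                rw [eq_inv_mul_iff_mul_eq, ← mul_assoc, h', mul_assoc, hM, mul_one]
              rw [this]; exact D.mul_mem (D.inv_mem d.2) d'.2
            have hker := (hd.ker _).2 (h (σ v * σ v') (by
              show q (σ v * σ v') ∈ D
              rw [hq.split]; exact D.mul_mem hmem (hcD _ _)))
            rw [map_mul, hσp, hσp] at hker
            have hvv : v = v' := by
              rw [eq_inv_of_mul_eq_one_left hker, inv_eq_of_mul_eq_one_right (sq_one_v3 v')]
            subst hvv
            exact Prod.ext (Subtype.ext (mul_right_cancel h')) rfl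
          have hle := Nat.card_le_card_of_injective F hF
          rw [Nat.card_prod, show Nat.card V3 = 8 by rw [Nat.card_eq_fintype_card]; rfl] at hle
          omega
      have hqz : q z = 1 := cross_fixed h168 hd.bij hM (ψ := ψ) c' hc'bi hc'sym hc'self hc'e h12 (q z)
        (show z ∈ hq.preimage D hcD by rw [hHtop]; trivial)
        (fun t _ => by rw [← hq.equiv, hd.fix])
      have hqσ : ∀ a b, p a = p b → q a = q b := fun a b hab => by
        rcases hd.same hW hab with h | h
        · rw [h]
        · rw [h, hq.split, hqz, hcz]; simp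
      have hq' : IsQuad ρ ψ (q ∘ σ) :=
        { expW := sq_one_v3
          expM := hM
          one := by
            show q (σ 1) = 1
            rw [hqσ (σ 1) 1 (by rw [hσp, map_one]), hq.one]
          equiv := fun t x => by
            show q (σ (ρ t x)) = ψ t (q (σ x))
            rw [← hq.equiv]; exact hqσ _ _ (by rw [hd.equiv, hσp, hσp])
          bi := fun x y w => by
            have h : ∀ a b, polar (q ∘ σ) a b = c' a b := fun a b => by
              show q (σ (a * b)) * q (σ a) * q (σ b) = q (σ a * σ b) * q (σ a) * q (σ b)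
              rw [hqσ (σ (a * b)) (σ a * σ b) (by rw [map_mul, hσp, hσp, hσp])]
            rw [h, h, h, hc'bi] }
      have hzero := (nat_zero h168 hd.bij hq' hM16).1 e1 e2
      apply h12
      rw [← hzero]
      show q (σ e1 * σ e2) * _ * _ = q (σ (e1 * e2)) * _ * _
      rw [hqσ (σ e1 * σ e2) (σ (e1 * e2)) (by rw [map_mul, hσp, hσp, hσp])]; rfl
    let qh : W →* M := ⟨⟨q, hq.one⟩, hq.hom_of_polar hc1⟩
    have hsurj : Function.Surjective qh := by
      rw [← MonoidHom.range_eq_top, eq_top_iff, ← hgen, Subgroup.closure_le]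
      rintro _ ⟨w, rfl⟩; exact ⟨w, rfl⟩
    rcases hWcard8 qh.ker (fun t a ha => by
      rw [MonoidHom.mem_ker] at ha ⊢
      show q (φ t a) = 1
      rw [hq.equiv, show q a = 1 from ha, map_one]) with hker | hker
    · right
      have hqz : q z = 1 := by
        by_contra hqz
        have hinj : Function.Injective qh := by
          rw [injective_iff_map_eq_one]
          intro a ha
          exact (hker a ha).resolve_right fun h => hqz (h ▸ ha)
        have h4 := fix_four_of_no_hyperplane h168 hW h16 hd hV g hg hgρ
        have hb := hbound h4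
        have e : fixSub (ψ g) = (fixSub (φ g)).map qh := by
          ext m
          constructor
          · intro hm
            obtain ⟨a, rfl⟩ := hsurj m
            refine ⟨a, hinj ?_, rfl⟩
            show q (φ g a) = q a
            rw [hq.equiv]; exact hm
          · rintro ⟨a, ha, rfl⟩
            show ψ g (q a) = q a
            rw [← hq.equiv, show φ g a = a from ha]
        rw [e, Subgroup.card_map_of_injective hinj, h4,
          ← Nat.card_congr (MulEquiv.ofBijective qh ⟨hinj, hsurj⟩).toEquiv, h16] at hb
        omega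
      refine ⟨hc1, ?_, fun w => ⟨hker w, fun h => ?_⟩⟩
      · have hk2 : Nat.card qh.ker = 2 := by
          have hset : (qh.ker : Set W) = {1, z} := by
            ext a
            simp only [SetLike.mem_coe, Set.mem_insert_iff, Set.mem_singleton_iff]
            exact ⟨hker a, fun h => by rcases h with rfl | rfl; exacts [qh.ker.one_mem, hqz]⟩
          rw [← Set.ncard_pair hd.ne.symm, ← hset, ← Nat.card_coe_set_eq]; rfl
        have h := Subgroup.card_mul_index qh.ker
        rw [Subgroup.index_ker, hk2, h16, MonoidHom.range_eq_top.2 hsurj, Subgroup.card_top] at h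
        omega
      · rcases h with rfl | rfl
        exacts [hq.one, hqz]
    · left
      rw [Nat.card_eq_one_iff_unique]
      refine ⟨⟨fun a b => ?_⟩, ⟨1⟩⟩
      obtain ⟨a, rfl⟩ := hsurj a
      obtain ⟨b, rfl⟩ := hsurj b
      rw [show qh a = 1 from (show a ∈ qh.ker by rw [hker]; trivial),
        show qh b = 1 from (show b ∈ qh.ker by rw [hker]; trivial)]

end

end Cfsg.Agent.Block.RankFourL32
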