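import Mathlib
import Cfsg.Agent.Lib.Spor.RankFourQuotSetup
import Cfsg.Agent.Lib.Block.RankFourA5.Main
import Cfsg.Agent.Lib.Block.RankFourL32.Sixteen

/-!
A central extension of exponent two of an elementary group of order at most sixteen inside a group
acting on it through a simple group of order 168.
-/

set_option autoImplicit false

namespace Cfsg.Agent.Block.RankFourL32

open scoped commutatorElement
open RankFourA5 (fixSub mem_fixSub comm_of_sq)

/-- A layer: the normal subgroup `Q` is generated over a central subgroup of exponent two, which is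
generated by squares, by the module `W`. -/
structure IsLayer {Y G W : Type*} [Group Y] [Group G] [Group W] (φ : G →* MulAut W) (Q : Subgroup Y)
    [Q.Normal] (δ : Y →* G) (f : Q →* W) : Prop where
  δs : Function.Surjective δ
  ker : δ.ker = Q
  fs : Function.Surjective f
  equiv : ∀ (y : Y) (a : Q), f (MulAut.conjNormal y a) = φ (δ y) (f a)
  cen : ∀ z a : Q, f z = 1 → z * a = a * z
  exp : ∀ z : Q, f z = 1 → z * z = 1
  gen : ∀ z : Q, f z = 1 → z ∈ Subgroup.closure (Set.range fun a : Q => a * a)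

namespace IsLayer

variable {Y G W : Type*} [Group Y] [Group G] [Group W] {φ : G →* MulAut W} {Q : Subgroup Y}
  [Q.Normal] {δ : Y →* G} {f : Q →* W} (hl : IsLayer φ Q δ f) (hW : ∀ a : W, a * a = 1)

include hl in
theorem mem_Q_of_delta {y : Y} (h : δ y = 1) : y ∈ Q := by
  rw [← hl.ker]; exact h

include hW in
theorem sq_ker (a : Q) : f (a * a) = 1 := by rw [map_mul, hW]

include hl in
theorem sq_congr {a b : Q} (h : f a = f b) : a * a = b * b := by
  set z := a⁻¹ * b with hz
  have hfz : f z = 1 := by rw [hz, map_mul, map_inv, h, inv_mul_cancel]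
  have hb : b = a * z := by rw [hz, mul_inv_cancel_left]
  rw [hb]
  calc a * a = a * a * (z * z) := by rw [hl.exp z hfz, mul_one]
    _ = a * (a * z) * z := by simp only [mul_assoc]
    _ = a * (z * a) * z := by rw [hl.cen z a hfz]
    _ = _ := by simp only [mul_assoc]

include hl hW in
theorem comm_eq (a b : Q) : ⁅a, b⁆ = a * b * (a * b) * (a * a) * (b * b) :=
  (RankFourA5.square_commutator ⊤ f.ker (fun z hz => hl.exp z hz)
    (fun z hz q _ => hl.cen z q hz) (fun q _ => sq_ker hW q) (Subgroup.mem_top a)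
    (Subgroup.mem_top b)).symm

include hl hW in
theorem comm_congr {a a' b b' : Q} (ha : f a = f a') (hb : f b = f b') : ⁅a, b⁆ = ⁅a', b'⁆ := by
  rw [hl.comm_eq hW, hl.comm_eq hW, hl.sq_congr ha, hl.sq_congr hb,
    hl.sq_congr (show f (a * b) = f (a' * b') by rw [map_mul, map_mul, ha, hb])]

include hl in
theorem card_Q : Nat.card Q = Nat.card f.ker * Nat.card W := by
  rw [← Subgroup.card_mul_index f.ker, Subgroup.index_ker, MonoidHom.range_eq_top.2 hl.fs,
    Subgroup.card_top]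

include hl hW in
theorem exists_quad : ∃ (ψ : G →* MulAut f.ker) (q : W → f.ker), IsQuad φ ψ q ∧
    Subgroup.closure (Set.range q) = ⊤ ∧ (∀ a : Q, ((q (f a) : f.ker) : Q) = a * a) ∧
    ∀ (y : Y) (m : f.ker), ((ψ (δ y) m : f.ker) : Q) = MulAut.conjNormal y (m : Q) := by
  have hinv : ∀ (y : Y) (a : Q), a ∈ f.ker → MulAut.conjNormal y a ∈ f.ker := fun y a ha => by
    rw [MonoidHom.mem_ker] at ha ⊢
    rw [hl.equiv, ha, map_one]
  let η : Y →* MulAut f.ker :=
    { toFun := fun y =>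
        { toFun := fun a => ⟨MulAut.conjNormal y (a : Q), hinv y a a.2⟩
          invFun := fun a => ⟨MulAut.conjNormal y⁻¹ (a : Q), hinv _ a a.2⟩
          left_inv := fun a => Subtype.ext (by simp)
          right_inv := fun a => Subtype.ext (by simp)
          map_mul' := fun a b => Subtype.ext (by simp) }
      map_one' := MulEquiv.ext fun a => Subtype.ext (by simp)
      map_mul' := fun a b => MulEquiv.ext fun c => Subtype.ext (by simp) }
  have hker : δ.ker ≤ η.ker := fun y hy => MulEquiv.ext fun a => Subtype.ext (Subtype.ext (by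
    rw [hl.ker] at hy
    show ((MulAut.conjNormal y (a : Q) : Q) : Y) = _
    have h := congrArg Subtype.val (hl.cen a ⟨y, hy⟩ a.2)
    simp only [Subgroup.coe_mul] at h
    rw [MulAut.conjNormal_apply, ← h, mul_inv_cancel_right]
    rfl))
  let ψ : G →* MulAut f.ker := δ.liftOfSurjective hl.δs ⟨η, hker⟩
  have hψ : ∀ y, ψ (δ y) = η y := fun y =>
    MonoidHom.liftOfRightInverse_comp_apply δ (Function.surjInv hl.δs)
      (Function.rightInverse_surjInv _) ⟨η, hker⟩ y
  let q : W → f.ker := fun w =>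
    ⟨Function.surjInv hl.fs w * Function.surjInv hl.fs w, sq_ker hW _⟩
  have hq : ∀ a : Q, ((q (f a) : f.ker) : Q) = a * a := fun a =>
    hl.sq_congr (Function.surjInv_eq hl.fs (f a))
  refine ⟨ψ, q, ?_, ?_, hq, fun y m => by rw [hψ]; rfl⟩
  · exact
    { expW := hW
      expM := fun a => Subtype.ext (hl.exp a a.2)
      one := Subtype.ext (by
        rw [show (1 : W) = f 1 from (map_one f).symm, hq, mul_one]; rfl)
      equiv := fun t w => by
        obtain ⟨y, rfl⟩ := hl.δs t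
        obtain ⟨a, rfl⟩ := hl.fs w
        refine Subtype.ext ?_
        rw [← hl.equiv, hq, hψ]
        show _ = MulAut.conjNormal y ((q (f a) : f.ker) : Q)
        rw [hq, map_mul]
      bi := fun x y z => by
        obtain ⟨a, rfl⟩ := hl.fs x
        obtain ⟨b, rfl⟩ := hl.fs y
        obtain ⟨c, rfl⟩ := hl.fs z
        have hp : ∀ a b : Q, ((polar q (f a) (f b) : f.ker) : Q) = ⁅a, b⁆ := fun a b => by
          rw [hl.comm_eq hW]
          simp only [polar, Subgroup.coe_mul, ← map_mul f, hq]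
        refine Subtype.ext ?_
        rw [← map_mul f, Subgroup.coe_mul, hp, hp, hp]
        exact RankFourA5.commutator_mul_central ⊤ f.ker (fun z hz q _ => hl.cen z q hz)
          (fun (a : Q) _ (b : Q) _ => show ⁅a, b⁆ ∈ f.ker by
            rw [hl.comm_eq hW]
            exact f.ker.mul_mem (f.ker.mul_mem (sq_ker hW (a * b)) (sq_ker hW a)) (sq_ker hW b)) (Subgroup.mem_top a) (Subgroup.mem_top b) (Subgroup.mem_top c) }
  · rw [eq_top_iff]
    rintro ⟨m, hm⟩ -
    have hle : Subgroup.closure (Set.range fun a : Q => a * a)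
        ≤ (Subgroup.closure (Set.range q)).map f.ker.subtype := by
      rw [Subgroup.closure_le]
      rintro _ ⟨a, rfl⟩
      exact ⟨q (f a), Subgroup.subset_closure ⟨_, rfl⟩, hq a⟩
    obtain ⟨m', hm', he⟩ := hle (hl.gen m hm)
    rwa [show (⟨m, hm⟩ : f.ker) = m' from Subtype.ext he.symm]

variable [Finite Y] (h4 : Cfsg.SectionalPRankLE 2 4 Y)

include hl h4 in
theorem card_ker_le : Nat.card f.ker ≤ 16 := by
  have h := RankFourA5.card_le_mul_of_squares h4 (f.ker.map Q.subtype) ⊥ bot_le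
    (fun u _ k hk => by rw [Subgroup.mem_bot.1 hk]; simp)
    (by rintro _ ⟨a, ha, rfl⟩; exact Subgroup.mem_bot.2 (congrArg Subtype.val (hl.exp a ha)))
  rwa [Subgroup.card_map_of_injective (Subgroup.subtype_injective _), Subgroup.card_bot, mul_one] at h

include hl h4 in
theorem rank_bound (S : Subgroup W) (hS : ∀ a : Q, f a ∈ S → a * a = 1) :
    Nat.card S * Nat.card f.ker ≤ 16 := by
  have h := RankFourA5.card_le_mul_of_squares h4 ((S.comap f).map Q.subtype) ⊥ bot_le
    (fun u _ k hk => by rw [Subgroup.mem_bot.1 hk]; simp)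
    (by rintro _ ⟨a, ha, rfl⟩; exact Subgroup.mem_bot.2 (congrArg Subtype.val (hS a ha)))
  rw [Subgroup.card_map_of_injective (Subgroup.subtype_injective _), Subgroup.card_bot, mul_one] at h
  let θ := f.subgroupComap S
  have hθ : Function.Surjective θ := MonoidHom.subgroupComap_surjective_of_surjective f S hl.fs
  have e := Subgroup.card_mul_index θ.ker
  rw [Subgroup.index_ker, MonoidHom.range_eq_top.2 hθ, Subgroup.card_top] at e
  have hk : Nat.card f.ker ≤ Nat.card θ.ker := by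
    let F : f.ker → θ.ker := fun m =>
      ⟨⟨(m : Q), show f m ∈ S by rw [show f m = 1 from m.2]; exact S.one_mem⟩, Subtype.ext m.2⟩
    refine Nat.card_le_card_of_injective F fun a b hab => Subtype.ext ?_
    exact congrArg (fun x : θ.ker => ((x : ↥(S.comap f)) : Q)) hab
  calc Nat.card S * Nat.card f.ker ≤ Nat.card S * Nat.card θ.ker := Nat.mul_le_mul_left _ hk
    _ = Nat.card (S.comap f) := by rw [mul_comm, e]
    _ ≤ 16 := h

include hl hW h4 in
theorem fix_bound {ψ : G →* MulAut f.ker}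
    (hψ : ∀ (y : Y) (m : f.ker), ((ψ (δ y) m : f.ker) : Q) = MulAut.conjNormal y (m : Q))
    (g : G) (hg : g * g = 1) (hg1 : g ≠ 1) (h4' : Nat.card ↥(fixSub (φ g)) = 4)
    (hform : ∀ a ∈ fixSub (φ g), ∃ w, a = w * φ g w) :
    Nat.card f.ker ≤ 2 * Nat.card ↥(fixSub (ψ g)) := by
  obtain ⟨y, rfl⟩ := hl.δs g
  set Z := f.ker.map Q.subtype with hZ
  have hZn : Z.Normal := ⟨by
    rintro _ ⟨a, ha, rfl⟩ x
    refine ⟨MulAut.conjNormal x a, ?_, MulAut.conjNormal_apply x a⟩
    show f (MulAut.conjNormal x a) = 1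
    rw [hl.equiv, show f a = 1 from ha, map_one]⟩
  set π := QuotientGroup.mk' Z with hπ
  have hπ1 : ∀ x, π x = 1 ↔ x ∈ Z := fun x => QuotientGroup.eq_one_iff x
  have hZQ : Z ≤ Q := by rintro _ ⟨a, -, rfl⟩; exact a.2
  have hmemZ : ∀ a : Q, (a : Y) ∈ Z ↔ f a = 1 := fun a =>
    ⟨fun ⟨b, hb, he⟩ => by rwa [show a = b from Subtype.ext he.symm], fun h => ⟨a, h, rfl⟩⟩
  have hfπ : ∀ a b : Q, f a = f b ↔ π a = π b := fun a b => by
    rw [← inv_mul_eq_one, ← map_inv, ← map_mul, ← hmemZ, ← hπ1, Subgroup.coe_mul, Subgroup.coe_inv,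
      map_mul, map_inv, inv_mul_eq_one]
  have hconj : ∀ (x : Y) (a : Q), π ((MulAut.conjNormal x a : Q) : Y) = π x * π a * (π x)⁻¹ :=
    fun x a => by rw [MulAut.conjNormal_apply, map_mul, map_mul, map_inv]
  have hfix : ∀ a : Q, φ (δ y) (f a) = f a ↔ π (a : Y) ∈ Subgroup.centralizer ({π y} : Set (Y ⧸ Z)) := by
    intro a
    rw [← hl.equiv, hfπ, hconj, Subgroup.mem_centralizer_iff, mul_inv_eq_iff_eq_mul]
    simp only [Set.mem_singleton_iff, forall_eq]
  have hset : Nat.card ↥(Q.map π ⊓ Subgroup.centralizer ({π y} : Set (Y ⧸ Z))) = 4 := by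
    rw [← h4']
    let F : ↥(fixSub (φ (δ y))) → ↥(Q.map π ⊓ Subgroup.centralizer ({π y} : Set (Y ⧸ Z))) := fun c =>
      ⟨π (Function.surjInv hl.fs (c : W) : Q), ⟨_, (Function.surjInv hl.fs (c : W)).2, rfl⟩,
        (hfix _).1 (by rw [Function.surjInv_eq hl.fs]; exact c.2)⟩
    refine (Nat.card_congr (Equiv.ofBijective F ⟨fun c d hcd => Subtype.ext ?_, ?_⟩)).symm
    · have h := (hfπ _ _).2 (congrArg Subtype.val hcd)
      rwa [Function.surjInv_eq hl.fs, Function.surjInv_eq hl.fs] at h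
    · rintro ⟨_, ⟨a, ha, rfl⟩, hc⟩
      refine ⟨⟨f ⟨a, ha⟩, (hfix ⟨a, ha⟩).2 hc⟩, Subtype.ext ?_⟩
      exact (hfπ _ _).1 (Function.surjInv_eq hl.fs _)
  have hyQ : y ∉ Q := fun hy => hg1 (by
    have : y ∈ δ.ker := hl.ker.symm ▸ hy
    exact this)
  have hyy : y * y ∈ Q := hl.mem_Q_of_delta (by rw [map_mul, hg])
  have hbound := RankFourA5.card_le_two_mul π Q Z ?_ ?_ ?_ ?_ y hyQ hyy hset ?_ h4
  · refine le_trans (le_of_eq ?_) (hbound.trans (Nat.mul_le_mul_left 2 ?_))
    · rw [hZ, Subgroup.card_map_of_injective (Subgroup.subtype_injective _)]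
    · let F : ↥(Z ⊓ Subgroup.centralizer ({y} : Set Y)) → ↥(fixSub (ψ (δ y))) := fun c =>
        ⟨⟨⟨c, hZQ c.2.1⟩, (hmemZ ⟨c, hZQ c.2.1⟩).1 c.2.1⟩, Subtype.ext (Subtype.ext (by
          show (((ψ (δ y) ⟨⟨c, hZQ c.2.1⟩, _⟩ : f.ker) : Q) : Y) = (c : Y)
          rw [hψ, MulAut.conjNormal_apply, Subgroup.mem_centralizer_iff.1 c.2.2 y rfl,
            mul_inv_cancel_right]))⟩
      refine Nat.card_le_card_of_injective F fun a b hab => Subtype.ext ?_
      exact congrArg (fun x : ↥(fixSub (ψ (δ y))) => (((x : f.ker) : Q) : Y)) hab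
  · ext x
    exact ⟨fun h => (hπ1 x).1 h.2, fun h => ⟨hZQ h, (hπ1 x).2 h⟩⟩
  · rintro _ ⟨a, ha, rfl⟩ q hq
    exact congrArg Subtype.val (hl.cen a ⟨q, hq⟩ ha)
  · rintro _ ⟨a, ha, rfl⟩
    exact congrArg Subtype.val (hl.exp a ha)
  · intro q hq
    exact (hmemZ ⟨q * q, Q.mul_mem hq hq⟩).2 (sq_ker hW ⟨q, hq⟩)
  · rintro c ⟨⟨a, ha, rfl⟩, hc⟩
    obtain ⟨w, hw⟩ := hform _ ((hfix ⟨a, ha⟩).2 hc)
    obtain ⟨b, rfl⟩ := hl.fs w
    rw [← hl.equiv, ← map_mul] at hw
    refine ⟨b, b.2, ?_⟩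
    have h := (hfπ _ _).1 hw
    rw [Subgroup.coe_mul, MulAut.conjNormal_apply] at h
    exact h

end IsLayer

end Cfsg.Agent.Block.RankFourL32
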