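import Mathlib
import Cfsg.Agent.Lib.Block.RankFourL32.LayerData
import Cfsg.Agent.Lib.Block.RankFourL32.Abelian

/-!
The only nontrivial layer: an invariant hyperplane with values in a group of order two.
-/

set_option autoImplicit false

namespace Cfsg.Agent.Block.RankFourL32

open scoped commutatorElement
open RankFourA5 (fixSub mem_fixSub comm_of_sq)

section

variable {G : Type*} [Group G] [Finite G] [IsSimpleGroup G] (h168 : Nat.card G = 168)
  {W : Type*} [Group W] [Finite W] (hW : ∀ a : W, a * a = 1) {φ : G →* MulAut W}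
  {Y : Type*} [Group Y] [Finite Y] (h4 : Cfsg.SectionalPRankLE 2 4 Y) {Q : Subgroup Y} [Q.Normal]
  {δ : Y →* G} {f : Q →* W}

omit [Finite Y] [Finite W] [IsSimpleGroup G] [Finite G] in
theorem card_v3 : Nat.card V3 = 8 := by rw [Nat.card_eq_fintype_card]; rfl

omit [Finite Y] [Finite W] [IsSimpleGroup G] [Finite G] in
/-- An element inducing the regular unipotent element squares to the transvection. -/
theorem sq_lift {ρ : G →* MulAut V3} (hρ : Function.Bijective ρ) {h : Y} (hh : ρ (δ h) = autJ) :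
    ρ (δ (h * h)) = autA ∧ δ (h * h) * δ (h * h) = 1 ∧ δ (h * h) ≠ 1 ∧ δ (h * h * (h * h)) = 1 := by
  have hg : ρ (δ (h * h)) = autA := by rw [map_mul, map_mul, hh, autJ_sq]
  have hgg : δ (h * h) * δ (h * h) = 1 := hρ.1 (by
    rw [map_mul, hg, map_one]; refine MulEquiv.ext ?_; decide)
  exact ⟨hg, hgg, fun h1 => absurd (by rw [← hg, h1, map_one]; rfl : autA e3 = e3) (by decide),
    by rw [map_mul, hgg]⟩

include h168 h4 hW in
/-- An invariant hyperplane carrying an injective squaring map is impossible. -/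
theorem exclude_hyperplane (hl : IsLayer φ Q δ f) (h16 : Nat.card W = 16) {i : V3 →* W}
    {ρ : G →* MulAut V3} (hd : HyperData φ i ρ)
    (hV : ∀ a b : Q, f a ∈ i.range → f b ∈ i.range → a * b = b * a)
    (hinj : ∀ a : Q, f a ∈ i.range → a * a = 1 → f a = 1) (hM : Nat.card f.ker = 8) : False := by
  have hidx := hd.index h16
  set P0 := i.range.comap f with hP0
  set P := P0.map Q.subtype with hP
  have hinvV : ∀ t, ∀ w ∈ i.range, φ t w ∈ i.range := by
    rintro t _ ⟨x, rfl⟩; exact ⟨ρ t x, (hd.equiv t x).symm⟩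
  have hPn : P.Normal := ⟨by
    rintro _ ⟨a, ha, rfl⟩ y
    refine ⟨MulAut.conjNormal y a, ?_, MulAut.conjNormal_apply y a⟩
    show f (MulAut.conjNormal y a) ∈ i.range
    rw [hl.equiv]; exact hinvV _ _ ha⟩
  have hPQ : P ≤ Q := by rintro _ ⟨a, -, rfl⟩; exact a.2
  have hPmem : ∀ a : Q, (a : Y) ∈ P ↔ f a ∈ i.range := fun a =>
    ⟨fun ⟨b, hb, he⟩ => by rwa [show a = b from Subtype.ext he.symm], fun h => ⟨a, h, rfl⟩⟩
  let e : V3 ≃* i.range := MonoidHom.ofInjective hd.inj
  let toQ : P →* Q := Subgroup.inclusion hPQ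
  have htoQ : ∀ p : P, f (toQ p) ∈ i.range := fun p => (hPmem (toQ p)).1 p.2
  let ε : P →* V3 := e.symm.toMonoidHom.comp ((f.comp toQ).codRestrict i.range htoQ)
  have hiε : ∀ p : P, i (ε p) = f (toQ p) := fun p =>
    congrArg Subtype.val (e.apply_symm_apply ⟨f (toQ p), htoQ p⟩)
  have hεe : ∀ (y : Y) (p : P), ε (MulAut.conjNormal y p) = ρ (δ y) (ε p) := fun y p => hd.inj (by
    rw [← hd.equiv, hiε, hiε, ← hl.equiv]
    exact congrArg f (Subtype.ext (by
      show ((MulAut.conjNormal y p : P) : Y) = ((MulAut.conjNormal y (toQ p) : Q) : Y)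
      rw [MulAut.conjNormal_apply, MulAut.conjNormal_apply]; rfl)))
  have hεs : Function.Surjective ε := fun v => by
    obtain ⟨a, ha⟩ := hl.fs (i v)
    refine ⟨⟨a, (hPmem a).2 (ha ▸ ⟨v, rfl⟩)⟩, hd.inj ?_⟩
    rw [hiε]; exact ha
  have hεk : ∀ p : P, ε p = 1 ↔ p * p = 1 := fun p => by
    constructor
    · intro h
      have h' : f (toQ p) = 1 := by rw [← hiε, h, map_one]
      exact Subtype.ext (congrArg (fun a : Q => (a : Y)) (hl.exp _ h'))
    · intro h
      refine hd.inj ?_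
      rw [hiε, map_one]
      exact hinj _ (htoQ p) (by rw [← map_mul toQ, h, map_one])
  have hPc : ∀ a ∈ P, ∀ b ∈ P, a * b = b * a := by
    rintro _ ⟨a, ha, rfl⟩ _ ⟨b, hb, rfl⟩
    exact congrArg Subtype.val (hV a b ha hb)
  have h64 : Nat.card P = 64 := by
    rw [hP, Subgroup.card_map_of_injective (Subgroup.subtype_injective _), hP0]
    have hc := Subgroup.card_mul_index P0
    rw [hP0, Subgroup.index_comap_of_surjective _ hl.fs, hidx, hl.card_Q, hM, h16] at hc
    omega
  obtain ⟨h, hh⟩ := (hd.bij.2.comp hl.δs) autJ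
  have hh' : ρ (δ h) = autJ := hh
  obtain ⟨hgρ, hgg, hg1, hy1⟩ := sq_lift hd.bij hh'
  set g := δ (h * h) with hg
  obtain ⟨y, hy⟩ : ∃ y : Q, (y : Y) = h * h * (h * h) := ⟨⟨_, hl.mem_Q_of_delta hy1⟩, rfl⟩
  have hR : ∀ s, (ρ.comp δ) s = 1 → s * s ∈ P ∧ ∀ x : Y, ⁅x, s⁆ ∈ P := by
    intro s hs
    have hsQ : s ∈ Q := hl.mem_Q_of_delta (hd.bij.1 (hs.trans (map_one ρ).symm))
    refine ⟨(hPmem (⟨s, hsQ⟩ * ⟨s, hsQ⟩)).2 (by rw [IsLayer.sq_ker hW]; exact i.range.one_mem), fun x => ?_⟩
    have := (hPmem (MulAut.conjNormal x ⟨s, hsQ⟩ * ⟨s, hsQ⟩⁻¹)).2 (by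
      rw [map_mul, map_inv, hl.equiv, inv_eq_of_mul_eq_one_right (hW _),
        Subgroup.mul_mem_iff_of_index_two hidx]
      exact ⟨fun h' => by
        have := hinvV (δ x)⁻¹ _ h'
        rwa [← MulAut.mul_apply, ← map_mul, inv_mul_cancel, map_one] at this, hinvV _ _⟩)
    rwa [Subgroup.coe_mul, Subgroup.coe_inv, MulAut.conjNormal_apply] at this
  have finish : ((y : Y) ∈ P ∨ ∀ p ∈ P, (y : Y) * p * (y : Y)⁻¹ = p⁻¹) → False := fun hcase =>
    exclude_homocyclic h4 (ρ.comp δ) (hd.bij.2.comp hl.δs) P hPc h64 ε hεs hεk hεe hR h hh'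
      (by rwa [← hy])
  have hyfix : φ g (f y) = f y := by
    rw [hg, ← hl.equiv]
    exact congrArg f (Subtype.ext (by
      rw [MulAut.conjNormal_apply, hy]; exact mul_inv_eq_iff_eq_mul.2 (mul_assoc _ _ _).symm))
  by_cases hyP : (y : Y) ∈ P
  · exact finish (Or.inl hyP)
  rcases fix_cases hW φ h16 g hgg with ⟨-, hform⟩ | h8
  · obtain ⟨w, hw⟩ := hform _ hyfix
    refine hyP ((hPmem y).2 ?_)
    rw [hw, Subgroup.mul_mem_iff_of_index_two hidx]
    exact ⟨fun h' => hinvV _ _ h', fun h' => by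
      have := hinvV g _ h'
      rwa [← MulAut.mul_apply, ← map_mul, hgg, map_one] at this⟩
  -- a point outside fixed by all
  obtain ⟨s', hs', hs'V⟩ : ∃ a ∈ fixSub (φ g), a ∉ i.range := by
    by_contra! hall
    let F : fixSub (φ g) → {x : V3 // autA x = x} := fun m =>
      ⟨(hall m m.2).choose, hd.inj (by
        have hc := (hall m m.2).choose_spec
        rw [← hgρ, ← hd.equiv, hc]; exact m.2)⟩
    have hF : Function.Injective F := fun a b h => Subtype.ext (by
      have h' := congrArg Subtype.val h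
      simp only [F] at h'
      rw [← (hall a a.2).choose_spec, ← (hall b b.2).choose_spec, h'])
    have hle := Nat.card_le_card_of_injective F hF
    have h4' : Nat.card {x : V3 // autA x = x} = 4 := by rw [Nat.card_eq_fintype_card]; decide
    omega
  obtain ⟨z, hzV, hzfix⟩ := fixed_outside h168 hW φ i.range h16
    (by rw [← Nat.card_congr e.toEquiv, card_v3]) hinvV g hgg hg1 s' hs'V hs'
  have hz1 : z ≠ 1 := fun h => hzV (h ▸ i.range.one_mem)
  obtain ⟨s, hs⟩ := hl.fs z
  -- squares parametrize the central subgroup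
  obtain ⟨σ, hσ⟩ : ∃ σ : V3 → Q, ∀ v, f (σ v) = i v :=
    ⟨fun v => Function.surjInv hl.fs (i v), fun v => Function.surjInv_eq hl.fs _⟩
  have hσmul : ∀ v v', σ (v * v') * σ (v * v') = σ v * σ v * (σ v' * σ v') := fun v v' => by
    rw [hl.sq_congr (b := σ v * σ v') (by rw [map_mul, hσ, hσ, hσ, map_mul])]
    calc σ v * σ v' * (σ v * σ v') = σ v * (σ v' * σ v) * σ v' := by simp only [mul_assoc]
      _ = σ v * (σ v * σ v') * σ v' := by rw [hV (σ v') (σ v) ⟨v', (hσ v').symm⟩ ⟨v, (hσ v).symm⟩]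
      _ = _ := by simp only [mul_assoc]
  let κ : V3 → f.ker := fun v => ⟨σ v * σ v, IsLayer.sq_ker hW _⟩
  have hκinj : Function.Injective κ := fun v v' h => by
    have h' : σ v * σ v = σ v' * σ v' := congrArg Subtype.val h
    have h0 : σ (v * v') * σ (v * v') = 1 := by
      rw [hσmul, h']; exact hl.exp _ (IsLayer.sq_ker hW _)
    have h1 := hinj _ ⟨_, (hσ _).symm⟩ h0
    rw [hσ, map_eq_one_iff i hd.inj] at h1
    rw [eq_inv_of_mul_eq_one_left h1, inv_eq_of_mul_eq_one_right (sq_one_v3 _)]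
  have hκbij : Function.Bijective κ := (Nat.bijective_iff_injective_and_card κ).2 ⟨hκinj, by
    rw [hM, card_v3]⟩
  have hκeq : ∀ (x : Y) v, MulAut.conjNormal x (σ v * σ v) = σ (ρ (δ x) v) * σ (ρ (δ x) v) := fun x v => by
    rw [map_mul]
    exact hl.sq_congr (by rw [hl.equiv, hσ, hσ, hd.equiv])
  have hc : ∀ v, ∃ v', ⁅σ v, s⁆ = σ v' * σ v' := fun v => by
    obtain ⟨v', hv'⟩ := hκbij.2 ⟨⁅σ v, s⁆, by
      rw [hl.comm_eq hW]
      exact f.ker.mul_mem (f.ker.mul_mem (IsLayer.sq_ker hW _) (IsLayer.sq_ker hW _))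
        (IsLayer.sq_ker hW _)⟩
    exact ⟨v', (congrArg Subtype.val hv').symm⟩
  choose c hc using hc
  have hceq : ∀ t v, c (ρ t v) = ρ t (c v) := fun t v => by
    obtain ⟨x, rfl⟩ := hl.δs t
    refine hκinj (Subtype.ext ?_)
    show σ _ * σ _ = σ _ * σ _
    rw [← hc, ← hκeq, ← hc, map_commutatorElement]
    exact hl.comm_congr hW (by rw [hl.equiv, hσ, hσ, hd.equiv]) (by rw [hl.equiv, hs, hzfix])
  have hc1 : c 1 = 1 := by
    refine hκinj (Subtype.ext ?_)
    show σ _ * σ _ = σ _ * σ _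
    rw [← hc, hl.comm_congr hW (b' := s) (a' := 1) (by rw [hσ, map_one, map_one]) rfl,
      commutatorElement_one_left]
    exact (hl.sq_congr (b := 1) (by rw [hσ, map_one, map_one])).trans (one_mul 1) |>.symm
  have hce1 : c e1 = 1 ∨ c e1 = e1 := by
    obtain ⟨tS, hS⟩ := hd.bij.2 autS
    obtain ⟨tK, hK⟩ := hd.bij.2 autK
    obtain ⟨tB, hB⟩ := hd.bij.2 autB
    have h1 := hceq tS e1
    have h2 := hceq tK e1
    have h3 := hceq tB e1
    rw [hS, show autS e1 = e1 by decide] at h1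
    rw [hK, show autK e1 = e1 by decide] at h2
    rw [hB, show autB e1 = e1 by decide] at h3
    have hdec : ∀ v : V3, v = autS v → v = autK v → v = autB v → v = 1 ∨ v = e1 := by decide
    exact hdec _ h1 h2 h3
  have hwhole : ∀ a : Q, f a ∈ i.range → ∃ v, f a = i v ∧ ⁅a, s⁆ = σ (c v) * σ (c v) := by
    rintro a ⟨v, hv⟩
    exact ⟨v, hv.symm, by rw [← hc]; exact hl.comm_congr hW (by rw [hσ, hv]) rfl⟩
  have hyz : ∃ p : Q, f p ∈ i.range ∧ y = p * s := by
    refine ⟨y * s⁻¹, ?_, by rw [inv_mul_cancel_right]⟩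
    rw [map_mul, map_inv, hs, inv_eq_of_mul_eq_one_right (hW z), Subgroup.mul_mem_iff_of_index_two hidx]
    exact iff_of_false (fun h => hyP ((hPmem y).2 h)) hzV
  obtain ⟨p, hpV, hyp⟩ := hyz
  rcases hce1 with hce | hce
  swap
  · -- the fixed element inverts
    have hid : ∀ v, c v = v := fun v => by
      rcases eq_or_ne v 1 with rfl | hv
      · exact hc1
      · obtain ⟨t, rfl⟩ := transitive h168 ρ hd.bij hv
        rw [hceq, hce]
    refine finish (Or.inr ?_)
    rintro _ ⟨a, ha, rfl⟩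
    obtain ⟨v, hv, hva⟩ := hwhole a ha
    rw [hid, ← hl.sq_congr (a := a) (by rw [hσ, hv])] at hva
    have hinvs : s * a * s⁻¹ = a⁻¹ := by
      have e1' : a * a * s * a⁻¹ * s⁻¹ = a * (a * s * a⁻¹ * s⁻¹) := by simp only [mul_assoc]
      have e2' : s * a⁻¹ * s⁻¹ = a := by
        rw [commutatorElement_def] at hva
        exact mul_left_cancel (a := a) (by
          calc a * (s * a⁻¹ * s⁻¹) = a * s * a⁻¹ * s⁻¹ := by simp only [mul_assoc]
            _ = a * a := hva)
      calc s * a * s⁻¹ = (s * a⁻¹ * s⁻¹)⁻¹ := by group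
        _ = a⁻¹ := by rw [e2']
    have hp : p * a⁻¹ * p⁻¹ = a⁻¹ := by
      rw [hV p a⁻¹ hpV (by rw [map_inv]; exact i.range.inv_mem ha), mul_inv_cancel_right]
    have e3' : y * a * y⁻¹ = a⁻¹ := by
      rw [hyp, show p * s * a * (p * s)⁻¹ = p * (s * a * s⁻¹) * p⁻¹ by group, hinvs, hp]
    exact congrArg Subtype.val e3'
  -- the fixed element centralizes
  have hcone : ∀ v, c v = 1 := fun v => by
    rcases eq_or_ne v 1 with rfl | hv
    · exact hc1
    · obtain ⟨t, rfl⟩ := transitive h168 ρ hd.bij hv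
      rw [hceq, hce, map_one]
  have hσ1 : σ 1 * σ 1 = 1 := by
    rw [hl.sq_congr (b := 1) (by rw [hσ, map_one, map_one]), mul_one]
  have hsa : ∀ a : Q, f a ∈ i.range → a * s = s * a := fun a ha => by
    obtain ⟨v, -, hva⟩ := hwhole a ha
    rw [hcone, hσ1] at hva
    exact commutatorElement_eq_one_iff_mul_comm.1 hva
  have hdec : ∀ a : Q, f a ∈ i.range ∨ ∃ a', f a' ∈ i.range ∧ a = a' * s := fun a => by
    by_cases ha : f a ∈ i.range
    · exact Or.inl ha
    · refine Or.inr ⟨a * s⁻¹, ?_, by rw [inv_mul_cancel_right]⟩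
      rw [map_mul, map_inv, hs, inv_eq_of_mul_eq_one_right (hW z), Subgroup.mul_mem_iff_of_index_two hidx]
      exact iff_of_false ha hzV
  have hcomm : ∀ a b : Q, a * b = b * a := by
    intro a b
    rcases hdec a with ha | ⟨a', ha, rfl⟩ <;> rcases hdec b with hb | ⟨b', hb, rfl⟩
    · exact hV a b ha hb
    · rw [← mul_assoc, hV a b' ha hb, mul_assoc, hsa a ha, ← mul_assoc]
    · rw [mul_assoc, ← hsa b hb, ← mul_assoc, hV a' b ha hb, mul_assoc]
    · calc a' * s * (b' * s) = a' * (s * b') * s := by simp only [mul_assoc]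
        _ = a' * (b' * s) * s := by rw [hsa b' hb]
        _ = (a' * b') * (s * s) := by simp only [mul_assoc]
        _ = (b' * a') * (s * s) := by rw [hV a' b' ha hb]
        _ = b' * (a' * s) * s := by simp only [mul_assoc]
        _ = b' * (s * a') * s := by rw [hsa a' ha]
        _ = _ := by simp only [mul_assoc]
  have hs2 : s * s = 1 := by
    obtain ⟨v, hv⟩ := hκbij.2 ⟨s * s, IsLayer.sq_ker hW _⟩
    have hv' : σ v * σ v = s * s := congrArg Subtype.val hv
    have hvfix : ∀ t, ρ t v = v := fun t => by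
      obtain ⟨x, rfl⟩ := hl.δs t
      refine hκinj (Subtype.ext ?_)
      show σ _ * σ _ = σ v * σ v
      rw [← hκeq, hv', map_mul]
      exact hl.sq_congr (by rw [hl.equiv, hs, hzfix])
    obtain ⟨tT, hT⟩ := hd.bij.2 autT
    obtain ⟨tJ, hJ⟩ := hd.bij.2 autJ
    have h1 := hvfix tJ
    have h2 := hvfix tT
    rw [hJ] at h1; rw [hT] at h2
    have hd' : ∀ v : V3, autJ v = v → autT v = v → v = 1 := by decide
    rw [hd' v h1 h2, hσ1] at hv'
    exact hv'.symm
  -- the projection killing the fixed point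
  have hdecW : ∀ w, ∃ v, w = i v ∨ w = i v * z := fun w => by
    by_cases hw : w ∈ i.range
    · obtain ⟨v, hv⟩ := hw; exact ⟨v, Or.inl hv.symm⟩
    · obtain ⟨v, hv⟩ := (Subgroup.mul_mem_iff_of_index_two hidx).2 (iff_of_false hw hzV)
      exact ⟨v, Or.inr (by rw [hv, mul_assoc, hW, mul_one])⟩
  choose pr hpr using hdecW
  have hpr_eq : ∀ w v, (w = i v ∨ w = i v * z) → pr w = v := by
    intro w v hv
    have hne : ∀ v v', i v ≠ i v' * z := fun v v' h => hzV ⟨v' * v, by
      rw [map_mul, h, ← mul_assoc, hW, one_mul]⟩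
    rcases hpr w with h | h <;> rcases hv with h' | h'
    · exact hd.inj (h.symm.trans h')
    · exact absurd (h.symm.trans h') (hne _ _)
    · exact absurd (h'.symm.trans h) (hne _ _)
    · exact hd.inj (mul_right_cancel (h.symm.trans h'))
  let pW : W →* V3 :=
    { toFun := pr
      map_one' := hpr_eq 1 1 (Or.inl (map_one i).symm)
      map_mul' := fun w w' => hpr_eq _ _ (by
        have hzc : ∀ u, z * u = u * z := fun u => comm_of_sq hW z u
        rcases hpr w with h | h <;> rcases hpr w' with h' | h'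
        · left; conv_lhs => rw [h, h']
          rw [map_mul]
        · right; conv_lhs => rw [h, h']
          rw [map_mul, mul_assoc]
        · right; conv_lhs => rw [h, h']
          rw [map_mul, mul_assoc, hzc, ← mul_assoc]
        · left; conv_lhs => rw [h, h']
          rw [map_mul, mul_assoc, ← mul_assoc z, hzc, mul_assoc, hW, mul_one]) }
  have hpWe : ∀ t w, pW (φ t w) = ρ t (pW w) := fun t w => hpr_eq _ _ (by
    rcases hpr w with h | h
    · left; conv_lhs => rw [h]
      exact hd.equiv _ _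
    · right; conv_lhs => rw [h]
      rw [map_mul, hd.equiv, hzfix]; rfl)
  -- the element of order two fixed by the transvection
  have hσe : ∀ a : Q, f a ∈ i.range → ∃ v, f a = i v ∧ a * a = σ v * σ v := by
    rintro a ⟨v, hv⟩; exact ⟨v, hv.symm, hl.sq_congr (by rw [hσ, hv])⟩
  let εQ : Q →* V3 := pW.comp f
  have hεQk : ∀ a : Q, εQ a = 1 ↔ a * a = 1 := by
    intro a
    have hval : a * a = σ (pW (f a)) * σ (pW (f a)) := by
      rcases hdec a with ha | ⟨a', ha, rfl⟩
      · obtain ⟨v, hv, he⟩ := hσe a ha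
        rw [show pW (f a) = v from hpr_eq _ _ (Or.inl hv), he]
      · obtain ⟨v, hv, he⟩ := hσe a' ha
        rw [show pW (f (a' * s)) = v from hpr_eq _ _ (Or.inr (by rw [map_mul, hv, hs])), ← he]
        calc a' * s * (a' * s) = a' * (s * a') * s := by simp only [mul_assoc]
          _ = a' * (a' * s) * s := by rw [hsa a' ha]
          _ = a' * a' * (s * s) := by simp only [mul_assoc]
          _ = _ := by rw [hs2, mul_one]
    show pW (f a) = 1 ↔ _
    rw [hval]
    refine ⟨fun h => by rw [h, hσ1], fun h => hκinj (Subtype.ext ?_)⟩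
    exact h.trans hσ1.symm
  have hεQe : ∀ (x : Y) (a : Q), εQ (MulAut.conjNormal x a) = ρ (δ x) (εQ a) := fun x a => by
    show pW (f _) = _
    rw [hl.equiv, hpWe]; rfl
  have hQc : ∀ a ∈ Q, ∀ b ∈ Q, a * b = b * a := fun a ha b hb =>
    congrArg Subtype.val (hcomm ⟨a, ha⟩ ⟨b, hb⟩)
  obtain ⟨a3, ha3, ha3V⟩ : ∃ a : Q, εQ a = e3 ∧ f a ∈ i.range :=
    ⟨σ e3, hpr_eq _ _ (Or.inl (hσ e3)), ⟨e3, (hσ e3).symm⟩⟩
  obtain ⟨a2, a1, ω, d2, d1, d0, v2, v1, v0, hω, -, -⟩ :=
    chain (ρ.comp δ) Q hQc εQ hεQk hεQe h hh' (hl.mem_Q_of_delta hy1) a3 ha3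
  have hmove : ∀ a : Q, f a ∈ i.range → f (MulAut.conjNormal h a * a⁻¹) ∈ i.range := fun a ha => by
    rw [map_mul, map_inv, hl.equiv]; exact i.range.mul_mem (hinvV _ _ ha) (i.range.inv_mem ha)
  have ha1V : f a1 ∈ i.range := d1 ▸ hmove _ (d2 ▸ hmove _ ha3V)
  have hfω : f ω = 1 := by
    obtain ⟨v, hv⟩ : f ω ∈ i.range := d0 ▸ hmove _ ha1V
    have : pW (f ω) = v := hpr_eq _ _ (Or.inl hv.symm)
    rw [show pW (f ω) = 1 from v0] at this
    rw [← hv, ← this, map_one]
  obtain ⟨wv, hwv⟩ := hκbij.2 ⟨ω, hfω⟩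
  have hwv' : σ wv * σ wv = ω := congrArg Subtype.val hwv
  have hσe1 : a1 * a1 = σ e1 * σ e1 := by
    obtain ⟨v, hv, he⟩ := hσe a1 ha1V
    have : pW (f a1) = v := hpr_eq _ _ (Or.inl hv)
    rw [show pW (f a1) = e1 from v1] at this
    rw [he, this]
  have hJw : autJ wv = wv * e1 := hκinj (Subtype.ext (by
    show σ _ * σ _ = σ _ * σ _
    rw [hσmul, hwv', ← hσe1, ← hω, ← hwv', hκeq, hh']))
  -- the conjugate of the fixed element
  obtain ⟨u, huJ, hu⟩ : ∃ u, (u * autJ u = 1 ∨ u * autJ u = e1) ∧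
      MulAut.conjNormal h s = s * (σ u * σ u) := by
    obtain ⟨v, hv⟩ := hpV
    have hp' : MulAut.conjNormal h y = y := Subtype.ext (by rw [MulAut.conjNormal_apply, hy]; group)
    have hpv : pW (f p) = v := hpr_eq _ _ (Or.inl hv.symm)
    have hJv : autJ v = v := by
      have hpy : εQ y = v := hpr_eq _ _ (Or.inr (by rw [hyp, map_mul, hv, hs]))
      rw [← hpy, ← hh']
      show (ρ.comp δ) h (εQ y) = εQ y
      rw [show (ρ.comp δ) h (εQ y) = εQ (MulAut.conjNormal h y) from (hεQe h y).symm, hp']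
    have hrel : MulAut.conjNormal h s = (MulAut.conjNormal h p)⁻¹ * p * s := by
      rw [mul_assoc, ← hyp, ← hp', hyp, map_mul, inv_mul_cancel_left]
    have hcases : ∃ u, (u * autJ u = 1 ∨ u * autJ u = e1) ∧
        (MulAut.conjNormal h p)⁻¹ * p = σ u * σ u := by
      have hd1 : ∀ v : V3, autJ v = v → v = 1 ∨ v = e1 := by decide
      rcases hd1 v hJv with hv1 | hv1
      · subst hv1
        obtain ⟨v', hv'⟩ := hκbij.2 ⟨p, by rw [MonoidHom.mem_ker, ← hv, map_one]⟩
        have hv'' : σ v' * σ v' = p := congrArg Subtype.val hv'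
        have hd2 : ∀ v : V3, autJ v * v * autJ (autJ v * v) = 1 ∨
            autJ v * v * autJ (autJ v * v) = e1 := by decide
        refine ⟨autJ v' * v', hd2 v', ?_⟩
        rw [← hv'', hκeq, hh', hσmul, inv_eq_of_mul_eq_one_right (hl.exp _ (IsLayer.sq_ker hW _))]
      · subst hv1
        set m := a1⁻¹ * p with hm
        have hfm : f m = 1 := by
          obtain ⟨v', hv'⟩ := ha1V
          have : pW (f a1) = v' := hpr_eq _ _ (Or.inl hv'.symm)
          rw [show pW (f a1) = e1 from v1] at this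
          rw [hm, map_mul, map_inv, ← hv', ← hv, ← this, inv_mul_cancel]
        obtain ⟨v', hv'⟩ := hκbij.2 ⟨m, hfm⟩
        have hv'' : σ v' * σ v' = m := congrArg Subtype.val hv'
        refine ⟨wv * (autJ v' * v'), by
          have hdd : ∀ w v' : V3, autJ w = w * e1 →
              w * (autJ v' * v') * autJ (w * (autJ v' * v')) = 1 ∨
              w * (autJ v' * v') * autJ (w * (autJ v' * v')) = e1 := by decide
          exact hdd wv v' hJw, ?_⟩
        have hpe : p = a1 * m := by rw [hm, mul_inv_cancel_left]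
        rw [hpe, map_mul, show MulAut.conjNormal h a1 = ω * a1 by rw [d0, inv_mul_cancel_right],
          hσmul, hσmul, ← hh', ← hκeq, hwv', hv'']
        set M' := MulAut.conjNormal h m with hM'
        have hfM : f M' = 1 := by rw [hM', hl.equiv, hfm, map_one]
        rw [mul_inv_rev, mul_inv_rev, inv_eq_of_mul_eq_one_right (hl.exp _ hfM),
          inv_eq_of_mul_eq_one_right (hl.exp _ hfω)]
        calc M' * (a1⁻¹ * ω) * (a1 * m) = M' * (a1⁻¹ * (ω * a1)) * m := by simp only [mul_assoc]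
          _ = M' * ω * m := by rw [hcomm ω a1, inv_mul_cancel_left]
          _ = _ := by rw [hcomm M' ω, mul_assoc]
    obtain ⟨u, huJ, hu⟩ := hcases
    exact ⟨u, huJ, by rw [hrel, hu, hcomm]⟩
  have hgs : MulAut.conjNormal (h * h) s = s * (σ (u * autJ u) * σ (u * autJ u)) := by
    rw [map_mul, MulAut.mul_apply, hu, map_mul, hu, hκeq, hh', hσmul, mul_assoc]
  obtain ⟨r, hfr, hr2, hrg⟩ : ∃ r : Q, f r = z ∧ r * r = 1 ∧ MulAut.conjNormal (h * h) r = r := by
    rcases huJ with h1 | h1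
    · exact ⟨s, hs, hs2, by rw [hgs, h1, hσ1, mul_one]⟩
    · refine ⟨s * (σ e3 * σ e3), by rw [map_mul, hs, IsLayer.sq_ker hW, mul_one], ?_, ?_⟩
      · calc s * (σ e3 * σ e3) * (s * (σ e3 * σ e3))
            = s * ((σ e3 * σ e3) * s) * (σ e3 * σ e3) := by simp only [mul_assoc]
          _ = s * (s * (σ e3 * σ e3)) * (σ e3 * σ e3) := by rw [hcomm (σ e3 * σ e3) s]
          _ = (s * s) * ((σ e3 * σ e3) * (σ e3 * σ e3)) := by simp only [mul_assoc]
          _ = 1 := by rw [hs2, one_mul]; exact hl.exp _ (IsLayer.sq_ker hW _)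
      · rw [map_mul, hgs, h1, hκeq, ← hg, hgρ, mul_assoc, ← hσmul]
        rw [show e1 * autA e3 = e3 by decide]
  refine exclude_abelian h168 h4 δ hl.δs ρ hd.bij Q hl.ker hQc
    (by rw [hl.card_Q, hM, h16]) εQ (fun v => ⟨σ v, hpr_eq _ _ (Or.inl (hσ v))⟩) hεQk hεQe h hh' r
    ((hεQk r).2 hr2) (fun a ha => hzV ?_) hrg
  have : f (a * a) = 1 := IsLayer.sq_ker hW a
  rw [ha, hfr] at this
  exact absurd this hz1

include h168 h4 hW in
/-- The same with a fixed element outside the squares of the hyperplane. -/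
theorem exclude_hyperplane_sixteen (hl : IsLayer φ Q δ f) (h16 : Nat.card W = 16) {i : V3 →* W}
    {ρ : G →* MulAut V3} (hd : HyperData φ i ρ)
    (hV : ∀ a b : Q, f a ∈ i.range → f b ∈ i.range → a * b = b * a)
    (hinj : ∀ a : Q, f a ∈ i.range → a * a = 1 → f a = 1) (hM : Nat.card f.ker = 16) (z0 : Q)
    (hz0 : f z0 = 1) (hz1 : z0 ≠ 1) (hzfix : ∀ y : Y, MulAut.conjNormal y z0 = z0)
    (hzsq : ∀ a : Q, f a ∈ i.range → a * a ≠ z0) : False := by
  set z : Y := (z0 : Y) with hz
  have hzc : ∀ y : Y, y * z * y⁻¹ = z := fun y => by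
    rw [hz, ← MulAut.conjNormal_apply, hzfix]
  set R0 := Subgroup.zpowers z with hR0
  have hRn : R0.Normal := ⟨fun a ha y => by
    obtain ⟨k, rfl⟩ := ha
    have hc : Commute y z := mul_inv_eq_iff_eq_mul.1 (hzc y)
    show y * z ^ k * y⁻¹ ∈ R0
    rw [(hc.zpow_right k).eq, mul_inv_cancel_right]
    exact ⟨k, rfl⟩⟩
  have hz2 : z * z = 1 := congrArg Subtype.val (hl.exp z0 hz0)
  have hRmem : ∀ a, a ∈ R0 ↔ a = 1 ∨ a = z := by
    intro a
    constructor
    · rintro ⟨k, rfl⟩
      show z ^ k = 1 ∨ z ^ k = z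
      rw [show k = 2 * (k / 2) + k % 2 from (Int.mul_ediv_add_emod k 2).symm, zpow_add, zpow_mul,
        zpow_ofNat, sq, hz2, one_zpow, one_mul]
      rcases Int.emod_two_eq_zero_or_one k with h' | h' <;> rw [h']
      · exact Or.inl (zpow_zero _)
      · exact Or.inr (zpow_one _)
    · rintro (rfl | rfl)
      exacts [R0.one_mem, Subgroup.mem_zpowers _]
  have hRQ : R0 ≤ Q := Subgroup.zpowers_le.2 z0.2
  set p := QuotientGroup.mk' R0 with hp
  have hQn : (Q.map p).Normal := Subgroup.Normal.map inferInstance _ (QuotientGroup.mk'_surjective _)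
  let θ : Q →* Q.map p := p.subgroupMap Q
  have hθ : Function.Surjective θ := p.subgroupMap_surjective Q
  have hθk : ∀ a : Q, θ a = 1 ↔ a = 1 ∨ a = z0 := fun a => by
    rw [Subtype.ext_iff (a1 := θ a), show ((θ a : Q.map p) : Y ⧸ R0) = p (a : Y) from rfl, Subgroup.coe_one,
      hp, QuotientGroup.mk'_apply, QuotientGroup.eq_one_iff, hRmem, Subtype.ext_iff, Subtype.ext_iff]
    rfl
  have hfθ : θ.ker ≤ f.ker := fun a ha => by
    rcases (hθk a).1 ha with rfl | rfl
    exacts [f.ker.one_mem, hz0]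
  let f' : Q.map p →* W := θ.liftOfSurjective hθ ⟨f, hfθ⟩
  have hf'θ : ∀ a, f' (θ a) = f a := fun a =>
    MonoidHom.liftOfRightInverse_comp_apply θ (Function.surjInv hθ) (Function.rightInverse_surjInv _)
      ⟨f, hfθ⟩ a
  let δ' : (Y ⧸ R0) →* G := QuotientGroup.lift R0 δ (fun a ha => hl.ker.symm ▸ hRQ ha)
  have hl' : IsLayer φ (Q.map p) δ' f' :=
    { δs := fun t => by obtain ⟨y, hy⟩ := hl.δs t; exact ⟨p y, hy⟩
      ker := by
        ext x
        obtain ⟨y, rfl⟩ := QuotientGroup.mk'_surjective R0 x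
        rw [MonoidHom.mem_ker]
        constructor
        · intro h; exact ⟨y, hl.mem_Q_of_delta h, rfl⟩
        · rintro ⟨a, ha, he⟩
          have h' : δ' (p a) = 1 := by show δ a = 1; rw [← MonoidHom.mem_ker, hl.ker]; exact ha
          rwa [he] at h'
      fs := fun w => by obtain ⟨a, ha⟩ := hl.fs w; exact ⟨θ a, by rw [hf'θ, ha]⟩
      equiv := fun x b => by
        obtain ⟨y, rfl⟩ := QuotientGroup.mk'_surjective R0 x
        obtain ⟨a, rfl⟩ := hθ b
        rw [show MulAut.conjNormal (p y) (θ a) = θ (MulAut.conjNormal y a) from Subtype.ext (by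
          rw [MulAut.conjNormal_apply]
          show p y * p a * (p y)⁻¹ = p ((MulAut.conjNormal y a : Q) : Y)
          rw [MulAut.conjNormal_apply, map_mul, map_mul, map_inv]), hf'θ, hf'θ, hl.equiv]
        rfl
      cen := fun x b hx => by
        obtain ⟨a, rfl⟩ := hθ x
        obtain ⟨b, rfl⟩ := hθ b
        rw [hf'θ] at hx
        rw [← map_mul, ← map_mul, hl.cen a b hx]
      exp := fun x hx => by
        obtain ⟨a, rfl⟩ := hθ x
        rw [hf'θ] at hx
        rw [← map_mul, hl.exp a hx, map_one]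
      gen := fun x hx => by
        obtain ⟨a, rfl⟩ := hθ x
        rw [hf'θ] at hx
        have hle : Subgroup.closure (Set.range fun a : Q => a * a)
            ≤ (Subgroup.closure (Set.range fun a : Q.map p => a * a)).comap θ := by
          rw [Subgroup.closure_le]
          rintro _ ⟨b, rfl⟩
          exact Subgroup.subset_closure ⟨θ b, (map_mul θ b b).symm⟩
        exact hle (hl.gen a hx) }
  refine exclude_hyperplane h168 hW
    (Cfsg.Agent.Spor.RankFourQuot.sectional_of_surjective p (QuotientGroup.mk'_surjective _) h4) hl' h16 hd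
    (fun x y hx hy => ?_) (fun x hx h => ?_) ?_
  · obtain ⟨a, rfl⟩ := hθ x
    obtain ⟨b, rfl⟩ := hθ y
    rw [hf'θ] at hx hy
    rw [← map_mul, ← map_mul, hV a b hx hy]
  · obtain ⟨a, rfl⟩ := hθ x
    rw [hf'θ] at hx ⊢
    rw [← map_mul, hθk] at h
    exact hinj a hx (h.resolve_right (hzsq a hx))
  · let F : f.ker →* f'.ker :=
      (θ.comp f.ker.subtype).codRestrict f'.ker fun m => by
        show f' (θ m) = 1; rw [hf'θ]; exact m.2
    have hF : Function.Surjective F := fun ⟨x, hx⟩ => by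
      obtain ⟨a, rfl⟩ := hθ x
      exact ⟨⟨a, show f a = 1 by rw [← hf'θ]; exact hx⟩, rfl⟩
    have hk2 : Nat.card F.ker = 2 := by
      have hset : (F.ker : Set f.ker) = {1, ⟨z0, hz0⟩} := by
        ext a
        simp only [SetLike.mem_coe, MonoidHom.mem_ker, Set.mem_insert_iff, Set.mem_singleton_iff,
          Subtype.ext_iff (a1 := a)]
        rw [Subtype.ext_iff (a1 := F a)]
        exact hθk a
      rw [← Set.ncard_pair (show (1 : f.ker) ≠ ⟨z0, hz0⟩ from fun h => hz1 (congrArg Subtype.val h.symm)),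
        ← hset, ← Nat.card_coe_set_eq]
      rfl
    have e := Subgroup.card_mul_index F.ker
    rw [Subgroup.index_ker, MonoidHom.range_eq_top.2 hF, Subgroup.card_top, hM, hk2] at e
    omega

include h168 h4 hW in
/-- A fixed involution without invariant hyperplane and a squaring map onto order eight is
impossible. -/
theorem exclude_fixed (hl : IsLayer φ Q δ f) (h16 : Nat.card W = 16) {z : W} {p : W →* V3}
    {ρ : G →* MulAut V3} (hd : FixedData φ z p ρ)
    (hV : ¬ ∃ V : Subgroup W, Nat.card V = 8 ∧ ∀ t, ∀ v ∈ V, φ t v ∈ V)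
    (hcomm : ∀ a b : Q, a * b = b * a) (hk : ∀ a : Q, a * a = 1 ↔ f a = 1 ∨ f a = z)
    (hM : Nat.card f.ker = 8) : False := by
  let εQ : Q →* V3 := p.comp f
  have hεk : ∀ a : Q, εQ a = 1 ↔ a * a = 1 := fun a => by
    rw [hk]; exact hd.ker (f a)
  have hεe : ∀ (x : Y) (a : Q), εQ (MulAut.conjNormal x a) = ρ (δ x) (εQ a) := fun x a => by
    show p (f _) = _
    rw [hl.equiv, hd.equiv]; rfl
  have hQc : ∀ a ∈ Q, ∀ b ∈ Q, a * b = b * a := fun a ha b hb =>
    congrArg Subtype.val (hcomm ⟨a, ha⟩ ⟨b, hb⟩)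
  obtain ⟨h, hh⟩ := (hd.bij.2.comp hl.δs) autJ
  have hh' : ρ (δ h) = autJ := hh
  obtain ⟨hgρ, hgg, -, hy1⟩ := sq_lift hd.bij hh'
  have hεs : Function.Surjective εQ := hd.surj.comp hl.fs
  obtain ⟨a3, ha3⟩ := hεs e3
  obtain ⟨a2, a1, ω, -, -, -, v2, v1, v0, -, hgω, hga2⟩ :=
    chain (ρ.comp δ) Q hQc εQ hεk hεe h hh' (hl.mem_Q_of_delta hy1) a3 ha3
  refine exclude_abelian h168 h4 δ hl.δs ρ hd.bij Q hl.ker hQc (by rw [hl.card_Q, hM, h16]) εQ hεs hεk
    hεe h hh' ω v0 (fun a ha => ?_) hgω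
  have hfω : f ω = 1 := by rw [← ha]; exact IsLayer.sq_ker hW a
  have hfix : φ (δ (h * h)) (f a2) = f a2 := by
    rw [← hl.equiv, hga2, map_mul, map_mul, hfω, IsLayer.sq_ker hW, one_mul, one_mul]
  have h4fix := fix_four_of_no_hyperplane h168 hW h16 hd hV _ hgg hgρ
  rcases fix_cases hW φ h16 _ hgg with ⟨-, hform⟩ | h8
  · obtain ⟨w, hw⟩ := hform _ hfix
    have hdec : ∀ v : V3, e2 ≠ v * autA v := by decide
    refine hdec (p w) ?_
    rw [← v2, ← hgρ, ← hd.equiv, ← map_mul, ← hw]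
    rfl
  · omega

include h168 h4 hW in
/-- A layer is trivial, or there is an invariant hyperplane on which squaring vanishes. -/
theorem layer_cases (hl : IsLayer φ Q δ f) (hφ : φ ≠ 1) (hW16 : Nat.card W ≤ 16) :
    (∀ a : Q, f a = 1 → a = 1) ∨ ∃ (i : V3 →* W) (ρ : G →* MulAut V3),
      Nat.card W = 16 ∧ HyperData φ i ρ ∧ Nat.card f.ker ≤ 2 ∧ (∀ a b : Q, a * b = b * a) ∧
        ∀ a : Q, f a ∈ i.range → a * a = 1 := by
  obtain ⟨ψ, q, hq, hgen, hqf, hψ⟩ := hl.exists_quad hW
  have hM16 := hl.card_ker_le h4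
  have hrank : ∀ S : Subgroup W, (∀ a ∈ S, q a = 1) → Nat.card S * Nat.card f.ker ≤ 16 := fun S hS =>
    hl.rank_bound h4 S fun a ha => by rw [← hqf, hS _ ha]; rfl
  have hpolar : ∀ a b : Q, ((polar q (f a) (f b) : f.ker) : Q) = ⁅a, b⁆ := fun a b => by
    rw [hl.comm_eq hW]
    simp only [polar, Subgroup.coe_mul, ← map_mul f, hqf]
  have hcomm1 : ∀ a b : Q, polar q (f a) (f b) = 1 → a * b = b * a := fun a b h => by
    rw [← commutatorElement_eq_one_iff_mul_comm, ← hpolar, h]; rfl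
  have hqone : ∀ a : Q, q (f a) = 1 ↔ a * a = 1 := fun a => by
    rw [← hqf, ← OneMemClass.coe_one f.ker, ← Subtype.ext_iff]
  have htriv : Nat.card f.ker = 1 → ∀ a : Q, f a = 1 → a = 1 := fun h1 a ha =>
    Subgroup.mem_bot.1 ((Subgroup.eq_bot_of_card_eq _ h1) ▸ (ha : a ∈ f.ker))
  rcases card_eight_or_sixteen h168 hW φ hφ hW16 with h8 | h16
  · left
    obtain ⟨ι, ρ, hρ, hι⟩ := natural h168 hW h8 φ hφ
    have hq' : IsQuad ρ ψ (q ∘ ι) :=
      { expW := sq_one_v3
        expM := hq.expM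
        one := by simp [hq.one]
        equiv := fun t x => by simp [← hι, hq.equiv]
        bi := fun x y z => by
          have h : ∀ a b, polar (q ∘ ι) a b = polar q (ι a) (ι b) := fun a b => by simp [polar]
          rw [h, h, h, map_mul, hq.bi] }
    obtain ⟨hc, hcases⟩ := nat_zero h168 hρ hq' hM16
    rcases hcases with h1 | hinj
    · refine htriv ?_
      have htop : (⊥ : Subgroup f.ker) = ⊤ := by
        rw [eq_top_iff, ← hgen, Subgroup.closure_le]
        rintro _ ⟨w, rfl⟩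
        have := h1 (ι.symm w)
        simp only [Function.comp_apply, MulEquiv.apply_symm_apply] at this
        exact this
      rw [← Subgroup.card_top (G := f.ker), ← htop, Subgroup.card_bot]
    · exfalso
      have hM8 : Nat.card f.ker = 8 := by
        let qh : V3 →* f.ker := ⟨⟨q ∘ ι, hq'.one⟩, hq'.hom_of_polar hc⟩
        have hs : qh.range = ⊤ := by
          rw [eq_top_iff, ← hgen, Subgroup.closure_le]
          rintro _ ⟨w, rfl⟩
          exact ⟨ι.symm w, by simp [qh]⟩
        rw [← Subgroup.card_top, ← hs,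
          ← Nat.card_congr (MonoidHom.ofInjective (f := qh) hinj).toEquiv, card_v3]
      have hcom : ∀ a b : Q, a * b = b * a := fun a b => hcomm1 a b (by
        have h := hc (ι.symm (f a)) (ι.symm (f b))
        simp only [polar, Function.comp_apply, map_mul, MulEquiv.apply_symm_apply] at h ⊢
        exact h)
      obtain ⟨h, hh⟩ := (hρ.2.comp hl.δs) autJ
      have hh' : ρ (δ h) = autJ := hh
      let εQ : Q →* V3 := ι.symm.toMonoidHom.comp f
      refine exclude_homocyclic h4 (ρ.comp δ) (hρ.2.comp hl.δs) Q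
        (fun a ha b hb => congrArg Subtype.val (hcom ⟨a, ha⟩ ⟨b, hb⟩)) ?_ εQ
        (ι.symm.surjective.comp hl.fs) ?_ ?_ (fun s hs => ?_) h hh'
        (Or.inl (hl.mem_Q_of_delta (sq_lift hρ hh').2.2.2))
      · rw [hl.card_Q, hM8, h8]
      · intro a
        rw [← hqone]
        show ι.symm (f a) = 1 ↔ _
        refine ⟨fun h => ?_, fun h => hinj ?_⟩
        · rw [show f a = 1 from by rw [← ι.apply_symm_apply (f a), h, map_one], hq.one]
        · simpa [hq.one] using h
      · intro x a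
        show ι.symm (f _) = ρ (δ x) (ι.symm (f a))
        rw [hl.equiv, MulEquiv.symm_apply_eq, ← hι, MulEquiv.apply_symm_apply]
      · have hsQ : s ∈ Q := hl.mem_Q_of_delta (hρ.1 ((show ρ (δ s) = 1 from hs).trans (map_one ρ).symm))
        exact ⟨Q.mul_mem hsQ hsQ, fun x => Q.mul_mem (Subgroup.Normal.conj_mem inferInstance _ hsQ x)
          (Q.inv_mem hsQ)⟩
  · by_cases hV : ∃ V : Subgroup W, Nat.card V = 8 ∧ ∀ t, ∀ v ∈ V, φ t v ∈ V
    · obtain ⟨V, hV8, hVinv⟩ := hV
      obtain ⟨i, ρ, hd, -⟩ := exists_hyperData h168 h16 hW hφ V hV8 hVinv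
      obtain ⟨g, hgρ⟩ := hd.bij.2 autA
      have hgg : g * g = 1 := hd.bij.1 (by
        rw [map_mul, hgρ, map_one]; refine MulEquiv.ext ?_; decide)
      have hg1 : g ≠ 1 := fun h1 => absurd (by rw [← hgρ, h1, map_one]; rfl : autA e3 = e3) (by decide)
      have hbound : Nat.card ↥(fixSub (φ g)) = 4 → Nat.card f.ker ≤ 2 * Nat.card ↥(fixSub (ψ g)) := by
        intro h4'
        rcases fix_cases hW φ h16 g hgg with ⟨-, hform⟩ | h8
        · exact hl.fix_bound hW h4 hψ g hgg hg1 h4' hform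
        · omega
      rcases hyper_cases h168 h16 hd hq hM16 hgen hrank g hgg hgρ hbound with
        ⟨hM2, hc, hz⟩ | ⟨hc, hinj, hM⟩
      · refine Or.inr ⟨i, ρ, h16, hd, hM2, fun a b => hcomm1 a b (hc _ _), ?_⟩
        rintro a ⟨x, hx⟩
        rw [← hqone, ← hx]; exact hz x
      · exfalso
        have hVc : ∀ a b : Q, f a ∈ i.range → f b ∈ i.range → a * b = b * a := by
          rintro a b ⟨x, hx⟩ ⟨y, hy⟩
          exact hcomm1 a b (by rw [← hx, ← hy]; exact hc x y)
        have hVi : ∀ a : Q, f a ∈ i.range → a * a = 1 → f a = 1 := by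
          rintro a ⟨x, hx⟩ h
          have : x = 1 := hinj (by
            show q (i x) = q (i 1)
            rw [hx, (hqone a).2 h, map_one, hq.one])
          rw [← hx, this, map_one]
        rcases hM with hM | ⟨m₀, hm₀, hm₀fix⟩
        · exact exclude_hyperplane h168 hW h4 hl h16 hd hVc hVi hM
        · by_cases hM8 : Nat.card f.ker = 8
          · exact exclude_hyperplane h168 hW h4 hl h16 hd hVc hVi hM8
          · have hcard : Nat.card f.ker = 16 := by
              let qh : V3 →* f.ker := ⟨⟨fun x => q (i x), by rw [map_one, hq.one]⟩, fun x y => by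
                show q (i (x * y)) = q (i x) * q (i y)
                rw [map_mul, hq.split, hc, mul_one]⟩
              have h8' : Nat.card qh.range = 8 := by
                rw [← Nat.card_congr (MonoidHom.ofInjective (f := qh) hinj).toEquiv, card_v3]
              have e := Subgroup.card_mul_index qh.range
              rw [h8'] at e
              have hpos : 0 < qh.range.index := Nat.pos_of_ne_zero Subgroup.index_ne_zero_of_finite
              omega
            refine exclude_hyperplane_sixteen h168 hW h4 hl h16 hd hVc hVi hcard (m₀ : Q) m₀.2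
              (fun h => hm₀ 1 (by rw [map_one, hq.one]; exact Subtype.ext h.symm)) (fun y => ?_) ?_
            · rw [← hψ, hm₀fix]
            · rintro a ⟨x, hx⟩ h
              refine hm₀ x (Subtype.ext ?_)
              rw [hx, hqf, h]
    · obtain ⟨z, hz1, hzfix⟩ := (fixed_or_hyperplane h168 hW φ h16).resolve_left hV
      obtain ⟨p, ρ, hd⟩ := exists_fixedData h168 hW φ h16 hφ z hz1 hzfix
      obtain ⟨g, hgρ⟩ := hd.bij.2 autA
      have hgg : g * g = 1 := hd.bij.1 (by
        rw [map_mul, hgρ, map_one]; refine MulEquiv.ext ?_; decide)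
      have hg1 : g ≠ 1 := fun h1 => absurd (by rw [← hgρ, h1, map_one]; rfl : autA e3 = e3) (by decide)
      have hbound : Nat.card ↥(fixSub (φ g)) = 4 → Nat.card f.ker ≤ 2 * Nat.card ↥(fixSub (ψ g)) := by
        intro h4'
        rcases fix_cases hW φ h16 g hgg with ⟨-, hform⟩ | h8
        · exact hl.fix_bound hW h4 hψ g hgg hg1 h4' hform
        · omega
      rcases fixed_cases h168 h16 hd hV hq hM16 hgen g hgg hgρ hbound with h1 | ⟨hc, hM, hk⟩
      · exact Or.inl (htriv h1)
      · exact (exclude_fixed h168 hW h4 hl h16 hd hV (fun a b => hcomm1 a b (hc _ _))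
          (fun a => by rw [← hqone]; exact hk _) hM).elim

end

end Cfsg.Agent.Block.RankFourL32
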