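import Mathlib
import Cfsg.Agent.Lib.Block.RankFourL32.Section

/-!
No abelian normal two-subgroup with cyclic part of order eight above the natural module.
-/

set_option autoImplicit false

namespace Cfsg.Agent.Block.RankFourL32

open scoped commutatorElement

/-- A normal abelian subgroup with an element of order eight outside the part over the natural
module forces a section of rank five. -/
theorem exclude_eight {Y : Type*} [Group Y] [Finite Y] (h4 : Cfsg.SectionalPRankLE 2 4 Y)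
    (γ : Y →* MulAut V3) (hγ : Function.Surjective γ) (Q Q1 : Subgroup Y) [Q1.Normal]
    (hker : γ.ker = Q) (hQc : ∀ a ∈ Q, ∀ b ∈ Q, a * b = b * a) (hQ1Q : Q1 ≤ Q) (x : Y)
    (hxQ1 : x ∈ Q1) (hxc : ∀ y, y * x = x * y) (hx4 : x * x * (x * x) = 1) (hx2 : x * x ≠ 1)
    (hsqQ : ∀ a ∈ Q, a * a ∈ Subgroup.zpowers x)
    (hmem : ∀ a ∈ Q, a * a * (a * a) = 1 → a ∈ Q1)
    (hQ1sq : ∀ a ∈ Q1, a * a = 1 ∨ a * a = x * x) (ζ : Q1 →* V3) (hζ : Function.Surjective ζ)
    (hζe : ∀ (y : Y) (a : Q1), ζ (MulAut.conjNormal y a) = γ y (ζ a))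
    (hζk : ∀ a : Q1, ζ a = 1 ↔ (a : Y) ∈ Subgroup.zpowers x) : False := by
  -- powers of the central element
  have hxp : ∀ a ∈ Subgroup.zpowers x, a = 1 ∨ a = x ∨ a = x * x ∨ a = x * x * x := by
    rintro _ ⟨i, rfl⟩
    have h4' : x ^ (4 : ℤ) = 1 := by
      rw [show (4 : ℤ) = 1 + 1 + 1 + 1 by norm_num, zpow_add, zpow_add, zpow_add, zpow_one, mul_assoc]
      exact hx4
    show x ^ i = 1 ∨ x ^ i = x ∨ x ^ i = x * x ∨ x ^ i = x * x * x
    rw [show i = 4 * (i / 4) + i % 4 from (Int.mul_ediv_add_emod i 4).symm, zpow_add, zpow_mul, h4',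
      one_zpow, one_mul]
    have h1 : 0 ≤ i % 4 := Int.emod_nonneg _ (by norm_num)
    have h2 : i % 4 < 4 := Int.emod_lt_of_pos _ (by norm_num)
    interval_cases i % 4
    · exact Or.inl (zpow_zero x)
    · exact Or.inr (Or.inl (zpow_one x))
    · exact Or.inr (Or.inr (Or.inl (zpow_two x)))
    · exact Or.inr (Or.inr (Or.inr (by
        rw [show (3 : ℤ) = 1 + 1 + 1 by norm_num, zpow_add, zpow_add, zpow_one])))
  have hzc : ∀ a ∈ Subgroup.zpowers x, ∀ y : Y, y * a * y⁻¹ = a := by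
    rintro _ ⟨i, rfl⟩ y
    have h : Commute y x := hxc y
    show y * x ^ i * y⁻¹ = x ^ i
    rw [(h.zpow_right i).eq, mul_inv_cancel_right]
  have hsqc : ∀ a ∈ Q, ∀ y : Y, y * (a * a) * y⁻¹ = a * a := fun a ha y => hzc _ (hsqQ a ha) y
  have hp8 : ∀ a ∈ Q, a * a * (a * a) * (a * a * (a * a)) = 1 := by
    intro a ha
    rcases hxp _ (hsqQ a ha) with h | h | h | h <;> rw [h]
    · simp
    · exact hx4
    · rw [hx4, one_mul]
    · have e : x * x * x * (x * x * x) = x * x * (x * x) * (x * x) := by simp only [mul_assoc]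
      rw [e, hx4, one_mul, hx4]
  -- the elements
  obtain ⟨h, hh⟩ := hγ autJ
  obtain ⟨t, ht⟩ := hγ autS
  obtain ⟨t', ht'⟩ := hγ autT
  set g := h * h with hg
  have hγg : γ g = autA := by rw [hg, map_mul, hh, autJ_sq]
  set y := g * g with hy
  have hyQ : y ∈ Q := by
    rw [← hker, MonoidHom.mem_ker, hy, map_mul, hγg]
    refine MulEquiv.ext ?_; decide
  have hgQ : ∀ a ∈ Q, ∀ z : Y, z * a * z⁻¹ ∈ Q := fun a ha z => by
    rw [← hker] at ha ⊢; exact γ.normal_ker.conj_mem a ha z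
  set k := t * g * t⁻¹ with hk
  have hγk : γ k = autK := by rw [hk, map_mul, map_mul, map_inv, ht, hγg, autS_conj]
  set b := k * h * k⁻¹ * h with hb
  have hbQ : b ∈ Q := by
    rw [← hker, MonoidHom.mem_ker, hb, map_mul, map_mul, map_mul, map_inv, hγk, hh, autK_invert,
      inv_mul_cancel]
  have hkhk : k * h * k⁻¹ = b * h⁻¹ := by rw [hb, mul_inv_cancel_right]
  set b' := h⁻¹ * b * h with hb'
  have hb'Q : b' ∈ Q := by have := hgQ b hbQ h⁻¹; rwa [inv_inv] at this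
  have hb'sq : b' * b' = b * b := by
    have := hsqc b hbQ h⁻¹
    rw [inv_inv] at this
    conv_rhs => rw [← this]
    rw [hb']; group
  set u := b * b' with hu
  have huQ : u ∈ Q := Q.mul_mem hbQ hb'Q
  have hkg : k * g * k⁻¹ = u * g⁻¹ := by
    rw [show k * g * k⁻¹ = k * h * k⁻¹ * (k * h * k⁻¹) by rw [hg]; group, hkhk, hu, hb', hg]; group
  have husq : u * u = b * b * (b * b) := by
    calc u * u = b * (b' * b) * b' := by rw [hu]; simp only [mul_assoc]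
      _ = b * (b * b') * b' := by rw [hQc b' hb'Q b hbQ]
      _ = b * b * (b' * b') := by simp only [mul_assoc]
      _ = _ := by rw [hb'sq]
  -- the fourth power is of order at most four
  have hy4 : y * y * (y * y) = 1 := by
    set u' := g⁻¹ * u * g with hu'
    have hu'Q : u' ∈ Q := by have := hgQ u huQ g⁻¹; rwa [inv_inv] at this
    have hu'sq : u' * u' = u * u := by
      have := hsqc u huQ g⁻¹
      rw [inv_inv] at this
      conv_rhs => rw [← this]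
      rw [hu']; group
    have hky : k * y * k⁻¹ = u * u' * y⁻¹ := by
      rw [show k * y * k⁻¹ = k * g * k⁻¹ * (k * g * k⁻¹) by rw [hy]; group, hkg, hu', hy]; group
    set w := u * u' with hw
    have hwQ : w ∈ Q := Q.mul_mem huQ hu'Q
    have hwsq : w * w = 1 := by
      calc w * w = u * (u' * u) * u' := by rw [hw]; simp only [mul_assoc]
        _ = u * (u * u') * u' := by rw [hQc u' hu'Q u huQ]
        _ = u * u * (u' * u') := by simp only [mul_assoc]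
        _ = 1 := by rw [hu'sq, husq]; exact hp8 b hbQ
    have h2 := hsqc y hyQ k
    rw [show k * (y * y) * k⁻¹ = k * y * k⁻¹ * (k * y * k⁻¹) by group, hky] at h2
    have h3 : w * y⁻¹ * (w * y⁻¹) = w * w * (y⁻¹ * y⁻¹) := by
      calc w * y⁻¹ * (w * y⁻¹) = w * (y⁻¹ * w) * y⁻¹ := by simp only [mul_assoc]
        _ = w * (w * y⁻¹) * y⁻¹ := by rw [hQc _ (Q.inv_mem hyQ) w hwQ]
        _ = _ := by simp only [mul_assoc]
    rw [h3, hwsq, one_mul, ← mul_inv_rev] at h2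
    exact inv_eq_iff_mul_eq_one.1 h2
  have hyQ1 : y ∈ Q1 := hmem y hyQ hy4
  have hbQ1 : b ∈ Q1 := by
    refine hmem b hbQ ?_
    set m := t' * g * t'⁻¹ with hm
    set s := k * h * m⁻¹ with hs
    have hsQ : s ∈ Q := by
      have hγm : γ m = autK * autJ := by rw [hm, map_mul, map_mul, map_inv, ht', hγg, autT_conj]
      rw [← hker, MonoidHom.mem_ker, hs, map_mul, map_mul, map_inv, hγk, hh, hγm, mul_inv_cancel]
    have hsm : m * s * m⁻¹ ∈ Q := hgQ s hsQ m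
    have hmm : m * m = t' * y * t'⁻¹ := by rw [hm, hy]; group
    set c := k * h * (k * h) with hc
    have hcs : c = s * (m * s * m⁻¹) * (t' * y * t'⁻¹) := by
      rw [← hmm, hc, hs]; group
    have hty : t' * y * t'⁻¹ ∈ Q := hgQ y hyQ t'
    have hsq3 : ∀ a ∈ Q, ∀ a' ∈ Q, a * a' * (a * a') = a * a * (a' * a') := fun a ha a' ha' => by
      calc a * a' * (a * a') = a * (a' * a) * a' := by simp only [mul_assoc]
        _ = a * (a * a') * a' := by rw [hQc a' ha' a ha]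
        _ = _ := by simp only [mul_assoc]
    have hconj : ∀ a ∈ Q, ∀ z : Y, z * a * z⁻¹ * (z * a * z⁻¹) = a * a := fun a ha z => by
      conv_rhs => rw [← hsqc a ha z]
      group
    have hcQ : c ∈ Q := hcs ▸ Q.mul_mem (Q.mul_mem hsQ hsm) hty
    have hc2 : c * c = s * s * (s * s) * (y * y) := by
      rw [hcs, hsq3 _ (Q.mul_mem hsQ hsm) _ hty, hsq3 _ hsQ _ hsm, hconj s hsQ, hconj y hyQ]
    set z := k * k with hz
    have hzt : z = t * y * t⁻¹ := by rw [hz, hk, hy]; group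
    have hzQ : h⁻¹ * z⁻¹ * h ∈ Q := by
      have := hgQ z⁻¹ (Q.inv_mem (hzt ▸ hgQ y hyQ t)) h⁻¹
      rwa [inv_inv] at this
    have hz2 : h⁻¹ * z⁻¹ * h * (h⁻¹ * z⁻¹ * h) = (y * y)⁻¹ := by
      rw [show h⁻¹ * z⁻¹ * h * (h⁻¹ * z⁻¹ * h) = (h⁻¹ * (z * z) * h)⁻¹ by group, hzt]
      have h5 := hsqc y hyQ (h⁻¹ * t)
      rw [← h5]; group
    have hbc : b = c * (h⁻¹ * z⁻¹ * h) := by rw [hb, hc, hz]; group
    have hyy : y * y * (y * y)⁻¹ = 1 := mul_inv_cancel _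
    have hb2 : b * b = s * s * (s * s) := by
      rw [hbc, hsq3 _ hcQ _ hzQ, hc2, hz2, mul_inv_cancel_right]
    rw [hb2]; exact hp8 s hsQ
  -- the central subgroup
  have hζmul : ∀ (a a' : Y) (ha : a ∈ Q1) (ha' : a' ∈ Q1),
      ζ ⟨a * a', Q1.mul_mem ha ha'⟩ = ζ ⟨a, ha⟩ * ζ ⟨a', ha'⟩ := fun a a' ha ha' =>
    map_mul ζ ⟨a, ha⟩ ⟨a', ha'⟩
  have hζc : ∀ (z a : Y) (ha : a ∈ Q1) (ha' : z * a * z⁻¹ ∈ Q1),
      ζ ⟨z * a * z⁻¹, ha'⟩ = γ z (ζ ⟨a, ha⟩) := fun z a ha ha' => by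
    rw [← hζe]
    exact congrArg ζ (Subtype.ext (MulAut.conjNormal_apply z ⟨a, ha⟩).symm)
  let C : Subgroup Y :=
    { carrier := {a | a * a = 1 ∧ ∃ ha : a ∈ Q1, ζ ⟨a, ha⟩ = 1 ∨ ζ ⟨a, ha⟩ = e1}
      one_mem' := ⟨one_mul 1, Q1.one_mem, Or.inl (map_one ζ)⟩
      mul_mem' := by
        rintro a a' ⟨h2, ha, hv⟩ ⟨h2', ha', hv'⟩
        refine ⟨?_, Q1.mul_mem ha ha', ?_⟩
        · calc a * a' * (a * a') = a * (a' * a) * a' := by simp only [mul_assoc]
            _ = a * (a * a') * a' := by rw [hQc a' (hQ1Q ha') a (hQ1Q ha)]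
            _ = a * a * (a' * a') := by simp only [mul_assoc]
            _ = 1 := by rw [h2, h2', one_mul]
        · rw [hζmul a a' ha ha']
          rcases hv with h | h <;> rcases hv' with h' | h' <;> rw [h, h'] <;> decide
      inv_mem' := by
        rintro a ⟨h2, ha, hv⟩
        have hi : a⁻¹ = a := inv_eq_of_mul_eq_one_right h2
        rw [hi]; exact ⟨h2, ha, hv⟩ }
  have hCQ1 : C ≤ Q1 := fun a ha => ha.2.1
  have hC1 : ∀ a : Y, a ∈ C → ∀ ha : a ∈ Q1, ζ ⟨a, ha⟩ = 1 ∨ ζ ⟨a, ha⟩ = e1 := fun a ha _ => ha.2.2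
  have hkerC : ∀ a ∈ Subgroup.zpowers x, a * a = 1 → a = 1 ∨ a = x * x := by
    intro a ha h2
    rcases hxp a ha with h | h | h | h
    · exact Or.inl h
    · rw [h] at h2; exact absurd h2 hx2
    · exact Or.inr h
    · refine absurd ?_ hx2
      calc x * x = x * x * (x * x * (x * x)) := by rw [hx4, mul_one]
        _ = x * x * x * (x * x * x) := by simp only [mul_assoc]
        _ = 1 := h ▸ h2
  have hsame : ∀ a ∈ C, ∀ a' ∈ C, (∀ (ha : a ∈ Q1) (ha' : a' ∈ Q1), ζ ⟨a, ha⟩ = ζ ⟨a', ha'⟩) →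
      a' = a ∨ a' = a * (x * x) := by
    intro a ha a' ha' hh'
    have hm := C.mul_mem ha ha'
    have h1 : a * a' ∈ Subgroup.zpowers x := (hζk ⟨a * a', hCQ1 hm⟩).1 (by
      rw [hζmul a a' (hCQ1 ha) (hCQ1 ha'), hh' (hCQ1 ha) (hCQ1 ha'), sq_one_v3])
    have hai : a⁻¹ = a := inv_eq_of_mul_eq_one_right ha.1
    rcases hkerC _ h1 hm.1 with h | h
    · exact Or.inl (by rw [← inv_eq_of_mul_eq_one_right h, hai])
    · exact Or.inr (by rw [← h, ← mul_assoc, ha.1, one_mul])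
  have hgfix : ∀ a ∈ C, g * a * g⁻¹ = a := by
    intro a ha
    obtain ⟨h2, haQ, hv⟩ := ha
    set a' := h * a * h⁻¹ with ha'
    have ha'Q : a' ∈ Q1 := Subgroup.Normal.conj_mem inferInstance a haQ h
    have heq : ζ ⟨a', ha'Q⟩ = ζ ⟨a, haQ⟩ := by
      rw [show ζ ⟨a', ha'Q⟩ = γ h (ζ ⟨a, haQ⟩) from hζc h a haQ ha'Q, hh]
      rcases hv with h | h <;> rw [h] <;> decide
    have ha'C : a' ∈ C := ⟨by
      rw [ha', show h * a * h⁻¹ * (h * a * h⁻¹) = h * (a * a) * h⁻¹ by group, h2]; group, ha'Q,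
      heq ▸ hv⟩
    have hgh : g * a * g⁻¹ = h * a' * h⁻¹ := by rw [ha', hg]; group
    rcases hsame a ⟨h2, haQ, hv⟩ a' ha'C (fun _ _ => heq.symm) with h5 | h5
    · rw [hgh, h5, ← ha', h5]
    · rw [hgh, h5, show h * (a * (x * x)) * h⁻¹ = h * a * h⁻¹ * (h * (x * x) * h⁻¹) by group,
        hzc _ (Subgroup.mul_mem _ (Subgroup.mem_zpowers x) (Subgroup.mem_zpowers x)) h, ← ha', h5,
        mul_assoc, hx4, mul_one]
  have htC : ∀ a ∈ C, t * a * t⁻¹ ∈ C ∧ t⁻¹ * a * t ∈ C := by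
    intro a ha
    obtain ⟨h2, haQ, hv⟩ := ha
    have hQ' : t⁻¹ * a * t ∈ Q1 := by
      have := Subgroup.Normal.conj_mem (inferInstance : Q1.Normal) a haQ t⁻¹
      rwa [inv_inv] at this
    have h1 := Subgroup.Normal.conj_mem (inferInstance : Q1.Normal) a haQ t
    refine ⟨⟨?_, h1, ?_⟩, ⟨?_, hQ', ?_⟩⟩
    · rw [show t * a * t⁻¹ * (t * a * t⁻¹) = t * (a * a) * t⁻¹ by group, h2]; group
    · rw [hζc t a haQ h1, ht]
      rcases hv with h | h <;> rw [h] <;> decide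
    · rw [show t⁻¹ * a * t * (t⁻¹ * a * t) = t⁻¹ * (a * a) * t by group, h2]; group
    · have e : t⁻¹ * a * t = t⁻¹ * a * t⁻¹⁻¹ := by group
      have h' := hζc t⁻¹ a haQ (e ▸ hQ')
      rw [show (⟨t⁻¹ * a * t, hQ'⟩ : Q1) = ⟨t⁻¹ * a * t⁻¹⁻¹, e ▸ hQ'⟩ from Subtype.ext e, h', map_inv, ht]
      rcases hv with h | h <;> rw [h] <;> decide
  have hkfix : ∀ a ∈ C, k * a * k⁻¹ = a := fun a ha => by
    have h1 := hgfix _ (htC a ha).2
    calc k * a * k⁻¹ = t * (g * (t⁻¹ * a * t) * g⁻¹) * t⁻¹ := by rw [hk]; group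
      _ = a := by rw [h1]; group
  -- the image of the fourth power
  have hyζ : ζ ⟨y, hyQ1⟩ = 1 ∨ ζ ⟨y, hyQ1⟩ = e1 := by
    have e : h * y * h⁻¹ = y := by rw [hy, hg]; group
    have h' := hζc h y hyQ1 (e.symm ▸ hyQ1)
    rw [show (⟨h * y * h⁻¹, e.symm ▸ hyQ1⟩ : Q1) = ⟨y, hyQ1⟩ from Subtype.ext e, hh] at h'
    have hdec : ∀ v : V3, v = autJ v → v = 1 ∨ v = e1 := by decide
    exact hdec _ h'
  have hbQ1' : h⁻¹ * b * h⁻¹⁻¹ ∈ Q1 := Subgroup.Normal.conj_mem inferInstance b hbQ1 h⁻¹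
  have hb'1 : b' ∈ Q1 := by rwa [inv_inv] at hbQ1'
  have huC : u ∈ C := by
    refine ⟨by rw [husq]; rcases hQ1sq b hbQ1 with h' | h' <;> rw [h'] <;> [exact one_mul 1; exact hx4],
      Q1.mul_mem hbQ1 hb'1, ?_⟩
    rw [hζmul b b' hbQ1 hb'1]
    have hb'ζ : ζ ⟨b', hb'1⟩ = autJ⁻¹ (ζ ⟨b, hbQ1⟩) := by
      rw [← hh, ← map_inv, ← hζc h⁻¹ b hbQ1 hbQ1']
      exact congrArg ζ (Subtype.ext (by show h⁻¹ * b * h = h⁻¹ * b * h⁻¹⁻¹; rw [inv_inv]))
    rw [hb'ζ]
    -- the second conjugation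
    set z := k * k with hz
    have hzt : z = t * y * t⁻¹ := by rw [hz, hk, hy]; group
    have hzQ1 : z ∈ Q1 := hzt ▸ Subgroup.Normal.conj_mem inferInstance y hyQ1 t
    have hzζ : ζ ⟨z, hzQ1⟩ = 1 ∨ ζ ⟨z, hzQ1⟩ = e1 := by
      rw [show (⟨z, hzQ1⟩ : Q1) = ⟨t * y * t⁻¹, hzt ▸ hzQ1⟩ from Subtype.ext hzt, hζc t y hyQ1, ht]
      rcases hyζ with h' | h' <;> rw [h'] <;> decide
    have hrel : k * b * k⁻¹ = z * (h * z⁻¹ * h⁻¹) * (h * b * h⁻¹) := by
      have e : k * b * k⁻¹ * (k * h * k⁻¹)⁻¹ = z * h * z⁻¹ := by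
        calc k * b * k⁻¹ * (k * h * k⁻¹)⁻¹ = k * (b * h⁻¹) * k⁻¹ := by group
          _ = z * h * z⁻¹ := by rw [← hkhk, hz]; group
      calc k * b * k⁻¹ = z * h * z⁻¹ * (k * h * k⁻¹) := by rw [← e]; group
        _ = z * (h * z⁻¹ * h⁻¹) * (h * (k * h * k⁻¹ * h) * h⁻¹) := by group
    have h1 := Subgroup.Normal.conj_mem (inferInstance : Q1.Normal) b hbQ1 k
    have h2 := Subgroup.Normal.conj_mem (inferInstance : Q1.Normal) z⁻¹ (Q1.inv_mem hzQ1) h
    have h3 := Subgroup.Normal.conj_mem (inferInstance : Q1.Normal) b hbQ1 h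
    have e := congrArg ζ (show (⟨k * b * k⁻¹, h1⟩ : Q1) =
      ⟨z * (h * z⁻¹ * h⁻¹) * (h * b * h⁻¹), Q1.mul_mem (Q1.mul_mem hzQ1 h2) h3⟩ from Subtype.ext hrel)
    rw [hζc k b hbQ1, hζmul _ _ (Q1.mul_mem hzQ1 h2) h3, hζmul _ _ hzQ1 h2,
      hζc h z⁻¹ (Q1.inv_mem hzQ1), hζc h b hbQ1, hγk, hh,
      show (⟨z⁻¹, Q1.inv_mem hzQ1⟩ : Q1) = ⟨z, hzQ1⟩⁻¹ from rfl, map_inv] at e
    have hw : ∀ w : V3, (w = 1 ∨ w = e1) → w * autJ w⁻¹ = 1 := by decide
    rw [hw _ hzζ, one_mul] at e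
    have hdec : ∀ v : V3, autK v = autJ v →
        v * autJ⁻¹ v = 1 ∨ v * autJ⁻¹ v = e1 := by decide
    exact hdec _ e
  have hyC : y ∈ C := by
    refine ⟨?_, hyQ1, hyζ⟩
    have hky : k * y * k⁻¹ = y⁻¹ := by
      calc k * y * k⁻¹ = k * g * k⁻¹ * (k * g * k⁻¹) := by rw [hy]; group
        _ = u * (g⁻¹ * u * g) * y⁻¹ := by rw [hkg, hy]; group
        _ = u * u * y⁻¹ := by
          conv_lhs => enter [1, 2, 1, 2]; rw [← hgfix u huC]
          group
        _ = y⁻¹ := by rw [huC.1, one_mul]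
    have hkyy : k * y * k⁻¹ = y := by
      have hxQ : x ∈ Q := hQ1Q hxQ1
      have hk_x : k * x * k⁻¹ = x := hzc x (Subgroup.mem_zpowers x) k
      rcases hQ1sq y hyQ1 with h2 | h2
      · exact hkfix y ⟨h2, hyQ1, hyζ⟩
      · have hyx : y * x ∈ C := by
          refine ⟨?_, Q1.mul_mem hyQ1 hxQ1, ?_⟩
          · rw [show y * x * (y * x) = y * (x * y) * x by simp only [mul_assoc], ← hxc y,
              show y * (y * x) * x = y * y * (x * x) by simp only [mul_assoc], h2, hx4]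
          · rw [hζmul y x hyQ1 hxQ1, (hζk ⟨x, hxQ1⟩).2 (Subgroup.mem_zpowers x), mul_one]
            exact hyζ
        have h5 := hkfix _ hyx
        rw [show k * (y * x) * k⁻¹ = k * y * k⁻¹ * (k * x * k⁻¹) by group, hk_x] at h5
        exact mul_right_cancel h5
    rw [hky] at hkyy
    exact inv_eq_iff_mul_eq_one.1 hkyy
  -- the section
  set S : Set Y := (Q1 : Set Y) ∪ {g, k}
  have hQ1U : Q1 ≤ Subgroup.closure S := fun a ha => Subgroup.subset_closure (Or.inl ha)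
  have hx2C : x * x ∈ C := by
    refine ⟨hx4, Q1.mul_mem hxQ1 hxQ1, Or.inl ?_⟩
    rw [hζmul x x hxQ1 hxQ1, sq_one_v3]
  have hmove : ∀ z : Y, (∀ v, γ z v * v⁻¹ = 1 ∨ γ z v * v⁻¹ = e1) → ∀ a ∈ Q1, ⁅z, a⁆ ∈ C := by
    intro z hz a ha
    have ha' := Subgroup.Normal.conj_mem (inferInstance : Q1.Normal) a ha z
    refine ⟨?_, ?_, ?_⟩
    · rw [commutatorElement_def]
      have hc1 := hQc _ (hQ1Q (Q1.inv_mem ha)) _ (hQ1Q ha')
      calc z * a * z⁻¹ * a⁻¹ * (z * a * z⁻¹ * a⁻¹)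
          = z * a * z⁻¹ * (a⁻¹ * (z * a * z⁻¹)) * a⁻¹ := by simp only [mul_assoc]
        _ = z * (a * a) * z⁻¹ * (a * a)⁻¹ := by rw [hc1]; group
        _ = 1 := by rw [hsqc a (hQ1Q ha) z, mul_inv_cancel]
    · rw [commutatorElement_def]; exact Q1.mul_mem ha' (Q1.inv_mem ha)
    · rw [show (⟨⁅z, a⁆, _⟩ : Q1) = ⟨z * a * z⁻¹, ha'⟩ * ⟨a, ha⟩⁻¹ from rfl, map_mul, map_inv,
        hζc z a ha ha']
      exact hz _
  have hgmove := hmove g (by rw [hγg]; decide)
  have hkmove := hmove k (by rw [hγk]; decide)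
  have hkgC : ⁅k, g⁆ ∈ C := by
    rw [commutatorElement_def, hkg, mul_assoc, ← mul_inv_rev, ← hy]
    exact C.mul_mem huC (C.inv_mem hyC)
  have hswap : ∀ a b : Y, ⁅a, b⁆ ∈ C → ⁅b, a⁆ ∈ C := fun a b h => by
    rw [← commutatorElement_inv]; exact C.inv_mem h
  have hkk : k * k ∈ C := by
    rw [show k * k = t * y * t⁻¹ by rw [hk, hy]; group]
    exact (htC y hyC).1
  have hle : Nat.card (Subgroup.closure S) ≤ 16 * Nat.card C := by
    refine card_le_of_generators h4 C S (hCQ1.trans hQ1U) ?_ ?_ ?_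
    · rintro s (hs | rfl | rfl) c hc
      · exact hQc s (hQ1Q hs) c (hQ1Q (hCQ1 hc))
      · exact mul_inv_eq_iff_eq_mul.1 (hgfix c hc)
      · exact mul_inv_eq_iff_eq_mul.1 (hkfix c hc)
    · rintro s (hs | rfl | rfl)
      · rcases hQ1sq s hs with h' | h' <;> rw [h']
        exacts [C.one_mem, hx2C]
      · exact hyC
      · exact hkk
    · rintro s (hs | rfl | rfl) s' (hs' | rfl | rfl)
      · rw [commutatorElement_eq_one_iff_mul_comm.2 (hQc s (hQ1Q hs) s' (hQ1Q hs'))]; exact C.one_mem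
      · exact hswap _ _ (hgmove s hs)
      · exact hswap _ _ (hkmove s hs)
      · exact hgmove s' hs'
      · simp
      · exact hswap _ _ hkgC
      · exact hkmove s' hs'
      · exact hkgC
      · simp
  have hCcard : Nat.card C ≤ 4 := by
    classical
    by_cases hex : ∃ a ∈ C, ∀ ha : a ∈ Q1, ζ ⟨a, ha⟩ = e1
    · obtain ⟨ε, hεC, hε⟩ := hex
      have hsub : (C : Set Y) ⊆ {1, x * x, ε, ε * (x * x)} := by
        intro a ha
        simp only [Set.mem_insert_iff, Set.mem_singleton_iff]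
        rcases hC1 a ha (hCQ1 ha) with h' | h'
        · rcases hkerC a ((hζk _).1 h') ha.1 with h'' | h''
          · exact Or.inl h''
          · exact Or.inr (Or.inl h'')
        · rcases hsame ε hεC a ha (fun he _ => by rw [hε he, h']) with h'' | h''
          · exact Or.inr (Or.inr (Or.inl h''))
          · exact Or.inr (Or.inr (Or.inr h''))
      have h := Set.ncard_le_ncard hsub (Set.toFinite _)
      rw [← Nat.card_coe_set_eq] at h
      refine le_trans h ?_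
      refine le_trans (Set.ncard_insert_le _ _) (Nat.succ_le_succ ?_)
      refine le_trans (Set.ncard_insert_le _ _) (Nat.succ_le_succ ?_)
      refine le_trans (Set.ncard_insert_le _ _) (Nat.succ_le_succ ?_)
      rw [Set.ncard_singleton]
    · push Not at hex
      have hsub : (C : Set Y) ⊆ {1, x * x} := by
        intro a ha
        simp only [Set.mem_insert_iff, Set.mem_singleton_iff]
        rcases hC1 a ha (hCQ1 ha) with h' | h'
        · exact hkerC a ((hζk _).1 h') ha.1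
        · obtain ⟨_, hne⟩ := hex a ha; exact absurd h' hne
      have h := Set.ncard_le_ncard hsub (Set.toFinite _)
      rw [← Nat.card_coe_set_eq] at h
      exact le_trans h (le_trans (Set.ncard_insert_le _ _) (by rw [Set.ncard_singleton]; norm_num))
  have hQ1card : 32 ≤ Nat.card Q1 := by
    have e := Subgroup.card_mul_index ζ.ker
    rw [Subgroup.index_ker, MonoidHom.range_eq_top.2 hζ, Subgroup.card_top,
      show Nat.card V3 = 8 by rw [Nat.card_eq_fintype_card]; rfl] at e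
    have hle : Subgroup.zpowers x ≤ ζ.ker.map Q1.subtype := fun a ha =>
      ⟨⟨a, (Subgroup.zpowers_le.2 hxQ1) ha⟩, (hζk _).2 ha, rfl⟩
    have h1 := Subgroup.card_le_of_le hle
    rw [Nat.card_zpowers, Subgroup.card_map_of_injective (Subgroup.subtype_injective _)] at h1
    have hord : orderOf x = 4 := by
      have : Fact (Nat.Prime 2) := ⟨Nat.prime_two⟩
      exact orderOf_eq_prime_pow (p := 2) (n := 1) (by rw [pow_one, sq]; exact hx2)
        (by rw [show 2 ^ (1 + 1) = 2 + 2 from rfl, pow_add, sq]; exact hx4)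
    omega
  have hfour := four_mul_card_le γ Q1 (Subgroup.closure S)
    (fun l hl => by rw [← MonoidHom.mem_ker, hker]; exact hQ1Q hl) hQ1U g k hγg hγk
    (Subgroup.subset_closure (Or.inr (Or.inl rfl))) (Subgroup.subset_closure (Or.inr (Or.inr rfl)))
  omega

end Cfsg.Agent.Block.RankFourL32
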