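import Mathlib
import Cfsg.Agent.Lib.Block.RankFourL32.Cases
import Cfsg.Agent.Lib.Block.RankFourL32.Eight

/-!
The two-core of a two-constrained group of sectional rank at most four whose quotient by the core is
simple of order 168.
-/

set_option autoImplicit false

namespace Cfsg.Agent.Block.RankFourL32

open scoped commutatorElement
open Cfsg.Agent.Spor.RankFourQuot
open RankFourA5 (fixSub mem_fixSub comm_of_sq)

section

variable {X : Type*} [Group X] [Finite X] [(Cfsg.pCore 2 X).Normal] [(phiCore X).Normal]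
  [((Cfsg.pCore 2 X).map (QuotientGroup.mk' (phiCore X))).Normal]

local notation "Qc" => Cfsg.pCore 2 X
local notation "Φc" => phiCore X
local notation "π0" => QuotientGroup.mk' (phiCore X)
local notation "Wc" => Subgroup.map (QuotientGroup.mk' (phiCore X)) (Cfsg.pCore 2 X)

/-- The data on the Frattini quotient of the core. -/
structure Base (φ : (X ⧸ Cfsg.pCore 2 X) →* MulAut ↥Wc) : Prop where
  exp : ∀ a : ↥Wc, a * a = 1
  ne : φ ≠ 1
  le : Nat.card ↥Wc ≤ 16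
  spec : ∀ (x : X) (m : ↥Wc), φ (x : X ⧸ Cfsg.pCore 2 X) m = MulAut.conjNormal (π0 x) m

theorem exists_base (hc : Cfsg.IsPConstrained 2 X) (hO : Cfsg.oddCore X = ⊥)
    (h4 : Cfsg.SectionalPRankLE 2 4 X) [Nontrivial (X ⧸ Cfsg.pCore 2 X)] :
    ∃ φ : (X ⧸ Cfsg.pCore 2 X) →* MulAut ↥Wc, Base (X := X) φ := by
  obtain ⟨-, hexp, hcent⟩ := core_quotient hc hO
  have hexp' : ∀ a : ↥Wc, a * a = 1 := fun a => Subtype.ext (hexp a a.2)
  let φ : (X ⧸ Cfsg.pCore 2 X) →* MulAut ↥Wc :=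
    QuotientGroup.lift Qc ((MulAut.conjNormal (H := Wc)).comp π0) fun q hq =>
      MulEquiv.ext fun m => Subtype.ext (by
        have h1 := congrArg Subtype.val (comm_of_sq hexp' ⟨π0 q, ⟨q, hq, rfl⟩⟩ m)
        simp only [Subgroup.coe_mul] at h1
        show ((MulAut.conjNormal (π0 q) m : ↥Wc) : X ⧸ Φc) = (m : X ⧸ Φc)
        rw [MulAut.conjNormal_apply, h1, mul_inv_cancel_right])
  refine ⟨φ, hexp', fun h => ?_, ?_, fun x m => rfl⟩
  · obtain ⟨u, hu⟩ := exists_ne (1 : X ⧸ Cfsg.pCore 2 X)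
    apply hu
    obtain ⟨x, rfl⟩ := QuotientGroup.mk_surjective u
    have hmem : π0 x ∈ Wc := by
      rw [← hcent, Subgroup.mem_centralizer_iff]
      intro m hm
      have := congrArg (fun (k : MulAut ↥Wc) => ((k ⟨m, hm⟩ : ↥Wc) : X ⧸ Φc)) (DFunLike.congr_fun h (x : X ⧸ Cfsg.pCore 2 X))
      simp only [MonoidHom.one_apply, MulAut.one_apply] at this
      change ((MulAut.conjNormal (π0 x) (⟨m, hm⟩ : ↥Wc) : ↥Wc) : X ⧸ Φc) = m at this
      rw [MulAut.conjNormal_apply] at this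
      exact (mul_inv_eq_iff_eq_mul.1 this).symm
    obtain ⟨q, hq, hqe⟩ := hmem
    have := (QuotientGroup.eq (s := Φc)).1 hqe
    rw [QuotientGroup.eq_one_iff]
    simpa using (Qc).mul_mem hq (phiCore_le this)
  · have h := RankFourA5.card_le_mul_of_squares
      (sectional_of_surjective π0 (QuotientGroup.mk'_surjective _) h4) Wc ⊥ bot_le
      (fun u _ k hk => by rw [Subgroup.mem_bot.1 hk]; simp)
      (fun u hu => Subgroup.mem_bot.2 (hexp u hu))
    rwa [Subgroup.card_bot, mul_one] at h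

omit [(Cfsg.pCore 2 X).Normal] [(phiCore X).Normal]
  [((Cfsg.pCore 2 X).map (QuotientGroup.mk' (phiCore X))).Normal] in
theorem sq_mem_phi {q : X} (hq : q ∈ Qc) : q * q ∈ Φc := by
  rw [RankFourA5.phiCore_eq_closure_squares]
  exact Subgroup.subset_closure ⟨q, hq, rfl⟩

variable [IsSimpleGroup (X ⧸ Cfsg.pCore 2 X)] (h168 : Nat.card (X ⧸ Cfsg.pCore 2 X) = 168)
  (h4 : Cfsg.SectionalPRankLE 2 4 X) {φ : (X ⧸ Cfsg.pCore 2 X) →* MulAut ↥((Cfsg.pCore 2 X).map (QuotientGroup.mk' (phiCore X)))}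
  (hb : Base (X := X) φ)

include h168 h4 hb in
/-- The layer between a normal subgroup and the Frattini subgroup of the core. -/
theorem stage (N : Subgroup X) [N.Normal] (hN : N ≤ Φc) (hNc : ∀ f ∈ Φc, ∀ q ∈ Qc, ⁅f, q⁆ ∈ N)
    (hNs : ∀ f ∈ Φc, f * f ∈ N) :
    Φc ≤ N ∨ ∃ (i : V3 →* ↥Wc) (ρ : (X ⧸ Cfsg.pCore 2 X) →* MulAut V3), Nat.card ↥Wc = 16 ∧
      HyperData φ i ρ ∧ (∀ f ∈ Φc, ∀ f' ∈ Φc, f ∉ N → f' ∉ N → f * f'⁻¹ ∈ N) ∧
      (∀ a ∈ Qc, ∀ b ∈ Qc, ⁅a, b⁆ ∈ N) ∧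
      ∀ a (ha : a ∈ Qc), (⟨π0 a, ⟨a, ha, rfl⟩⟩ : ↥Wc) ∈ i.range → a * a ∈ N := by
  set p := QuotientGroup.mk' N with hp
  have hp1 : ∀ x, p x = 1 ↔ x ∈ N := fun x => QuotientGroup.eq_one_iff x
  have hΦQ : Φc ≤ Qc := phiCore_le
  let π : X ⧸ N →* X ⧸ Φc := QuotientGroup.map N Φc (MonoidHom.id X) hN
  let δ : X ⧸ N →* X ⧸ Cfsg.pCore 2 X := QuotientGroup.map N Qc (MonoidHom.id X) (hN.trans hΦQ)
  set Qb := (Qc).map p with hQb
  have hQbn : Qb.Normal := Subgroup.Normal.map inferInstance _ (QuotientGroup.mk'_surjective _)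
  let f : Qb →* ↥Wc := (π.comp Qb.subtype).codRestrict Wc (by
    rintro ⟨_, q, hq, rfl⟩; exact ⟨q, hq, rfl⟩)
  let el : ∀ a : X, a ∈ Qc → Qb := fun a ha => ⟨p a, ⟨a, ha, rfl⟩⟩
  have hfel : ∀ a ha, f (el a ha) = ⟨π0 a, ⟨a, ha, rfl⟩⟩ := fun a ha => rfl
  have hsurj : ∀ b : Qb, ∃ a, ∃ ha : a ∈ Qc, el a ha = b := fun b => by
    obtain ⟨_, a, ha, rfl⟩ := b; exact ⟨a, ha, rfl⟩
  have hfk : ∀ a (ha : a ∈ Qc), f (el a ha) = 1 ↔ a ∈ Φc := fun a ha => by
    rw [hfel a ha, Subtype.ext_iff]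
    exact QuotientGroup.eq_one_iff a
  have hl : IsLayer φ Qb δ f :=
    { δs := fun u => by obtain ⟨x, rfl⟩ := QuotientGroup.mk_surjective u; exact ⟨p x, rfl⟩
      ker := by
        ext y
        obtain ⟨x, rfl⟩ := QuotientGroup.mk'_surjective N y
        rw [MonoidHom.mem_ker]
        constructor
        · intro h; exact ⟨x, (QuotientGroup.eq_one_iff x).1 h, rfl⟩
        · rintro ⟨q, hq, he⟩
          have h' : δ (p q) = 1 := (QuotientGroup.eq_one_iff q).2 hq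
          rwa [he] at h'
      fs := fun w => by obtain ⟨_, q, hq, rfl⟩ := w; exact ⟨el q hq, rfl⟩
      equiv := fun y b => by
        obtain ⟨x, rfl⟩ := QuotientGroup.mk'_surjective N y
        rw [show δ (p x) = (x : X ⧸ Cfsg.pCore 2 X) from rfl, hb.spec]
        refine Subtype.ext ?_
        rw [MulAut.conjNormal_apply]
        show π ((MulAut.conjNormal (p x) b : Qb) : X ⧸ N) = π0 x * π (b : X ⧸ N) * (π0 x)⁻¹
        rw [MulAut.conjNormal_apply, map_mul, map_mul, map_inv]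
        rfl
      cen := fun z b hz => by
        obtain ⟨c, hc, rfl⟩ := hsurj z
        obtain ⟨a, ha, rfl⟩ := hsurj b
        refine Subtype.ext ?_
        show p c * p a = p a * p c
        rw [← commutatorElement_eq_one_iff_mul_comm, ← map_commutatorElement, hp1]
        exact hNc c ((hfk c hc).1 hz) a ha
      exp := fun z hz => by
        obtain ⟨c, hc, rfl⟩ := hsurj z
        refine Subtype.ext ?_
        show p c * p c = 1
        rw [← map_mul, hp1]
        exact hNs c ((hfk c hc).1 hz)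
      gen := fun z hz => by
        obtain ⟨c, hc, rfl⟩ := hsurj z
        have hcΦ := (hfk c hc).1 hz
        rw [RankFourA5.phiCore_eq_closure_squares] at hcΦ
        have hle : Subgroup.closure ((fun x => x * x) '' (Qc : Set X))
            ≤ ((Subgroup.closure (Set.range fun a : Qb => a * a)).map Qb.subtype).comap p := by
          rw [Subgroup.closure_le]
          rintro _ ⟨a, ha, rfl⟩
          exact ⟨el a ha * el a ha, Subgroup.subset_closure ⟨_, rfl⟩, (map_mul p a a).symm⟩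
        obtain ⟨z', hz', he⟩ := hle hcΦ
        rwa [show el c hc = z' from Subtype.ext he.symm] }
  rcases layer_cases h168 hb.exp (sectional_of_surjective p (QuotientGroup.mk'_surjective _) h4) hl hb.ne
    hb.le with h | ⟨i, ρ, h16, hd, hM, hcomm, hsq⟩
  · left
    intro c hc
    have h' := congrArg Subtype.val (h (el c (hΦQ hc)) ((hfk c (hΦQ hc)).2 hc))
    exact (hp1 c).1 h'
  · refine Or.inr ⟨i, ρ, h16, hd, ?_, fun a ha b hb' => ?_, fun a ha h => ?_⟩
    · intro a ha b hb' haN hbN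
      by_contra hab
      have ha1 : el a (hΦQ ha) ≠ 1 := fun h => haN ((hp1 a).1 (congrArg Subtype.val h))
      have hb1 : el b (hΦQ hb') ≠ 1 := fun h => hbN ((hp1 b).1 (congrArg Subtype.val h))
      have hne : el a (hΦQ ha) ≠ el b (hΦQ hb') := fun h => hab ((hp1 _).1 (by
        rw [map_mul, map_inv, mul_inv_eq_one]; exact congrArg Subtype.val h))
      have h3 : ({1, el a (hΦQ ha), el b (hΦQ hb')} : Set Qb) ⊆ (f.ker : Set Qb) := by
        rintro x (rfl | rfl | rfl)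
        exacts [f.ker.one_mem, (hfk a (hΦQ ha)).2 ha, (hfk b (hΦQ hb')).2 hb']
      have h5 := Set.ncard_le_ncard h3 (Set.toFinite _)
      rw [Set.ncard_insert_of_notMem (by simp [ha1.symm, hb1.symm]) (Set.toFinite _),
        Set.ncard_pair hne, ← Nat.card_coe_set_eq (f.ker : Set Qb)] at h5
      change 2 + 1 ≤ Nat.card f.ker at h5
      omega
    · rw [← hp1, map_commutatorElement, commutatorElement_eq_one_iff_mul_comm]
      exact congrArg Subtype.val (hcomm (el a ha) (el b hb'))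
    · rw [← hp1, map_mul]
      exact congrArg Subtype.val (hsq (el a ha) h)

include h168 h4 hb in
/-- The layer below the first one vanishes. -/
theorem layer_eq_bot (N₀ : Subgroup X) [N₀.Normal]
    (hN₀ : N₀ = ⁅Φc, Qc⁆ ⊔ Subgroup.closure ((fun x => x * x) '' (Φc : Set X))) (hN₀Φ : N₀ ≤ Φc)
    (hne : ¬ Φc ≤ N₀) : N₀ = ⊥ := by
  have hΦQ : Φc ≤ Qc := phiCore_le
  refine RankFourA5.eq_bot_of_squares Qc N₀ Grp.pCore_isPGroup (hN₀Φ.trans hΦQ) ?_
  obtain ⟨i, ρ, h16, hd, hpair, hQN, hVsq⟩ := (stage h168 h4 hb N₀ hN₀Φ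
    (fun f hf q hq => hN₀ ▸ Subgroup.mem_sup_left (Subgroup.commutator_mem_commutator hf hq))
    (fun f hf => hN₀ ▸ Subgroup.mem_sup_right (Subgroup.subset_closure ⟨f, hf, rfl⟩))).resolve_left hne
  have := RankFourA5.closure_squares_normal N₀
  set N₂ := ⁅N₀, Qc⁆ ⊔ Subgroup.closure ((fun x => x * x) '' (N₀ : Set X)) with hN₂
  have hN₂n : N₂.Normal := Subgroup.sup_normal _ _
  set p := QuotientGroup.mk' N₂ with hp
  have hp1 : ∀ x, p x = 1 ↔ x ∈ N₂ := fun x => QuotientGroup.eq_one_iff x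
  have hN₂₀ : N₂ ≤ N₀ := sup_le (Subgroup.commutator_le_left _ _) ((Subgroup.closure_le _).2 (by
    rintro _ ⟨m, hm, rfl⟩; exact N₀.mul_mem hm hm))
  have hMc : ∀ m ∈ N₀, ∀ q ∈ Qc, p m * p q = p q * p m := fun m hm q hq => by
    rw [← commutatorElement_eq_one_iff_mul_comm, ← map_commutatorElement, hp1]
    exact Subgroup.mem_sup_left (Subgroup.commutator_mem_commutator hm hq)
  have hMs : ∀ m ∈ N₀, p m * p m = 1 := fun m hm => by
    rw [← map_mul, hp1]
    exact Subgroup.mem_sup_right (Subgroup.subset_closure ⟨m, hm, rfl⟩)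
  have hidx := hd.index h16
  let cls : ∀ a : X, a ∈ Qc → ↥Wc := fun a ha => ⟨π0 a, ⟨a, ha, rfl⟩⟩
  have hclsmul : ∀ a b (ha : a ∈ Qc) (hb' : b ∈ Qc), cls (a * b) ((Qc).mul_mem ha hb') = cls a ha * cls b hb' :=
    fun a b ha hb' => Subtype.ext (map_mul _ _ _)
  -- an element whose square is not in the first layer
  obtain ⟨a₀, ha₀, ha₀2⟩ : ∃ a ∈ Qc, a * a ∉ N₀ := by
    by_contra! h
    apply hne
    rw [RankFourA5.phiCore_eq_closure_squares, Subgroup.closure_le]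
    rintro _ ⟨y, hy, rfl⟩; exact h y hy
  have ha₀V : cls a₀ ha₀ ∉ i.range := fun h => ha₀2 (hVsq a₀ ha₀ h)
  set f₀ := a₀ * a₀ with hf₀
  have hf₀Φ : f₀ ∈ Φc := sq_mem_phi ha₀
  set x := p f₀ with hx
  have hcos : ∀ f ∈ Φc, ∃ m ∈ N₀, p f = p m ∨ p f = p m * x := fun f hf => by
    by_cases h : f ∈ N₀
    · exact ⟨f, h, Or.inl rfl⟩
    · exact ⟨_, hpair f hf f₀ hf₀Φ h ha₀2, Or.inr (by rw [hx, ← map_mul]; simp)⟩
  -- elements outside the hyperplane
  have hout : ∀ a (ha : a ∈ Qc), cls a ha ∉ i.range → a * a ∉ N₀ := by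
    intro a ha haV h
    set v := a₀⁻¹ * a with hv
    have hvQ : v ∈ Qc := (Qc).mul_mem ((Qc).inv_mem ha₀) ha
    have hvV : cls v hvQ ∈ i.range := by
      have e : cls v hvQ = (cls a₀ ha₀)⁻¹ * cls a ha :=
        Subtype.ext (by show π0 (a₀⁻¹ * a) = _; rw [map_mul, map_inv]; rfl)
      rw [e, Subgroup.mul_mem_iff_of_index_two hidx, inv_mem_iff]
      exact iff_of_false ha₀V haV
    have hvv := hVsq v hvQ hvV
    apply ha₀2
    set p' := QuotientGroup.mk' N₀
    have hp'1 : ∀ y, p' y = 1 ↔ y ∈ N₀ := fun y => QuotientGroup.eq_one_iff y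
    have hcm : p' a₀ * p' v = p' v * p' a₀ := by
      rw [← commutatorElement_eq_one_iff_mul_comm, ← map_commutatorElement, hp'1]
      exact hQN a₀ ha₀ v hvQ
    have e : p' (a * a) = p' a₀ * p' a₀ * (p' v * p' v) := by
      rw [show a = a₀ * v by rw [hv, mul_inv_cancel_left], map_mul, map_mul,
        mul_assoc (p' a₀), ← mul_assoc (p' v), ← hcm]
      simp only [mul_assoc]
    rw [(hp'1 _).2 h, ← map_mul p' v v, (hp'1 _).2 hvv, mul_one, ← map_mul] at e
    exact (hp'1 _).1 e.symm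
  -- the square is central in the core
  have hxc : ∀ q ∈ Qc, x * p q = p q * x := by
    have hstep : ∀ a (ha : a ∈ Qc), cls a ha ∉ i.range → x * p a = p a * x := by
      intro a ha haV
      have hm := hpair _ (sq_mem_phi ha) f₀ hf₀Φ (hout a ha haV) ha₀2
      have hxe : x = (p (a * a * f₀⁻¹))⁻¹ * (p a * p a) := by
        rw [hx, map_mul p (a * a), map_mul p a a, map_inv]; group
      have hc1 : Commute (p a) ((p (a * a * f₀⁻¹))⁻¹ * (p a * p a)) :=
        (Commute.inv_right (hMc _ hm a ha).symm).mul_right ((Commute.refl _).mul_right (Commute.refl _))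
      rw [hxe]
      exact hc1.eq.symm
    intro q hq
    by_cases hqV : cls q hq ∈ i.range
    · have hQ' : a₀⁻¹ * q ∈ Qc := (Qc).mul_mem ((Qc).inv_mem ha₀) hq
      have hV' : cls (a₀⁻¹ * q) hQ' ∉ i.range := fun h => ha₀V (by
        have e : cls (a₀⁻¹ * q) hQ' = (cls a₀ ha₀)⁻¹ * cls q hq :=
          Subtype.ext (by show π0 (a₀⁻¹ * q) = _; rw [map_mul, map_inv]; rfl)
        rw [e] at h
        exact inv_mem_iff.1 ((Subgroup.mul_mem_cancel_right _ hqV).1 h))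
      have h1 : Commute x (p a₀) := hstep a₀ ha₀ ha₀V
      have h2 : Commute x (p (a₀⁻¹ * q)) := hstep _ hQ' hV'
      have := h1.mul_right h2
      rwa [← map_mul, mul_inv_cancel_left] at this
    · exact hstep q hq hqV
  have hΦc : ∀ f ∈ Φc, ∀ q ∈ Qc, p f * p q = p q * p f := by
    intro f hf q hq
    obtain ⟨m, hm, h | h⟩ := hcos f hf <;> rw [h]
    · exact hMc m hm q hq
    · exact (Commute.mul_left (hMc m hm q hq) (hxc q hq)).eq
  have hx2N : f₀ * f₀ ∈ N₀ := hN₀ ▸ Subgroup.mem_sup_right (Subgroup.subset_closure ⟨f₀, hf₀Φ, rfl⟩)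
  have hx4 : x * x * (x * x) = 1 := by rw [hx, ← map_mul p f₀]; exact hMs _ hx2N
  have hxx : ∀ f ∈ Φc, p f * p f = 1 ∨ p f * p f = x * x := by
    intro f hf
    obtain ⟨m, hm, h | h⟩ := hcos f hf <;> rw [h]
    · exact Or.inl (hMs m hm)
    · right
      rw [mul_assoc (p m), ← mul_assoc x, ← hMc m hm f₀ (hΦQ hf₀Φ), ← hx, mul_assoc (p m) x,
        ← mul_assoc (p m) (p m), hMs m hm, one_mul]
  have hN0img : ∀ m ∈ N₀, p m = 1 ∨ p m = x * x := by
    intro m hm
    have hle : N₀ ≤ (Subgroup.zpowers (x * x)).comap p := by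
      rw [hN₀]
      refine sup_le (Subgroup.commutator_le.2 fun f hf q hq => ?_) ((Subgroup.closure_le _).2 ?_)
      · show p ⁅f, q⁆ ∈ Subgroup.zpowers (x * x)
        rw [map_commutatorElement, commutatorElement_eq_one_iff_mul_comm.2 (hΦc f hf q hq)]
        exact Subgroup.one_mem _
      · rintro _ ⟨f, hf, rfl⟩
        show p (f * f) ∈ Subgroup.zpowers (x * x)
        rw [map_mul]
        rcases hxx f hf with h | h <;> rw [h]
        exacts [Subgroup.one_mem _, Subgroup.mem_zpowers _]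
    obtain ⟨k, hk⟩ := hle hm
    rw [← hk]
    show (x * x) ^ k = 1 ∨ (x * x) ^ k = x * x
    rw [show k = 2 * (k / 2) + k % 2 from (Int.mul_ediv_add_emod k 2).symm, zpow_add, zpow_mul,
      zpow_ofNat, sq, hx4, one_zpow, one_mul]
    rcases Int.emod_two_eq_zero_or_one k with h' | h' <;> rw [h']
    · exact Or.inl (zpow_zero _)
    · exact Or.inr (zpow_one _)
  by_cases hx2 : x * x = 1
  · intro m hm
    refine (hp1 m).1 ?_
    rcases hN0img m hm with h | h
    · exact h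
    · rw [h, hx2]
  exfalso
  -- the square is central
  have hzx : ∀ f ∈ Φc, p f ∈ Subgroup.zpowers x := fun f hf => by
    have h2 : ∀ m ∈ N₀, p m ∈ Subgroup.zpowers x := fun m hm => by
      rcases hN0img m hm with h | h <;> rw [h]
      exacts [Subgroup.one_mem _, Subgroup.mul_mem _ (Subgroup.mem_zpowers x) (Subgroup.mem_zpowers x)]
    obtain ⟨m, hm, h | h⟩ := hcos f hf <;> rw [h]
    · exact h2 m hm
    · exact Subgroup.mul_mem _ (h2 m hm) (Subgroup.mem_zpowers x)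
  have hΦn : (Φc).Normal := inferInstance
  have hN₀n : N₀.Normal := inferInstance
  have hxpm : ∀ g : X, p g * x * (p g)⁻¹ = x ∨ p g * x * (p g)⁻¹ = x⁻¹ := by
    intro g
    have hgΦ := hΦn.conj_mem f₀ hf₀Φ g
    have hgN : g * f₀ * g⁻¹ ∉ N₀ := fun h => ha₀2 (by
      have := hN₀n.conj_mem _ h g⁻¹
      rwa [show g⁻¹ * (g * f₀ * g⁻¹) * g⁻¹⁻¹ = f₀ by group] at this)
    have hm := hpair _ hgΦ f₀ hf₀Φ hgN ha₀2
    have he : p g * x * (p g)⁻¹ = p (g * f₀ * g⁻¹ * f₀⁻¹) * x := by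
      rw [hx]; simp only [map_mul, map_inv, inv_mul_cancel_right]
    rcases hN0img _ hm with h | h <;> rw [h] at he
    · exact Or.inl (he.trans (one_mul x))
    · refine Or.inr (he.trans ?_)
      rw [eq_inv_iff_mul_eq_one, mul_assoc]; exact hx4
  have hxall : ∀ g : X, p g * x = x * p g := by
    let H : Subgroup X := (Subgroup.centralizer ({x} : Set (X ⧸ N₂))).comap p
    have hH : ∀ g, g ∈ H ↔ p g * x * (p g)⁻¹ = x := fun g => by
      show p g ∈ Subgroup.centralizer _ ↔ _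
      rw [Subgroup.mem_centralizer_iff, mul_inv_eq_iff_eq_mul]
      simp only [Set.mem_singleton_iff, forall_eq]
      exact eq_comm
    have hHn : H.Normal := ⟨fun a ha g => by
      rw [hH] at ha ⊢
      have hainv : p a * x⁻¹ * (p a)⁻¹ = x⁻¹ := by
        conv_rhs => rw [← ha]
        group
      have e : p (g * a * g⁻¹) * x * (p (g * a * g⁻¹))⁻¹
          = p g * (p a * ((p g)⁻¹ * x * p g) * (p a)⁻¹) * (p g)⁻¹ := by
        simp only [map_mul, map_inv]; group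
      rw [e]
      have hg' := hxpm g⁻¹
      rw [map_inv, inv_inv] at hg'
      rcases hg' with h | h
      · rw [h, ha]
        conv_lhs => enter [1, 2]; rw [← h]
        group
      · rw [h, hainv]
        conv_lhs => enter [1, 2]; rw [← h]
        group⟩
    have hHQ : Qc ≤ H := fun q hq => (hH q).2 (by rw [← hxc q hq, mul_inv_cancel_right])
    rcases (Subgroup.Normal.map hHn (QuotientGroup.mk' Qc) (QuotientGroup.mk'_surjective _)).eq_bot_or_eq_top
      with hbot | htop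
    · exfalso
      obtain ⟨u, hu⟩ := not_exponent_two h168
      apply hu
      obtain ⟨g, rfl⟩ := QuotientGroup.mk_surjective u
      rw [← QuotientGroup.mk_mul, ← Subgroup.mem_bot, ← hbot]
      refine ⟨g * g, (hH _).2 ?_, rfl⟩
      rw [map_mul, show p g * p g * x * (p g * p g)⁻¹ = p g * (p g * x * (p g)⁻¹) * (p g)⁻¹ by group]
      rcases hxpm g with h | h
      · rw [h, h]
      · rw [h, show p g * x⁻¹ * (p g)⁻¹ = (p g * x * (p g)⁻¹)⁻¹ by group, h, inv_inv]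
    · intro g
      obtain ⟨g', hg', he⟩ := (htop.symm ▸ Subgroup.mem_top _ :
        ((g : X ⧸ Cfsg.pCore 2 X)) ∈ H.map (QuotientGroup.mk' Qc))
      have hq := (QuotientGroup.eq (s := Qc)).1 he
      have : g ∈ H := by
        rw [show g = g' * (g'⁻¹ * g) by group]
        exact H.mul_mem hg' (hHQ hq)
      exact mul_inv_eq_iff_eq_mul.1 ((hH g).1 this)
  -- the core is abelian modulo the second layer
  let com : X → X → X ⧸ N₂ := fun a b => ⁅p a, p b⁆
  have hcomval : ∀ a ∈ Qc, ∀ b ∈ Qc, com a b = 1 ∨ com a b = x * x := fun a ha b hb' => by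
    show ⁅p a, p b⁆ = 1 ∨ ⁅p a, p b⁆ = x * x
    rw [← map_commutatorElement]; exact hN0img _ (hQN a ha b hb')
  have hcomc : ∀ a ∈ Qc, ∀ b ∈ Qc, ∀ y : X ⧸ N₂, y * com a b = com a b * y := fun a ha b hb' y => by
    obtain ⟨g, rfl⟩ := QuotientGroup.mk'_surjective N₂ y
    rcases hcomval a ha b hb' with h | h <;> rw [h]
    · simp
    · exact (((show Commute (p g) x from hxall g).mul_right (hxall g))).eq
  have hcom2 : ∀ a ∈ Qc, ∀ b ∈ Qc, com a b * com a b = 1 := fun a ha b hb' => by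
    rcases hcomval a ha b hb' with h | h <;> rw [h]
    · exact one_mul 1
    · exact hx4
  have hcomr : ∀ a ∈ Qc, ∀ b ∈ Qc, ∀ c ∈ Qc, com a (b * c) = com a b * com a c := fun a ha b hb' c hc' => by
    show ⁅p a, p (b * c)⁆ = ⁅p a, p b⁆ * ⁅p a, p c⁆
    rw [map_mul, show ⁅p a, p b * p c⁆ = ⁅p a, p b⁆ * (p b * ⁅p a, p c⁆ * (p b)⁻¹) by
      simp only [commutatorElement_def]; group, hcomc a ha c hc' (p b), mul_inv_cancel_right]
  have hcoms : ∀ a ∈ Qc, ∀ b ∈ Qc, com b a = com a b := fun a ha b hb' => by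
    show ⁅p b, p a⁆ = com a b
    rw [← commutatorElement_inv]
    exact inv_eq_of_mul_eq_one_right (hcom2 a ha b hb')
  have hcomcongr : ∀ a (ha : a ∈ Qc) b (hb' : b ∈ Qc) b' (hb'' : b' ∈ Qc), cls b hb' = cls b' hb'' →
      com a b = com a b' := by
    intro a ha b hb' b' hb'' h
    have hf := (QuotientGroup.eq (s := Φc)).1 (congrArg Subtype.val h)
    rw [show b' = b * (b⁻¹ * b') by group, hcomr a ha b hb' _ (hΦQ hf),
      show com a (b⁻¹ * b') = 1 from commutatorElement_eq_one_iff_mul_comm.2 (hΦc _ hf a ha).symm, mul_one]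
  obtain ⟨σ, hσ⟩ : ∃ σ : V3 → Qc, ∀ v, cls (σ v) (σ v).2 = i v := by
    have hs : ∀ v, ∃ a : Qc, cls a a.2 = i v := fun v => by
      obtain ⟨a, ha, he⟩ := (i v).2
      exact ⟨⟨a, ha⟩, Subtype.ext he⟩
    choose σ hσ using hs
    exact ⟨σ, hσ⟩
  have hconj : ∀ (g : X) a (ha : a ∈ Qc),
      cls (g * a * g⁻¹) (Subgroup.Normal.conj_mem inferInstance a ha g) = φ (g : X ⧸ Cfsg.pCore 2 X) (cls a ha) :=
    fun g a ha => Subtype.ext (by
      rw [hb.spec, MulAut.conjNormal_apply]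
      show π0 (g * a * g⁻¹) = _
      rw [map_mul, map_mul, map_inv])
  have hcomconj : ∀ (g : X) a (_ : a ∈ Qc) b (_ : b ∈ Qc), com (g * a * g⁻¹) (g * b * g⁻¹) = com a b := by
    intro g a ha b hb'
    show ⁅p _, p _⁆ = com a b
    rw [map_mul, map_mul, map_inv, map_mul, map_mul, map_inv,
      show ⁅p g * p a * (p g)⁻¹, p g * p b * (p g)⁻¹⁆ = p g * com a b * (p g)⁻¹ by
        simp only [com, commutatorElement_def]; group, hcomc a ha b hb', mul_inv_cancel_right]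
  have hσadd : ∀ a (_ : a ∈ Qc) v w, com a (σ (v * w)) = com a (σ v) * com a (σ w) := fun a ha v w => by
    rw [← hcomr a ha _ (σ v).2 _ (σ w).2]
    exact hcomcongr a ha _ (σ (v * w)).2 _ ((Qc).mul_mem (σ v).2 (σ w).2) (by rw [hclsmul _ _ (σ v).2 (σ w).2, hσ, hσ, hσ, map_mul])
  have hcσ : ∀ v w, com (σ v) (σ w) = 1 := by
    set κ := com (σ e1) (σ e2) with hκ
    have hall : ∀ v w, v ≠ 1 → w ≠ 1 → w ≠ v → com (σ v) (σ w) = κ := by
      intro v w hv hw hvw
      obtain ⟨u, h1, h2⟩ := transitive_pairs h168 ρ hd.bij hv hw hvw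
      obtain ⟨g, rfl⟩ := QuotientGroup.mk_surjective u
      have hcg : ∀ z, cls (g * (σ z : X) * g⁻¹) (Subgroup.Normal.conj_mem inferInstance _ (σ z).2 g)
          = cls (σ (ρ (g : X ⧸ Cfsg.pCore 2 X) z)) (σ _).2 := fun z => by
        rw [hconj g _ (σ z).2, hσ, hσ, hd.equiv]
      have e1' := hcomcongr _ (σ v).2 _ (σ w).2 _ (Subgroup.Normal.conj_mem inferInstance _ (σ e2).2 g)
        (by rw [hcg, h2])
      have e2' := hcomcongr _ (Subgroup.Normal.conj_mem inferInstance _ (σ e2).2 g) _ (σ v).2 _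
        (Subgroup.Normal.conj_mem inferInstance _ (σ e1).2 g) (by rw [hcg, h1])
      rw [hcoms _ (σ v).2 _ (Subgroup.Normal.conj_mem inferInstance _ (σ e2).2 g)] at e2'
      rw [e1', e2', hcomconj g _ (σ e2).2 _ (σ e1).2, hκ, hcoms _ (σ e1).2 _ (σ e2).2]
    have hκ1 : κ = 1 := by
      have h := hσadd _ (σ e1).2 e2 e3
      rw [hall e1 (e2 * e3) (by decide) (by decide) (by decide), hall e1 e3 (by decide) (by decide) (by decide),
        ← hκ, hκ, hcom2 _ (σ e1).2 _ (σ e2).2] at h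
      exact hκ.trans h
    intro v w
    have hone : ∀ a (_ : a ∈ Qc), com a (σ 1) = 1 := fun a ha => by
      rw [hcomcongr a ha _ (σ 1).2 1 (Qc).one_mem (by
        rw [hσ, map_one]; exact Subtype.ext (map_one π0).symm)]
      show ⁅p a, p 1⁆ = 1
      rw [map_one, commutatorElement_one_right]
    rcases eq_or_ne v 1 with rfl | hv
    · rw [hcoms _ (σ w).2 _ (σ 1).2]; exact hone _ (σ w).2
    rcases eq_or_ne w 1 with rfl | hw
    · exact hone _ (σ v).2
    rcases eq_or_ne w v with rfl | hvw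
    · exact commutatorElement_self _
    rw [hall v w hv hw hvw, hκ1]
  have hVcom : ∀ a (ha : a ∈ Qc) b (hb' : b ∈ Qc), cls a ha ∈ i.range → cls b hb' ∈ i.range → com a b = 1 := by
    intro a ha b hb' ⟨v, hv⟩ ⟨w, hw⟩
    rw [hcomcongr a ha b hb' _ (σ w).2 (by rw [hσ, hw]), hcoms _ (σ w).2 a ha,
      hcomcongr _ (σ w).2 a ha _ (σ v).2 (by rw [hσ, hv])]
    exact hcσ w v
  have ha0V : ∀ v, com a₀ (σ v) = 1 := by
    have hinv : ∀ (g : X) v, com a₀ (σ (ρ (g : X ⧸ Cfsg.pCore 2 X) v)) = com a₀ (σ v) := by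
      intro g v
      have hg0 := Subgroup.Normal.conj_mem (inferInstance : (Qc).Normal) a₀ ha₀ g
      have hgv := Subgroup.Normal.conj_mem (inferInstance : (Qc).Normal) _ (σ v).2 g
      have hd' : cls (a₀⁻¹ * (g * a₀ * g⁻¹)) ((Qc).mul_mem ((Qc).inv_mem ha₀) hg0) ∈ i.range := by
        have e : cls (a₀⁻¹ * (g * a₀ * g⁻¹)) ((Qc).mul_mem ((Qc).inv_mem ha₀) hg0)
            = (cls a₀ ha₀)⁻¹ * φ (g : X ⧸ Cfsg.pCore 2 X) (cls a₀ ha₀) := by
          rw [← hconj g a₀ ha₀]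
          exact Subtype.ext (by show π0 (a₀⁻¹ * (g * a₀ * g⁻¹)) = _; rw [map_mul, map_inv]; rfl)
        rw [e, Subgroup.mul_mem_iff_of_index_two hidx, inv_mem_iff]
        refine iff_of_false ha₀V fun h => ?_
        obtain ⟨z, hz⟩ := h
        apply ha₀V
        refine ⟨ρ (g : X ⧸ Cfsg.pCore 2 X)⁻¹ z, ?_⟩
        rw [← hd.equiv, hz, map_inv, MulAut.inv_apply_self]
      have hsV : cls (σ (ρ (g : X ⧸ Cfsg.pCore 2 X) v)) (σ _).2 ∈ i.range := ⟨_, (hσ _).symm⟩
      calc com a₀ (σ (ρ (g : X ⧸ Cfsg.pCore 2 X) v))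
          = com (g * a₀ * g⁻¹) (σ (ρ (g : X ⧸ Cfsg.pCore 2 X) v)) := by
            rw [hcoms _ (σ _).2 _ hg0, hcoms _ (σ _).2 _ ha₀,
              show g * a₀ * g⁻¹ = a₀ * (a₀⁻¹ * (g * a₀ * g⁻¹)) by rw [mul_inv_cancel_left],
              hcomr _ (σ _).2 _ ha₀ _ ((Qc).mul_mem ((Qc).inv_mem ha₀) hg0),
              hVcom _ (σ _).2 _ ((Qc).mul_mem ((Qc).inv_mem ha₀) hg0) hsV hd', mul_one]
        _ = com (g * a₀ * g⁻¹) (g * (σ v : X) * g⁻¹) :=
            hcomcongr _ hg0 _ (σ _).2 _ hgv (by rw [hσ, hconj g _ (σ v).2, hσ, hd.equiv])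
        _ = _ := hcomconj g _ ha₀ _ (σ v).2
    have hconst : ∀ v, v ≠ 1 → com a₀ (σ v) = com a₀ (σ e1) := fun v hv => by
      obtain ⟨u, rfl⟩ := transitive h168 ρ hd.bij hv
      obtain ⟨g, rfl⟩ := QuotientGroup.mk_surjective u
      exact hinv g e1
    intro v
    rcases eq_or_ne v 1 with rfl | hv
    · rw [hcomcongr a₀ ha₀ _ (σ 1).2 1 (Qc).one_mem (by
        rw [hσ, map_one]; exact Subtype.ext (map_one π0).symm)]
      show ⁅p a₀, p 1⁆ = 1
      rw [map_one, commutatorElement_one_right]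
    · rw [hconst v hv]
      have h := hσadd a₀ ha₀ e1 e2
      rw [hconst (e1 * e2) (by decide), hconst e2 (by decide), hcom2 a₀ ha₀ _ (σ e1).2] at h
      exact h
  have hab : ∀ a ∈ Qc, ∀ b ∈ Qc, p a * p b = p b * p a := by
    have hsplit : ∀ a (ha : a ∈ Qc), ∃ w, cls a ha = i w ∨ cls a ha = cls a₀ ha₀ * i w := by
      intro a ha
      by_cases h : cls a ha ∈ i.range
      · obtain ⟨w, hw⟩ := h; exact ⟨w, Or.inl hw.symm⟩
      · obtain ⟨w, hw⟩ : (cls a₀ ha₀)⁻¹ * cls a ha ∈ i.range := by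
          rw [Subgroup.mul_mem_iff_of_index_two hidx, inv_mem_iff]; exact iff_of_false ha₀V h
        exact ⟨w, Or.inr (by rw [hw, mul_inv_cancel_left])⟩
    have hred : ∀ a (ha : a ∈ Qc), com a₀ a = 1 ∧ ∀ v, com (σ v) a = 1 := by
      intro a ha
      obtain ⟨w, hw | hw⟩ := hsplit a ha
      · rw [hcomcongr a₀ ha₀ a ha _ (σ w).2 (by rw [hσ, hw])]
        refine ⟨ha0V w, fun v => ?_⟩
        rw [hcomcongr _ (σ v).2 a ha _ (σ w).2 (by rw [hσ, hw])]
        exact hcσ v w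
      · have hb' := (Qc).mul_mem ha₀ (σ w).2
        rw [hcomcongr a₀ ha₀ a ha _ hb' (by rw [hclsmul _ _ ha₀ (σ w).2, hσ, hw]), hcomr a₀ ha₀ _ ha₀ _ (σ w).2, ha0V]
        refine ⟨by rw [mul_one]; exact commutatorElement_self _, fun v => ?_⟩
        rw [hcomcongr _ (σ v).2 a ha _ hb' (by rw [hclsmul _ _ ha₀ (σ w).2, hσ, hw]), hcomr _ (σ v).2 _ ha₀ _ (σ w).2,
          hcσ, mul_one, hcoms _ ha₀ _ (σ v).2]
        exact ha0V v
    intro a ha b hb'
    rw [← commutatorElement_eq_one_iff_mul_comm]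
    show com a b = 1
    rw [hcoms _ hb' a ha]
    obtain ⟨w, hw | hw⟩ := hsplit a ha
    · rw [hcomcongr b hb' a ha _ (σ w).2 (by rw [hσ, hw]), hcoms _ (σ w).2 b hb']
      exact (hred b hb').2 w
    · rw [hcomcongr b hb' a ha _ ((Qc).mul_mem ha₀ (σ w).2) (by rw [hclsmul _ _ ha₀ (σ w).2, hσ, hw]),
        hcomr b hb' _ ha₀ _ (σ w).2, hcoms _ ha₀ b hb', hcoms _ (σ w).2 b hb', (hred b hb').1,
        (hred b hb').2 w, mul_one]
  -- the configuration with an element of order eight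
  let π : X ⧸ N₂ →* X ⧸ Φc := QuotientGroup.map N₂ Φc (MonoidHom.id X) (hN₂₀.trans hN₀Φ)
  let δ : X ⧸ N₂ →* X ⧸ Cfsg.pCore 2 X :=
    QuotientGroup.map N₂ Qc (MonoidHom.id X) ((hN₂₀.trans hN₀Φ).trans hΦQ)
  let Q1 : Subgroup (X ⧸ N₂) := (((i.range).map (Wc).subtype).comap π0 ⊓ Qc).map p
  have hQ1mem : ∀ a (ha : a ∈ Qc), cls a ha ∈ i.range → p a ∈ Q1 := fun a ha h =>
    ⟨a, ⟨⟨_, h, rfl⟩, ha⟩, rfl⟩
  have hQ1get : ∀ y ∈ Q1, ∃ a, ∃ ha : a ∈ Qc, cls a ha ∈ i.range ∧ p a = y := by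
    rintro _ ⟨a, ⟨⟨w, hw, hwe⟩, ha⟩, rfl⟩
    exact ⟨a, ha, by rwa [show cls a ha = w from Subtype.ext hwe.symm], rfl⟩
  have hQ1n : Q1.Normal := ⟨fun y hy u => by
    obtain ⟨a, ha, hV, rfl⟩ := hQ1get y hy
    obtain ⟨g, rfl⟩ := QuotientGroup.mk'_surjective N₂ u
    rw [← map_mul, ← map_inv, ← map_mul]
    refine hQ1mem _ (Subgroup.Normal.conj_mem inferInstance a ha g) ?_
    rw [hconj g a ha]
    obtain ⟨v, hv⟩ := hV
    exact ⟨ρ _ v, by rw [← hd.equiv, hv]⟩⟩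
  let e : V3 ≃* i.range := MonoidHom.ofInjective hd.inj
  have hζmem : ∀ y : Q1, π (y : X ⧸ N₂) ∈ (i.range).map (Wc).subtype := fun y => by
    obtain ⟨a, ha, hV, he⟩ := hQ1get y y.2
    rw [← he]
    exact ⟨_, hV, rfl⟩
  let ζ : Q1 →* V3 :=
    (e.symm.toMonoidHom.comp ((Subgroup.equivMapOfInjective i.range _
      (Subgroup.subtype_injective Wc)).symm.toMonoidHom)).comp ((π.comp Q1.subtype).codRestrict _ hζmem)
  have hiζ : ∀ y : Q1, ((i (ζ y) : ↥Wc) : X ⧸ Φc) = π (y : X ⧸ N₂) := fun y => by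
    have h1 := e.apply_symm_apply ((Subgroup.equivMapOfInjective i.range _
      (Subgroup.subtype_injective Wc)).symm ⟨_, hζmem y⟩)
    have h2 := congrArg (fun w : i.range => ((w : ↥Wc) : X ⧸ Φc)) h1
    refine Eq.trans ?_ (congrArg Subtype.val ((Subgroup.equivMapOfInjective i.range _
      (Subgroup.subtype_injective Wc)).apply_symm_apply ⟨_, hζmem y⟩))
    exact h2.trans rfl
  have hζeq : ∀ (y : Q1) v, π (y : X ⧸ N₂) = ((i v : ↥Wc) : X ⧸ Φc) → ζ y = v := fun y v h =>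
    hd.inj (Subtype.ext ((hiζ y).trans h))
  refine exclude_eight (sectional_of_surjective p (QuotientGroup.mk'_surjective _) h4) (ρ.comp δ)
    (fun m => ?_) ((Qc).map p) Q1 ?_ ?_ ?_ x ?_ ?_ hx4 hx2 ?_ ?_ ?_ ζ ?_ ?_ ?_
  · obtain ⟨u, hu⟩ := hd.bij.2 m
    obtain ⟨g, rfl⟩ := QuotientGroup.mk_surjective u
    exact ⟨p g, hu⟩
  · ext y
    obtain ⟨g, rfl⟩ := QuotientGroup.mk'_surjective N₂ y
    rw [MonoidHom.mem_ker]
    constructor
    · intro h
      exact ⟨g, (QuotientGroup.eq_one_iff g).1 (hd.bij.1 (h.trans (map_one ρ).symm)), rfl⟩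
    · rintro ⟨q, hq, he⟩
      have h' : δ (p q) = 1 := (QuotientGroup.eq_one_iff q).2 hq
      rw [he] at h'
      show ρ (δ _) = 1
      rw [h', map_one]
  · rintro _ ⟨a, ha, rfl⟩ _ ⟨b, hb', rfl⟩; exact hab a ha b hb'
  · exact Subgroup.map_mono inf_le_right
  · refine hQ1mem f₀ (hΦQ hf₀Φ) ?_
    rw [show cls f₀ (hΦQ hf₀Φ) = 1 from Subtype.ext ((QuotientGroup.eq_one_iff f₀).2 hf₀Φ)]
    exact i.range.one_mem
  · intro y
    obtain ⟨g, rfl⟩ := QuotientGroup.mk'_surjective N₂ y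
    exact hxall g
  · rintro _ ⟨a, ha, rfl⟩
    rw [← map_mul]; exact hzx _ (sq_mem_phi ha)
  · rintro _ ⟨a, ha, rfl⟩ h
    refine hQ1mem a ha ?_
    by_contra haV
    obtain ⟨m, hm, he⟩ : ∃ m ∈ N₀, p (a * a) = p m * x :=
      ⟨_, hpair _ (sq_mem_phi ha) f₀ hf₀Φ (hout a ha haV) ha₀2, by rw [hx, ← map_mul, inv_mul_cancel_right]⟩
    rw [← map_mul, he] at h
    apply hx2
    calc x * x = p m * p m * (x * x) := by rw [hMs m hm, one_mul]
      _ = p m * (p m * x) * x := by simp only [mul_assoc]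
      _ = p m * (x * p m) * x := by rw [hMc m hm f₀ (hΦQ hf₀Φ)]
      _ = 1 := by rw [← h]; simp only [mul_assoc]
  · intro y hy
    obtain ⟨a, ha, hV, rfl⟩ := hQ1get y hy
    rw [← map_mul]; exact hN0img _ (hVsq a ha hV)
  · intro v
    refine ⟨⟨p (σ v : X), hQ1mem _ (σ v).2 ⟨v, (hσ v).symm⟩⟩, hζeq _ v ?_⟩
    exact congrArg Subtype.val (hσ v)
  · intro u y
    obtain ⟨g, rfl⟩ := QuotientGroup.mk'_surjective N₂ u
    refine hζeq _ _ ?_
    show π ((MulAut.conjNormal (p g) y : Q1) : X ⧸ N₂) = ((i (ρ (g : X ⧸ Cfsg.pCore 2 X) (ζ y)) : ↥Wc) : X ⧸ Φc)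
    rw [← hd.equiv, hb.spec, MulAut.conjNormal_apply, MulAut.conjNormal_apply, map_mul, map_mul, map_inv,
      hiζ y]
    rfl
  · intro y
    obtain ⟨a, ha, hV, he⟩ := hQ1get y y.2
    have haπ : π (y : X ⧸ N₂) = π0 a := by rw [← he]; rfl
    constructor
    · intro h
      have h' := hiζ y
      rw [h, map_one, OneMemClass.coe_one, haπ] at h'
      rw [← he]
      exact hzx a ((QuotientGroup.eq_one_iff a).1 h'.symm)
    · intro h
      refine hζeq y 1 ?_
      rw [map_one, OneMemClass.coe_one]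
      obtain ⟨k, hk⟩ := h
      rw [← hk]
      show π (x ^ k) = 1
      rw [map_zpow, show π x = 1 from (QuotientGroup.eq_one_iff f₀).2 hf₀Φ, one_zpow]

include h168 h4 hb in
theorem radical_structure' :
    (Cfsg.IsElementaryAbelian 2 (Cfsg.pCore 2 X) ∧
        (Nat.card ↥(Cfsg.pCore 2 X) = 8 ∨ Nat.card ↥(Cfsg.pCore 2 X) = 16)) ∨
      Nonempty (↥(Cfsg.pCore 2 X) ≃* Multiplicative (ZMod 4) × (Fin 3 → Multiplicative (ZMod 2))) := by
  have hΦQ : Φc ≤ Qc := phiCore_le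
  let θ0 : Qc →* ↥Wc := (π0).subgroupMap Qc
  have hθ0 : Function.Surjective θ0 := (π0).subgroupMap_surjective Qc
  have hθ0k : ∀ a : Qc, θ0 a = 1 ↔ (a : X) ∈ Φc := fun a => by
    rw [Subtype.ext_iff]; exact QuotientGroup.eq_one_iff (a : X)
  have hcardQ : Nat.card Qc = Nat.card Φc * Nat.card ↥Wc := by
    rw [← Subgroup.card_mul_index θ0.ker, Subgroup.index_ker, MonoidHom.range_eq_top.2 hθ0, Subgroup.card_top]
    congr 1
    rw [show θ0.ker = (Φc).subgroupOf Qc by ext a; exact hθ0k a]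
    exact Nat.card_congr (Subgroup.subgroupOfEquivOfLe hΦQ).toEquiv
  by_cases hz : Φc ≤ ⁅Φc, Qc⁆ ⊔ Subgroup.closure ((fun x => x * x) '' (Φc : Set X))
  · have hbot := RankFourA5.eq_bot_of_squares _ _ Grp.pCore_isPGroup hΦQ hz
    have hexp : ∀ q : ↥(Qc), q * q = 1 := fun q => by
      have := sq_mem_phi q.2
      rw [hbot, Subgroup.mem_bot] at this
      exact Subtype.ext this
    refine Or.inl ⟨⟨⟨⟨comm_of_sq hexp⟩⟩, fun a ha => ?_⟩, ?_⟩
    · rw [sq]; exact congrArg Subtype.val (hexp ⟨a, ha⟩)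
    · have h1 : Nat.card Φc = 1 := by rw [hbot]; exact Subgroup.card_bot
      rw [hcardQ, h1, one_mul]
      exact card_eight_or_sixteen h168 hb.exp φ hb.ne hb.le
  · right
    have := RankFourA5.closure_squares_normal (phiCore X)
    set N₀ := ⁅Φc, Qc⁆ ⊔ Subgroup.closure ((fun x => x * x) '' (Φc : Set X)) with hN₀
    have hN₀n : N₀.Normal := Subgroup.sup_normal _ _
    have hN₀Φ : N₀ ≤ Φc := sup_le (Subgroup.commutator_le_left _ _) ((Subgroup.closure_le _).2 (by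
      rintro _ ⟨f, hf, rfl⟩; exact (Φc).mul_mem hf hf))
    have hN₀bot := layer_eq_bot h168 h4 hb N₀ rfl hN₀Φ hz
    obtain ⟨i, ρ, h16, hd, hpair, hQN, hVsq⟩ := (stage h168 h4 hb N₀ hN₀Φ
      (fun f hf q hq => Subgroup.mem_sup_left (Subgroup.commutator_mem_commutator hf hq))
      (fun f hf => Subgroup.mem_sup_right (Subgroup.subset_closure ⟨f, hf, rfl⟩))).resolve_left hz
    have h1 : ∀ f, f ∈ N₀ ↔ f = 1 := fun f => by rw [hN₀bot, Subgroup.mem_bot]
    simp only [h1, mul_inv_eq_one] at hpair hQN hVsq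
    obtain ⟨a₀, ha₀, ha₀2⟩ : ∃ a ∈ Qc, a * a ≠ 1 := by
      by_contra! h
      apply hz
      rw [RankFourA5.phiCore_eq_closure_squares, Subgroup.closure_le]
      rintro _ ⟨y, hy, rfl⟩
      show y * y ∈ N₀
      rw [h y hy]; exact N₀.one_mem
    have hf₀ := sq_mem_phi ha₀
    have hf₀2 : a₀ * a₀ * (a₀ * a₀) = 1 :=
      (h1 _).1 (Subgroup.mem_sup_right (Subgroup.subset_closure ⟨_, hf₀, rfl⟩))
    have hΦ : ∀ f ∈ Φc, f = 1 ∨ f = a₀ * a₀ := fun f hf => by
      by_cases hf1 : f = 1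
      · exact Or.inl hf1
      · exact Or.inr (hpair f hf _ hf₀ hf1 ha₀2)
    have hΦcard : Nat.card Φc = 2 := by
      have hset : (Φc : Set X) = {1, a₀ * a₀} := by
        ext f
        simp only [SetLike.mem_coe, Set.mem_insert_iff, Set.mem_singleton_iff]
        exact ⟨hΦ f, fun h => by rcases h with rfl | rfl; exacts [one_mem _, hf₀]⟩
      rw [← Set.ncard_pair (Ne.symm ha₀2), ← hset, ← Nat.card_coe_set_eq]; rfl
    let cgQ : CommGroup Qc := { (inferInstance : Group Qc) with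
      mul_comm := fun a b => Subtype.ext (commutatorElement_eq_one_iff_mul_comm.1 (hQN a a.2 b b.2)) }
    let A : Qc := ⟨a₀, ha₀⟩
    have hs : ∀ v, ∃ b : Qc, θ0 b = i v := fun v => hθ0 (i v)
    choose σ hσ using hs
    have hσ2 : ∀ v, σ v * σ v = 1 := fun v => Subtype.ext (hVsq (σ v : X) (σ v).2 ⟨v, (hσ v).symm⟩)
    have hA4 : A ^ 4 = 1 := Subtype.ext (by
      show a₀ ^ 4 = 1
      rw [show (4 : ℕ) = 2 + 2 from rfl, pow_add, sq]; exact hf₀2)
    have hp4 : ∀ (k l : ZMod 4), A ^ (k + l).val = A ^ k.val * A ^ l.val := fun k l => by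
      rw [ZMod.val_add, ← pow_add]; exact (pow_eq_pow_mod _ hA4).symm
    have hp2 : ∀ v (k l : ZMod 2), σ v ^ (k + l).val = σ v ^ k.val * σ v ^ l.val := fun v k l => by
      rw [ZMod.val_add, ← pow_add]
      exact (pow_eq_pow_mod _ (by rw [sq]; exact hσ2 v)).symm
    let bas : Fin 3 → V3 := ![e1, e2, e3]
    let F : Multiplicative (ZMod 4) × (Fin 3 → Multiplicative (ZMod 2)) →* Qc :=
      { toFun := fun x => A ^ (Multiplicative.toAdd x.1).val *
          (σ (bas 0) ^ (Multiplicative.toAdd (x.2 0)).val * σ (bas 1) ^ (Multiplicative.toAdd (x.2 1)).val *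
            σ (bas 2) ^ (Multiplicative.toAdd (x.2 2)).val)
        map_one' := by simp
        map_mul' := fun x y => by
          simp only [Prod.fst_mul, Prod.snd_mul, Pi.mul_apply, toAdd_mul, hp4, hp2]
          ac_rfl }
    have hdecW : ∀ w : ↥Wc, ∃ (j : Fin 2) (v : V3), w = θ0 A ^ (j : ℕ) * i v := by
      intro w
      by_cases h : w ∈ i.range
      · obtain ⟨v, rfl⟩ := h; exact ⟨0, v, by simp⟩
      · have hA' : θ0 A ∉ i.range := fun h' => ha₀2 (hVsq a₀ ha₀ h')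
        obtain ⟨v, hv⟩ : (θ0 A)⁻¹ * w ∈ i.range := by
          rw [Subgroup.mul_mem_iff_of_index_two (hd.index h16), inv_mem_iff]; exact iff_of_false hA' h
        exact ⟨1, v, by simp [hv]⟩
    have hcoord : ∀ v : V3, ∃ a b c : Fin 2, v = e1 ^ (a : ℕ) * e2 ^ (b : ℕ) * e3 ^ (c : ℕ) := by decide
    have hFs : Function.Surjective F := by
      intro q
      obtain ⟨j, v, hjv⟩ := hdecW (θ0 q)
      obtain ⟨a, b, c, rfl⟩ := hcoord v
      set pt : Multiplicative (ZMod 4) × (Fin 3 → Multiplicative (ZMod 2)) :=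
        (Multiplicative.ofAdd ((j : ℕ) : ZMod 4), ![Multiplicative.ofAdd ((a : ℕ) : ZMod 2),
          Multiplicative.ofAdd ((b : ℕ) : ZMod 2), Multiplicative.ofAdd ((c : ℕ) : ZMod 2)]) with hpt
      have hval : ∀ j : Fin 2, ((j : ℕ) : ZMod 4).val = (j : ℕ) ∧ ((j : ℕ) : ZMod 2).val = (j : ℕ) := by decide
      have hFpt : θ0 (F pt) = θ0 q := by
        rw [hjv]
        show θ0 (A ^ _ * (σ e1 ^ _ * σ e2 ^ _ * σ e3 ^ _)) = _
        simp only [hpt, toAdd_ofAdd, Matrix.cons_val_zero, Matrix.cons_val_one, Matrix.cons_val_two,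
          Matrix.head_cons, Matrix.tail_cons, (hval j).1, (hval a).2, (hval b).2, (hval c).2, map_mul, map_pow, hσ]
      have hk : θ0 ((F pt)⁻¹ * q) = 1 := by rw [map_mul, map_inv, hFpt, inv_mul_cancel]
      rcases hΦ _ ((hθ0k _).1 hk) with h | h
      · exact ⟨pt, (inv_mul_eq_one.1 (Subtype.ext h))⟩
      · refine ⟨pt * (Multiplicative.ofAdd 2, 1), ?_⟩
        have h2 : F (Multiplicative.ofAdd 2, 1) = A * A := by
          show A ^ (2 : ZMod 4).val * _ = _
          simp [show (2 : ZMod 4).val = 2 from rfl, sq]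
        rw [map_mul, h2, show A * A = (F pt)⁻¹ * q from Subtype.ext h.symm, mul_inv_cancel_left]
    have hcard : Nat.card (Multiplicative (ZMod 4) × (Fin 3 → Multiplicative (ZMod 2))) = Nat.card Qc := by
      rw [hcardQ, hΦcard, h16, Nat.card_eq_fintype_card]; rfl
    exact ⟨(MulEquiv.ofBijective F ((Nat.bijective_iff_surjective_and_card F).2 ⟨hFs, hcard⟩)).symm⟩

end

/-- The two-core when the quotient is simple of order 168. -/
theorem radical_structure {X : Type*} [Group X] [Finite X] (hc : Cfsg.IsPConstrained 2 X)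
    (hO : Cfsg.oddCore X = ⊥) (h4 : Cfsg.SectionalPRankLE 2 4 X) {H : Type*} [Group H] [IsSimpleGroup H]
    (h168 : Nat.card H = 168) [(Cfsg.pCore 2 X).Normal] (e : X ⧸ Cfsg.pCore 2 X ≃* H) :
    (Cfsg.IsElementaryAbelian 2 (Cfsg.pCore 2 X) ∧
        (Nat.card ↥(Cfsg.pCore 2 X) = 8 ∨ Nat.card ↥(Cfsg.pCore 2 X) = 16)) ∨
      Nonempty (↥(Cfsg.pCore 2 X) ≃* Multiplicative (ZMod 4) × (Fin 3 → Multiplicative (ZMod 2))) := by
  have hcard : Nat.card (X ⧸ Cfsg.pCore 2 X) = 168 := (Nat.card_congr e.toEquiv).trans h168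
  have : Nontrivial (X ⧸ Cfsg.pCore 2 X) := Finite.one_lt_card_iff_nontrivial.1 (by omega)
  have : IsSimpleGroup (X ⧸ Cfsg.pCore 2 X) :=
    IsSimpleGroup.isSimpleGroup_of_surjective e.symm.toMonoidHom e.symm.surjective
  have : (phiCore X).Normal := phiCore_normal
  have : ((Cfsg.pCore 2 X).map (QuotientGroup.mk' (phiCore X))).Normal := (core_quotient hc hO).1
  obtain ⟨φ, hb⟩ := exists_base hc hO h4
  exact radical_structure' hcard h4 hb

end Cfsg.Agent.Block.RankFourL32
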